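import Groth.Agent.L22.Gamma.Free
import Mathlib.RingTheory.MvPolynomial.Basic

/-!
The degree-`d` divided power algebra of a free algebra, and presentations of divided power algebras.
-/

universe u

open scoped TensorProduct
open Module

namespace Groth.L22.Gamma

variable {A : Type u} [CommRing A] {P : Type u} [CommRing P] [Algebra A P] {ι : Type u} {d : ℕ}

theorem mem_TS_iff {t : ⨂[A] _ : Fin d, P} : t ∈ SymTen.TS A P d ↔ t ∈ symT A P d := Iff.rfl

theorem symLift_mem {P N : Type u} [AddCommGroup P] [Module A P] [AddCommGroup N] [Module A N]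
    (e : Basis ι A P) (h : (ι →₀ ℕ) → N) (S : Submodule A N) (hS : ∀ ν, h ν ∈ S) (t : TP A P d) :
    symLift d e h t ∈ S := by
  classical
  rw [symLift, Basis.constr_apply]
  refine Submodule.sum_mem _ fun c _ => Submodule.smul_mem _ _ ?_
  dsimp only
  split_ifs <;> first | exact hS _ | exact zero_mem _

/-- The retraction of the tensor power onto the symmetric tensors. -/
noncomputable def retr (d : ℕ) (e : Basis ι A P) :
    (⨂[A] _ : Fin d, P) →ₗ[A] SymTen.TS A P d :=
  (symLift d e (sym A d e)).codRestrict (Subalgebra.toSubmodule (SymTen.TS A P d)) fun t =>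
    mem_TS_iff.mpr (symLift_mem e _ (symT A P d) (fun ν => sym_mem _ ν) t)

theorem symLift_self {P : Type u} [AddCommGroup P] [Module A P] (e : Basis ι A P) {t : TP A P d}
    (ht : t ∈ symT A P d) : symLift d e (sym A d e) t = t :=
  eq_on_symT e (g := LinearMap.id) (fun ν => by
    by_cases hν : (ν.sum fun _ k => k) = d
    · exact symLift_sym e _ (exists_cnt_eq ν hν)
    · rw [sym_eq_zero e hν, map_zero, map_zero]) ht

theorem retr_val (e : Basis ι A P) (z : SymTen.TS A P d) :
    retr d e ((SymTen.TS A P d).val z) = z :=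
  Subtype.ext (symLift_self e z.2)

theorem lTensor_val_injective (e : Basis ι A P) (S : Type u) [CommSemiring S] [Algebra A S] :
    Function.Injective ((SymTen.TS A P d).val.toLinearMap.lTensor S) := by
  refine Function.LeftInverse.injective (g := (retr d e).lTensor S) fun x => ?_
  rw [← LinearMap.lTensor_comp_apply]
  have : retr d e ∘ₗ (SymTen.TS A P d).val.toLinearMap = LinearMap.id :=
    LinearMap.ext fun z => retr_val e z
  rw [this, LinearMap.lTensor_id, LinearMap.id_apply]

theorem postcomp_val_retr (e : Basis ι A P) :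
    PolLaw.postcomp (SymTen.TS A P d).val.toLinearMap
      (PolLaw.postcomp (retr d e) (SymTen.tpowLaw A P d).law) = (SymTen.tpowLaw A P d).law := by
  refine ext_of_coef (isHomog_postcomp (isHomog_postcomp (SymTen.tpowLaw A P d).homog _) _)
    (SymTen.tpowLaw A P d).homog e.span_eq fun ν _ => ?_
  rw [coef_postcomp, coef_postcomp, coef_tpowLaw]
  exact symLift_self e (sym_mem _ ν)

/-- The law `x ↦ x ⊗ ⋯ ⊗ x` into the symmetric tensors of a free algebra. -/
noncomputable def tauFree (d : ℕ) (e : Basis ι A P) :
    PolLaw.MulLaw A P (SymTen.TS A P d) d where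
  law := PolLaw.postcomp (retr d e) (SymTen.tpowLaw A P d).law
  homog := isHomog_postcomp (SymTen.tpowLaw A P d).homog _
  mult S _ _ := by
    have hv : ∀ x, (SymTen.TS A P d).val.toLinearMap.lTensor S
        ((PolLaw.postcomp (retr d e) (SymTen.tpowLaw A P d).law).toFun' S x) =
          (SymTen.tpowLaw A P d).law.toFun' S x :=
      fun x => congr_fun (congrArg (fun F : P →ₚₗ[A] (⨂[A] _ : Fin d, P) => F.toFun' S)
        (postcomp_val_retr e)) x
    refine ⟨lTensor_val_injective e S ?_, fun x y => lTensor_val_injective e S ?_⟩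
    · rw [hv, ((SymTen.tpowLaw A P d).mult S).1, PolLaw.lTensor_algHom_apply, map_one]
    · rw [hv, ((SymTen.tpowLaw A P d).mult S).2, PolLaw.lTensor_algHom_apply, map_mul,
        ← PolLaw.lTensor_algHom_apply, ← PolLaw.lTensor_algHom_apply, hv, hv]

theorem coef_tauFree (e : Basis ι A P) {κ : Type u} (v : κ → P) (ν : κ →₀ ℕ) :
    (SymTen.TS A P d).val (coef (tauFree d e).law v ν) = sym A d v ν := by
  have h : PolLaw.postcomp (SymTen.TS A P d).val.toLinearMap (tauFree d e).law =
      (SymTen.tpowLaw A P d).law := postcomp_val_retr e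
  rw [← coef_tpowLaw, ← h, coef_postcomp]
  rfl

theorem span_coef_tauFree (e : Basis ι A P) :
    Submodule.span A (Set.range fun ν => coef (tauFree d e).law e ν) = ⊤ := by
  rw [eq_top_iff]
  rintro z -
  have hz := Submodule.mem_map_of_mem (f := retr d e) (symT_le_span e (mem_TS_iff.mp z.2))
  rw [Submodule.map_span, ← Set.range_comp] at hz
  change retr d e ((SymTen.TS A P d).val z) ∈ _ at hz
  rw [retr_val] at hz
  refine Submodule.span_mono ?_ hz
  rintro _ ⟨ν, rfl⟩
  refine ⟨ν, ?_⟩
  change coef (tauFree d e).law e ν = retr d e (sym A d e ν)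
  rw [← coef_tauFree e, retr_val]

/-! ### Multiplicativity -/

section Mult

variable {C D : Type u} [CommRing C] [Algebra A C] [CommRing D] [Algebra A D]

theorem cof_rTensor_mul (ν μ : ι →₀ ℕ) (x y : MvPolynomial ι A ⊗[A] D) :
    cof (ν.mapDomain Sum.inl + μ.mapDomain Sum.inr)
      ((MvPolynomial.rename (R := A) (Sum.inl : ι → ι ⊕ ι)).toLinearMap.rTensor D x *
        (MvPolynomial.rename (R := A) (Sum.inr : ι → ι ⊕ ι)).toLinearMap.rTensor D y) =
      cof ν x * cof μ y := by
  classical
  have hc : ∀ p q : MvPolynomial ι A, MvPolynomial.coeff (ν.mapDomain Sum.inl + μ.mapDomain Sum.inr)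
      (MvPolynomial.rename (Sum.inl : ι → ι ⊕ ι) p * MvPolynomial.rename Sum.inr q) =
        MvPolynomial.coeff ν p * MvPolynomial.coeff μ q := by
    intro p q
    induction p using MvPolynomial.induction_on' with
    | add p p' hp hp' => rw [map_add, add_mul, MvPolynomial.coeff_add, hp, hp',
        MvPolynomial.coeff_add, add_mul]
    | monomial a r =>
      induction q using MvPolynomial.induction_on' with
      | add q q' hq hq' => rw [map_add, mul_add, MvPolynomial.coeff_add, hq, hq',
          MvPolynomial.coeff_add, mul_add]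
      | monomial b s =>
        rw [MvPolynomial.rename_monomial, MvPolynomial.rename_monomial, MvPolynomial.monomial_mul,
          MvPolynomial.coeff_monomial, MvPolynomial.coeff_monomial, MvPolynomial.coeff_monomial]
        by_cases ha : a = ν
        · by_cases hb : b = μ
          · simp [ha, hb]
          · rw [if_neg hb, mul_zero, if_neg]
            intro h
            refine hb (Finsupp.ext fun i => ?_)
            have := DFunLike.congr_fun h (Sum.inr i)
            simpa [Finsupp.mapDomain_apply Sum.inr_injective,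
              Finsupp.mapDomain_notin_range] using this
        · rw [if_neg ha, zero_mul, if_neg]
          intro h
          refine ha (Finsupp.ext fun i => ?_)
          have := DFunLike.congr_fun h (Sum.inl i)
          simpa [Finsupp.mapDomain_apply Sum.inl_injective,
            Finsupp.mapDomain_notin_range] using this
  induction x using TensorProduct.induction_on with
  | zero => simp
  | add x x' hx hx' => simp only [map_add, add_mul, hx, hx']
  | tmul p a =>
    induction y using TensorProduct.induction_on with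
    | zero => simp
    | add y y' hy hy' => simp only [map_add, mul_add, hy, hy']
    | tmul q b =>
      simp only [LinearMap.rTensor_tmul, AlgHom.toLinearMap_apply,
        Algebra.TensorProduct.tmul_mul_tmul, cof_tmul, hc]
      rw [smul_mul_smul_comm]

/-- A linear map intertwining two multiplicative laws is multiplicative on the span of the
coefficients. -/
theorem map_mul_of_postcomp_eq {τ : PolLaw.MulLaw A P D d} {F : PolLaw.MulLaw A P C d}
    (f : D →ₗ[A] C) (hf : PolLaw.postcomp f τ.law = F.law) {v : ι → P}
    (hspan : Submodule.span A (Set.range fun ν => coef τ.law v ν) = ⊤) :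
    f 1 = 1 ∧ ∀ a b, f (a * b) = f a * f b := by
  have hF : ∀ (S : Type u) [CommSemiring S] [Algebra A S] (x : S ⊗[A] P),
      f.lTensor S (τ.law.toFun' S x) = F.law.toFun' S x := fun S _ _ x =>
    congr_fun (congrArg (fun G : P →ₚₗ[A] C => G.toFun' S) hf) x
  constructor
  · have h := hF A 1
    rw [(τ.mult A).1, (F.mult A).1, Algebra.TensorProduct.one_def, LinearMap.lTensor_tmul] at h
    have h' := congrArg (TensorProduct.lid A C) h
    simpa [Algebra.TensorProduct.one_def] using h'
  have hcoef : ∀ ν μ, f (coef τ.law v ν * coef τ.law v μ) =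
      f (coef τ.law v ν) * f (coef τ.law v μ) := by
    intro ν μ
    have hf' : ∀ κ : ι →₀ ℕ, coef F.law v κ = f (coef τ.law v κ) := fun κ => by
      rw [← coef_postcomp, hf]
    rw [← hf', ← hf']
    simp only [coef]
    rw [← cof_rTensor_mul ν μ, ← cof_lTensor, ← cof_rTensor_mul ν μ]
    congr 1
    simp only [gen, PolynomialLaw.isCompat_apply']
    rw [← (τ.mult _).2, hF, (F.mult _).2]
  intro a b
  have h1 : ∀ ν, ∀ y : D, f (coef τ.law v ν * y) = f (coef τ.law v ν) * f y := fun ν =>
    LinearMap.congr_fun (LinearMap.ext_on_range (hv := hspan)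
      (f := f ∘ₗ LinearMap.mulLeft A (coef τ.law v ν))
      (g := LinearMap.mulLeft A (f (coef τ.law v ν)) ∘ₗ f) fun μ => hcoef ν μ)
  exact LinearMap.congr_fun (LinearMap.ext_on_range (hv := hspan)
    (f := f ∘ₗ LinearMap.mulRight A b) (g := LinearMap.mulRight A (f b) ∘ₗ f) fun ν => h1 ν b) a

theorem postcomp_theta_val (e : Basis ι A P) (F : PolLaw.MulLaw A P C d) :
    PolLaw.postcomp (theta d e F.law ∘ₗ (SymTen.TS A P d).val.toLinearMap) (tauFree d e).law =
      F.law := by
  refine ext_of_coef (isHomog_postcomp (tauFree d e).homog _) F.homog e.span_eq fun ν _ => ?_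
  rw [coef_postcomp, LinearMap.comp_apply, AlgHom.toLinearMap_apply, coef_tauFree]
  exact theta_sym_basis e F.homog ν

/-- The algebra map out of the symmetric tensors of a free algebra attached to a law. -/
noncomputable def thetaHom (e : Basis ι A P) (F : PolLaw.MulLaw A P C d) :
    SymTen.TS A P d →ₐ[A] C :=
  AlgHom.ofLinearMap (theta d e F.law ∘ₗ (SymTen.TS A P d).val.toLinearMap)
    (map_mul_of_postcomp_eq _ (postcomp_theta_val e F) (span_coef_tauFree e)).1
    (map_mul_of_postcomp_eq _ (postcomp_theta_val e F) (span_coef_tauFree e)).2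

theorem thetaHom_apply (e : Basis ι A P) (F : PolLaw.MulLaw A P C d) (z : SymTen.TS A P d) :
    thetaHom e F z = theta d e F.law ((SymTen.TS A P d).val z) := rfl

theorem postcomp_thetaHom (e : Basis ι A P) (F : PolLaw.MulLaw A P C d) :
    PolLaw.postcomp (thetaHom e F).toLinearMap (tauFree d e).law = F.law :=
  postcomp_theta_val e F

theorem eq_thetaHom (e : Basis ι A P) (F : PolLaw.MulLaw A P C d) (g : SymTen.TS A P d →ₐ[A] C)
    (hg : PolLaw.postcomp g.toLinearMap (tauFree d e).law = F.law) : g = thetaHom e F :=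
  AlgHom.toLinearMap_injective (LinearMap.ext_on_range (hv := span_coef_tauFree e) fun ν => by
    rw [← coef_postcomp, ← coef_postcomp, hg, postcomp_thetaHom])

variable {B : Type u} [CommRing B] [Algebra A B]

/-- A multiplicative law descends along a surjection of algebras when it is constant on the
fibres of the base-changed maps. -/
theorem exists_descend' (F : PolLaw.MulLaw A P C d) (π : P →ₐ[A] B) (hπ : Function.Surjective π)
    (h : ∀ (S : Type u) [CommSemiring S] [Algebra A S] (x y : S ⊗[A] P),
      π.toLinearMap.lTensor S x = π.toLinearMap.lTensor S y →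
        F.law.toFun' S x = F.law.toFun' S y) :
    ∃ G : PolLaw.MulLaw A B C d, (G.precomp π).law = F.law := by
  let G := descend F.law π.toLinearMap hπ h
  have hG : ∀ (S : Type u) [CommSemiring S] [Algebra A S] (x : S ⊗[A] P),
      G.toFun' S (π.toLinearMap.lTensor S x) = F.law.toFun' S x :=
    fun S _ _ x => descend_apply F.law π.toLinearMap hπ h S x
  refine ⟨⟨G, fun S _ _ s x => ?_, fun S _ _ => ⟨?_, fun x y => ?_⟩⟩,
    precomp_descend F.law π.toLinearMap hπ h⟩
  · obtain ⟨x, rfl⟩ := LinearMap.lTensor_surjective (g := π.toLinearMap) S hπ x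
    rw [hG, ← F.homog, ← hG, PolLaw.lTensor_algHom_apply, PolLaw.lTensor_algHom_apply, map_smul]
  · rw [← map_one (Algebra.TensorProduct.map (AlgHom.id S S) π), ← PolLaw.lTensor_algHom_apply,
      hG, (F.mult S).1]
  · obtain ⟨x, rfl⟩ := LinearMap.lTensor_surjective (g := π.toLinearMap) S hπ x
    obtain ⟨y, rfl⟩ := LinearMap.lTensor_surjective (g := π.toLinearMap) S hπ y
    rw [hG, hG, ← (F.mult S).2, ← hG, PolLaw.lTensor_algHom_apply, PolLaw.lTensor_algHom_apply,
      PolLaw.lTensor_algHom_apply, map_mul]

/-- A multiplicative law descends along a surjection of algebras when its coefficients vanish on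
families with a member in the kernel. -/
theorem exists_descend (F : PolLaw.MulLaw A P C d) (π : P →ₐ[A] B) (hπ : Function.Surjective π)
    (hbad : ∀ (κ : Type u) (v : κ → P) (ν : κ →₀ ℕ), (∃ i ∈ ν.support, π (v i) = 0) →
      coef F.law v ν = 0) :
    ∃ G : PolLaw.MulLaw A B C d, (G.precomp π).law = F.law :=
  exists_descend' F π hπ (apply_eq_of_lTensor_eq F.homog π.toLinearMap hπ hbad)

/-- The monomial basis of a polynomial algebra. -/
noncomputable def monBasis (A : Type u) [CommRing A] (σ : Type u) :
    Basis (σ →₀ ℕ) A (MvPolynomial σ A) :=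
  MvPolynomial.basisMonomials σ A

/-- The tautological presentation of an algebra. -/
noncomputable def presHom (A B : Type u) [CommRing A] [CommRing B] [Algebra A B] :
    MvPolynomial B A →ₐ[A] B :=
  MvPolynomial.aeval id

theorem presHom_surjective : Function.Surjective (presHom A B) := fun b =>
  ⟨MvPolynomial.X b, by simp [presHom]⟩

/-- A presentation of a divided power algebra as a quotient of symmetric tensors. -/
theorem thetaHom_surjective {γ : PolLaw.MulLaw A B C d} (hγ : PolLaw.IsGammaD γ)
    (π : P →ₐ[A] B) (hπ : Function.Surjective π) (e : Basis ι A P) :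
    Function.Surjective (thetaHom e (γ.precomp π)) := by
  set f := thetaHom e (γ.precomp π)
  have hf : PolLaw.postcomp f.toLinearMap (tauFree d e).law = (γ.precomp π).law :=
    postcomp_thetaHom e _
  have hval : PolLaw.postcomp f.range.val.toLinearMap
      ((tauFree d e).postcomp f.rangeRestrict).law = (γ.precomp π).law := by
    change PolLaw.postcomp _ (PolLaw.postcomp _ _) = _
    rw [postcomp_postcomp, ← hf]
    rfl
  obtain ⟨γ', hγ'⟩ := exists_descend ((tauFree d e).postcomp f.rangeRestrict) π hπ
    (fun κ v ν ⟨i, hi, hv⟩ => by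
      apply Subtype.val_injective
      change f.range.val.toLinearMap _ = f.range.val.toLinearMap 0
      rw [map_zero, ← coef_postcomp, hval]
      change coef (PolLaw.precomp γ.law π.toLinearMap) v ν = 0
      rw [coef_precomp]
      exact coef_eq_zero_of_apply_eq_zero γ.law _ hi hv)
  obtain ⟨g, hg, -⟩ := hγ f.range γ'
  have hid : f.range.val.comp g = AlgHom.id A C := by
    obtain ⟨g₀, -, huniq⟩ := hγ C γ
    refine (huniq _ ?_).trans (huniq _ ?_).symm
    · change PolLaw.postcomp (f.range.val.toLinearMap ∘ₗ g.toLinearMap) γ.law = γ.law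
      rw [← postcomp_postcomp, hg]
      apply precomp_injective π.toLinearMap hπ
      refine Eq.trans ?_ hval
      rw [← hγ']
      rfl
    · exact PolynomialLaw.ext (funext fun S => funext fun _ => funext fun _ => funext fun x =>
        DFunLike.congr_fun (LinearMap.lTensor_id S C) (γ.law.toFun' S x))
  intro c
  obtain ⟨z, hz⟩ := (g c).2
  exact ⟨z, hz.trans (DFunLike.congr_fun hid c)⟩

theorem span_coef_eq_top {γ : PolLaw.MulLaw A B C d} (hγ : PolLaw.IsGammaD γ)
    (π : P →ₐ[A] B) (hπ : Function.Surjective π) (e : Basis ι A P) :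
    Submodule.span A (Set.range fun ν => coef γ.law (fun i => π (e i)) ν) = ⊤ := by
  rw [eq_top_iff]
  rintro c -
  obtain ⟨z, rfl⟩ := thetaHom_surjective hγ π hπ e c
  have hz : z ∈ Submodule.span A (Set.range fun ν => coef (tauFree d e).law e ν) := by
    rw [span_coef_tauFree e]; trivial
  have := Submodule.mem_map_of_mem (f := (thetaHom e (γ.precomp π)).toLinearMap) hz
  rw [Submodule.map_span, ← Set.range_comp] at this
  refine Submodule.span_mono ?_ this
  rintro _ ⟨ν, rfl⟩
  refine ⟨ν, ?_⟩
  simp only [Function.comp_apply]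
  rw [← coef_postcomp, postcomp_thetaHom]
  exact (coef_precomp γ.law π.toLinearMap e ν).symm

theorem tmap_eq_tmapL {B : Type u} [CommRing B] [Algebra A B] (π : P →ₐ[A] B)
    (t : ⨂[A] _ : Fin d, P) : SymTen.tmap A d π t = tmapL d π.toLinearMap t := by
  induction t using PiTensorProduct.induction_on with
  | smul_tprod r v => simp
  | add x y hx hy => simp [hx, hy]

end Mult

/-! ### The canonical map to symmetric tensors -/

section Phi

variable {B C : Type u} [CommRing B] [Algebra A B] [CommRing C] [Algebra A C]

theorem postcomp_phi {γ : PolLaw.MulLaw A B C d} {φ : C →ₐ[A] SymTen.TS A B d}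
    (hφ : ∀ (S : Type u) [CommSemiring S] [Algebra A S] (n : ℕ) (s : Fin n → S) (b : Fin n → B),
      ((SymTen.TS A B d).val.comp φ).toLinearMap.lTensor S (γ.law.toFun' S (∑ j, s j ⊗ₜ[A] b j)) =
        ∑ c : Fin d → Fin n, (∏ i, s (c i)) ⊗ₜ[A] PiTensorProduct.tprod A (fun i => b (c i))) :
    PolLaw.postcomp ((SymTen.TS A B d).val.comp φ).toLinearMap γ.law =
      (SymTen.tpowLaw A B d).law := by
  refine PolynomialLaw.ext (funext fun S => funext fun _ => funext fun _ => funext fun z => ?_)
  obtain ⟨n, s, b, rfl⟩ := TensorProduct.exists_sum_tmul_eq z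
  rw [tpowLaw_sum Finset.univ s b, Fintype.piFinset_univ]
  exact hφ S n s b

theorem val_phi_thetaHom {γ : PolLaw.MulLaw A B C d} {φ : C →ₐ[A] SymTen.TS A B d}
    (hφ : PolLaw.postcomp ((SymTen.TS A B d).val.comp φ).toLinearMap γ.law =
      (SymTen.tpowLaw A B d).law)
    (π : P →ₐ[A] B) (e : Basis ι A P) (z : SymTen.TS A P d) :
    (SymTen.TS A B d).val (φ (thetaHom e (γ.precomp π) z)) =
      tmapL d π.toLinearMap ((SymTen.TS A P d).val z) := by
  refine eq_on_symT e
    (f := ((SymTen.TS A B d).val.comp φ).toLinearMap ∘ₗ theta d e (γ.precomp π).law)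
    (fun ν => ?_) (mem_TS_iff.mp z.2)
  rw [LinearMap.comp_apply, theta_sym_basis e (γ.precomp π).homog, tmapL_sym, ← coef_postcomp,
    ← coef_tpowLaw]
  change coef (PolLaw.postcomp _ (PolLaw.precomp γ.law π.toLinearMap)) e ν = _
  rw [coef_postcomp, coef_precomp, ← coef_postcomp, hφ]

end Phi

end Groth.L22.Gamma
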