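import Groth.Agent.L22.Gamma.KerBasic
import Mathlib.RingTheory.TensorProduct.MvPolynomial
import Mathlib.Algebra.MvPolynomial.Nilpotent
import Mathlib.RingTheory.Ideal.GoingUp
import Mathlib.RingTheory.Ideal.MinimalPrime.Localization

/-!
Reducedness, minimal primes and limits for kernels of multiplicative laws.
-/

universe u

open scoped TensorProduct Polynomial

set_option maxSynthPendingDepth 3

namespace Groth.L22.Gamma

variable {A B C : Type u} [CommRing A] [CommRing B] [Algebra A B] [CommRing C] [Algebra A C] {d : ℕ}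

theorem toFun'_map (F : B →ₚₗ[A] C) {R S : Type u} [CommSemiring R] [Algebra A R] [CommSemiring S]
    [Algebra A S] (φ : R →ₐ[A] S) (x : R ⊗[A] B) :
    F.toFun' S (Algebra.TensorProduct.map φ (AlgHom.id A B) x) =
      Algebra.TensorProduct.map φ (AlgHom.id A C) (F.toFun' R x) := by
  rw [← PolLaw.rTensor_algHom_apply, ← PolLaw.rTensor_algHom_apply, PolynomialLaw.isCompat_apply']

theorem mem_ker_of_mv {F : B →ₚₗ[A] C} {b : B}
    (h : ∀ (n : ℕ) (x w : MvPolynomial (Fin n) A ⊗[A] B),
      F.toFun' (MvPolynomial (Fin n) A) (x + w * (1 ⊗ₜ[A] b)) =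
        F.toFun' (MvPolynomial (Fin n) A) x) : b ∈ PolLaw.ker F := by
  intro R _ _ x w
  obtain ⟨n, r, u, rfl⟩ := TensorProduct.exists_sum_tmul_eq x
  obtain ⟨m, s, c, rfl⟩ := TensorProduct.exists_sum_tmul_eq w
  let χ : MvPolynomial (Fin (n + m)) A →ₐ[A] R := MvPolynomial.aeval (Fin.addCases r s)
  have key := congrArg (Algebra.TensorProduct.map χ (AlgHom.id A C)) (h (n + m)
    (∑ i, MvPolynomial.X (Fin.castAdd m i) ⊗ₜ[A] u i)
    (∑ i, MvPolynomial.X (Fin.natAdd n i) ⊗ₜ[A] c i))
  rw [← toFun'_map, ← toFun'_map] at key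
  simpa [map_add, map_mul, map_sum, χ, Fin.addCases_left, Fin.addCases_right] using key

theorem eq_C_of_sq {R : Type u} [CommRing R] [IsReduced R] {p : R[X]} {c : R}
    (h : p * p.comp (-Polynomial.X) = Polynomial.C c) : p = Polynomial.C (p.coeff 0) := by
  refine eq_C_of_mul_comp_neg p ?_
  have h0 := congrArg (Polynomial.aeval (0 : R)) h
  rw [map_mul, Polynomial.aeval_comp, map_neg, Polynomial.aeval_X, neg_zero,
    ← Polynomial.coeff_zero_eq_aeval_zero, Polynomial.aeval_C, ← sq] at h0
  rw [h, h0]; rfl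

/-- The kernel of a law with values in a reduced algebra is radical. -/
theorem isRadical_ker [IsReduced C] (F : PolLaw.MulLaw A B C d) :
    (PolLaw.ker F.law).IsRadical := by
  rw [Ideal.isRadical_iff_pow_one_lt 2 one_lt_two]
  intro b hb
  refine mem_ker_of_mv fun n x w => ?_
  let R := MvPolynomial (Fin n) A
  let T := R ⊗[A] C
  haveI : IsReduced T :=
    isReduced_of_injective ((Algebra.TensorProduct.comm A R C).trans
      ((MvPolynomial.scalarRTensorAlgEquiv (R := A) (σ := Fin n) (N := C)).restrictScalars A))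
      (AlgEquiv.injective _)
  let Φ : R[X] ⊗[A] C →ₐ[A] T[X] := Algebra.TensorProduct.lift
    (Polynomial.mapAlgHom (Algebra.TensorProduct.includeLeft : R →ₐ[A] T))
    ((IsScalarTower.toAlgHom A T T[X]).comp Algebra.TensorProduct.includeRight)
    fun _ _ => Commute.all _ _
  let iR : R →ₐ[A] R[X] := IsScalarTower.toAlgHom A R R[X]
  let X' := Algebra.TensorProduct.map iR (AlgHom.id A B) x
  let W' := Algebra.TensorProduct.map iR (AlgHom.id A B) (w * (1 ⊗ₜ[A] b))
  let line : R[X] → R[X] ⊗[A] C := fun t => F.law.toFun' R[X] (X' + (t ⊗ₜ[A] (1 : B)) * W')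
  let p := Φ (line Polynomial.X)
  have hev : ∀ (s : R) (z : R[X] ⊗[A] C), Polynomial.aeval
      (Algebra.TensorProduct.includeLeft (S := A) (B := C) s : T) (Φ z) =
        Algebra.TensorProduct.map ((Polynomial.aeval (R := R) s).restrictScalars A) (AlgHom.id A C) z := by
    intro s z
    induction z using TensorProduct.induction_on with
    | zero => simp
    | tmul q c =>
      induction q using Polynomial.induction_on' with
      | add a a' ha ha' => simp only [TensorProduct.add_tmul, map_add, ha, ha']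
      | monomial k a =>
        simp [Φ, Algebra.TensorProduct.tmul_pow, Algebra.TensorProduct.tmul_mul_tmul,
          Polynomial.aeval_monomial]
        change (a ⊗ₜ[A] (1 : C)) * ((1 : R) ⊗ₜ[A] c) * _ = _
        rw [Algebra.TensorProduct.tmul_mul_tmul, Algebra.TensorProduct.tmul_mul_tmul, mul_one,
          one_mul, mul_one]
    | add a a' ha ha' => simp only [map_add, ha, ha']
  have hneg : p.comp (-Polynomial.X) = Φ (line (-Polynomial.X)) := by
    let σ : R[X] →ₐ[A] R[X] := (Polynomial.aeval (R := R) (-Polynomial.X : R[X])).restrictScalars A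
    have h1 : ∀ z : R[X] ⊗[A] C, (Φ z).comp (-Polynomial.X) =
        Φ (Algebra.TensorProduct.map σ (AlgHom.id A C) z) := by
      intro z
      induction z using TensorProduct.induction_on with
      | zero => simp
      | tmul q c =>
        induction q using Polynomial.induction_on' with
        | add a a' ha ha' => simp only [TensorProduct.add_tmul, map_add, Polynomial.add_comp, ha, ha']
        | monomial k a =>
          simp [Φ, σ, Polynomial.aeval_monomial, Polynomial.mul_comp]
          ring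
      | add a a' ha ha' => simp only [map_add, Polynomial.add_comp, ha, ha']
    rw [h1, ← toFun'_map]
    have hfix : ∀ z : R ⊗[A] B, Algebra.TensorProduct.map σ (AlgHom.id A B)
        (Algebra.TensorProduct.map iR (AlgHom.id A B) z) =
          Algebra.TensorProduct.map iR (AlgHom.id A B) z := by
      intro z
      rw [← AlgHom.comp_apply, ← Algebra.TensorProduct.map_comp]
      congr 2
      exact AlgHom.ext fun a => Polynomial.aeval_C _ a
    simp only [line, X', W', map_add, map_mul, hfix, Algebra.TensorProduct.map_tmul, σ,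
      AlgHom.restrictScalars_apply, Polynomial.aeval_X, AlgHom.id_apply, map_one]
  have hsq : p * p.comp (-Polynomial.X) =
      Polynomial.C (F.law.toFun' R (x * x)) := by
    rw [hneg, ← map_mul, ← (F.mult R[X]).2]
    have hC : ∀ z : R ⊗[A] C, Φ (Algebra.TensorProduct.map iR (AlgHom.id A C) z) = Polynomial.C z := by
      intro z
      induction z using TensorProduct.induction_on with
      | zero => simp
      | tmul a c =>
        simp only [Φ, iR, Algebra.TensorProduct.map_tmul, AlgHom.id_apply,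
          Algebra.TensorProduct.lift_tmul, IsScalarTower.toAlgHom_apply, AlgHom.comp_apply,
          Polynomial.algebraMap_eq]
        rw [Polynomial.coe_mapAlgHom, Polynomial.algebraMap_eq, Polynomial.algebraMap_eq,
          Polynomial.map_C, ← Polynomial.C_mul]
        congr 1
        change (a ⊗ₜ[A] (1 : C)) * ((1 : R) ⊗ₜ[A] c) = _
        rw [Algebra.TensorProduct.tmul_mul_tmul, mul_one, one_mul]
      | add a a' ha ha' => simp only [map_add, ha, ha']
    rw [← hC, ← toFun'_map]
    congr 1
    have hW : W' = Algebra.TensorProduct.map iR (AlgHom.id A B) w * (1 ⊗ₜ[A] b) := by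
      simp [W', iR]
    have e : (X' + Polynomial.X ⊗ₜ[A] (1 : B) * W') * (X' + (-Polynomial.X) ⊗ₜ[A] (1 : B) * W') =
        Algebra.TensorProduct.map iR (AlgHom.id A B) (x * x) +
          (-(Polynomial.X ⊗ₜ[A] (1 : B) * Algebra.TensorProduct.map iR (AlgHom.id A B) w) ^ 2) *
            (1 ⊗ₜ[A] (b ^ 2)) := by
      rw [map_mul, hW, TensorProduct.neg_tmul, show ((1 : R[X]) ⊗ₜ[A] (b ^ 2)) = (1 ⊗ₜ[A] b) ^ 2 by
        rw [Algebra.TensorProduct.tmul_pow, one_pow]]
      ring
    rw [e]
    exact hb R[X] _ _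
  have hp := eq_C_of_sq hsq
  have h10 : Polynomial.aeval (Algebra.TensorProduct.includeLeft (S := A) (B := C) (1 : R) : T) p =
      Polynomial.aeval (Algebra.TensorProduct.includeLeft (S := A) (B := C) (0 : R) : T) p := by
    rw [hp, Polynomial.aeval_C, Polynomial.aeval_C]
  rw [hev, hev, ← toFun'_map, ← toFun'_map] at h10
  have hid : ∀ (s : R) (z : R ⊗[A] B), Algebra.TensorProduct.map
      ((Polynomial.aeval (R := R) s).restrictScalars A) (AlgHom.id A B)
        (Algebra.TensorProduct.map iR (AlgHom.id A B) z) = z := by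
    intro s z
    induction z using TensorProduct.induction_on with
    | zero => simp
    | tmul a c => simp [iR]
    | add a a' ha ha' => simp only [map_add, ha, ha']
  simpa [X', W', map_add, map_mul, hid, ← Algebra.TensorProduct.one_def] using h10

theorem isReduced_image [IsReduced C] (F : PolLaw.MulLaw A B C d) :
    IsReduced (PolLaw.image F.law) :=
  (Ideal.isRadical_iff_quotient_reduced _).mp (isRadical_ker F)

theorem minimalPrimes_ker [IsDomain A] (F : PolLaw.MulLaw A B A d) {P : Ideal B}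
    (hP : P ∈ (PolLaw.ker F.law).minimalPrimes) :
    P.comap (algebraMap A B) = ⊥ ∧
      ∀ q : Ideal A, q.IsPrime → ∃ Q : Ideal B, Q.IsPrime ∧ P ≤ Q ∧ Q.comap (algebraMap A B) = q := by
  let Q := PolLaw.image F.law
  let π := Ideal.Quotient.mk (PolLaw.ker F.law)
  haveI : P.IsPrime := hP.1.1
  haveI : (P.map π).IsPrime := Ideal.map_isPrime_of_surjective Ideal.Quotient.mk_surjective
    (by rw [Ideal.mk_ker]; exact hP.1.2)
  have hcomap : (P.map π).comap π = P := by
    rw [Ideal.comap_map_of_surjective _ Ideal.Quotient.mk_surjective, ← RingHom.ker_eq_comap_bot,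
      Ideal.mk_ker, sup_eq_left]
    exact hP.1.2
  have hmin : P.map π ∈ minimalPrimes Q := by
    rw [Ideal.minimalPrimes_eq_comap] at hP
    obtain ⟨J, hJ, hJP⟩ := hP
    have : P.map π = J := by
      rw [← hJP, Ideal.map_comap_of_surjective _ Ideal.Quotient.mk_surjective]
    rw [this]; exact hJ
  have h0 : P.comap (algebraMap A B) = ⊥ := by
    refine eq_bot_iff.mpr fun a ha => ?_
    rw [Ideal.mem_bot]
    by_contra hne
    have hz : π (algebraMap A B a) ∉ nonZeroDivisors Q := fun h =>
      (Ideal.disjoint_nonZeroDivisors_of_mem_minimalPrimes hmin).le_bot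
        ⟨Ideal.mem_map_of_mem π (Ideal.mem_comap.mp ha), h⟩
    refine hz (mem_nonZeroDivisors_iff_right.mpr fun y hy => ?_)
    obtain ⟨b, rfl⟩ := Ideal.Quotient.mk_surjective y
    rw [← map_mul] at hy
    rw [Ideal.Quotient.eq_zero_iff_mem] at hy ⊢
    refine mem_ker_of_kerBC_self F (mem_kerBC_of_smul_mem F (r := a)
      (fun c hc => (mul_eq_zero.mp hc).resolve_right hne) ?_)
    have : (a ⊗ₜ[A] (1 : B)) * ((1 : A) ⊗ₜ[A] b) = (1 : A) ⊗ₜ[A] (b * algebraMap A B a) := by
      rw [Algebra.TensorProduct.tmul_mul_tmul, one_mul, mul_one, mul_comm b, ← Algebra.smul_def,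
        ← TensorProduct.smul_tmul, smul_eq_mul, mul_one]
    rw [this]
    exact includeRight_mem_kerBC F hy
  refine ⟨h0, fun q hq => ?_⟩
  haveI := isIntegral_image F
  obtain ⟨Q', hle, hQ', hQq⟩ := Ideal.exists_ideal_over_prime_of_isIntegral q (P.map π) (by
    rw [IsScalarTower.algebraMap_eq A B Q, ← Ideal.comap_comap, Ideal.Quotient.algebraMap_eq,
      hcomap, h0]
    exact bot_le)
  refine ⟨Q'.comap π, inferInstance, Ideal.map_le_iff_le_comap.mp hle, ?_⟩
  rw [Ideal.comap_comap, ← hQq]
  rfl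

theorem mem_ker_iff_of_isDirectLimit {ι : Type u} [Preorder ι] [IsDirected ι (fun i j => i ≤ j)]
    [Nonempty ι] (Bi : ι → Type u) [∀ i, CommRing (Bi i)] [∀ i, Algebra A (Bi i)]
    (t : ∀ i j : ι, i ≤ j → (Bi i →ₐ[A] Bi j)) (φ : ∀ i : ι, Bi i →ₐ[A] B)
    (hcomp : ∀ (i j : ι) (h : i ≤ j), (φ j).comp (t i j h) = φ i)
    (hsurj : ∀ b : B, ∃ (i : ι) (x : Bi i), φ i x = b)
    (F : PolLaw.MulLaw A B C d) (b : B) :
    b ∈ PolLaw.ker F.law ↔ ∃ (i : ι) (x : Bi i), φ i x = b ∧
      ∀ (j : ι) (h : i ≤ j), t i j h x ∈ PolLaw.ker (F.precomp (φ j)).law := by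
  constructor
  · intro hb
    obtain ⟨i, x, rfl⟩ := hsurj b
    refine ⟨i, x, rfl, fun j h S _ _ y w => ?_⟩
    change F.law.toFun' S ((φ j).toLinearMap.lTensor S _) = F.law.toFun' S ((φ j).toLinearMap.lTensor S _)
    rw [PolLaw.lTensor_algHom_apply, PolLaw.lTensor_algHom_apply, map_add, map_mul,
      Algebra.TensorProduct.map_tmul, map_one, ← AlgHom.comp_apply, hcomp]
    exact hb S _ _
  · rintro ⟨i, x, rfl, hx⟩ S _ _ y w
    have lift : ∀ z : S ⊗[A] B, ∀ i₀, ∃ j, i₀ ≤ j ∧ ∀ k, j ≤ k →
        z ∈ Set.range ((φ k).toLinearMap.lTensor S) := by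
      intro z
      induction z using TensorProduct.induction_on with
      | zero => exact fun i₀ => ⟨i₀, le_rfl, fun k _ => ⟨0, map_zero _⟩⟩
      | tmul s b =>
        intro i₀
        obtain ⟨i₁, x₁, rfl⟩ := hsurj b
        obtain ⟨j, h0, h1⟩ := exists_ge_ge i₀ i₁
        exact ⟨j, h0, fun k hk => ⟨s ⊗ₜ[A] t i₁ k (h1.trans hk) x₁, by
          rw [LinearMap.lTensor_tmul, AlgHom.toLinearMap_apply, ← AlgHom.comp_apply, hcomp]⟩⟩
      | add z z' hz hz' =>
        intro i₀
        obtain ⟨j, h0, hj⟩ := hz i₀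
        obtain ⟨j', h1, hj'⟩ := hz' j
        refine ⟨j', h0.trans h1, fun k hk => ?_⟩
        obtain ⟨a, ha⟩ := hj k (h1.trans hk)
        obtain ⟨a', ha'⟩ := hj' k hk
        exact ⟨a + a', by rw [map_add, ha, ha']⟩
    obtain ⟨j, hij, hj⟩ := lift y i
    obtain ⟨k, hjk, hk⟩ := lift w j
    obtain ⟨y', hy'⟩ := hj k hjk
    obtain ⟨w', hw'⟩ := hk k le_rfl
    have h := hx k (hij.trans hjk) S y' w'
    change F.law.toFun' S ((φ k).toLinearMap.lTensor S _) = F.law.toFun' S ((φ k).toLinearMap.lTensor S _) at h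
    rw [hy'] at h
    rw [PolLaw.lTensor_algHom_apply, map_add, map_mul, ← PolLaw.lTensor_algHom_apply,
      ← PolLaw.lTensor_algHom_apply, hy', hw', Algebra.TensorProduct.map_tmul, map_one,
      ← AlgHom.comp_apply, hcomp] at h
    exact h

end Groth.L22.Gamma
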