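import Groth.Agent.L22.Gamma.Val

/-!
The Cayley–Hamilton theorem for multiplicative laws, and first consequences for their kernels.
-/

universe u

open scoped TensorProduct Polynomial

set_option maxSynthPendingDepth 3

namespace Groth.L22.Gamma

variable {A B : Type u} [CommRing A] [CommRing B] [Algebra A B] {d : ℕ}
  (F : PolLaw.MulLaw A B A d) {A' : Type u} [CommRing A'] [Algebra A A']

section CH

variable {P : Type u} [CommRing P] [Algebra A P] {ι : Type u}

set_option quotPrecheck false in
local notation "D" => ↥(SymTen.TS A P d)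
set_option quotPrecheck false in
local notation "T" => ⨂[A] (_ : Fin d), P

/-- Evaluation of `θ` on a base change. -/
noncomputable def thetaR (e : Module.Basis ι A P) (G : PolLaw.MulLaw A P A d) (R : Type u)
    [CommSemiring R] [Algebra A R] : R ⊗[A] D →ₐ[A] R :=
  (Algebra.TensorProduct.rid A A R).toAlgHom.comp
    (Algebra.TensorProduct.map (AlgHom.id A R) (thetaHom e G))

@[simp] theorem thetaR_tmul (e : Module.Basis ι A P) (G : PolLaw.MulLaw A P A d) (R : Type u)
    [CommSemiring R] [Algebra A R] (r : R) (c : D) :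
    thetaR e G R (r ⊗ₜ[A] c) = r * algebraMap A R (thetaHom e G c) := by
  simp [thetaR, Algebra.algebraMap_eq_smul_one]

theorem nm_eq_thetaR (e : Module.Basis ι A P) (G : PolLaw.MulLaw A P A d) (R : Type u)
    [CommSemiring R] [Algebra A R] (x : R ⊗[A] P) :
    nm G R x = thetaR e G R ((tauFree d e).law.toFun' R x) := by
  rw [nm, ← congr_fun (congrArg (fun H : P →ₚₗ[A] A => H.toFun' R) (postcomp_thetaHom e G)) x]
  change (Algebra.TensorProduct.rid A A R) ((thetaHom e G).toLinearMap.lTensor R _) = _
  rw [PolLaw.lTensor_algHom_apply]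
  rfl

section R

variable (R : Type u) [CommSemiring R] [Algebra A R]

variable (A P d) in
/-- Inclusion of the values on symmetric tensors in the values on tensors. -/
noncomputable def valR : R ⊗[A] D →ₐ[A] R ⊗[A] T :=
  Algebra.TensorProduct.map (AlgHom.id A R) (SymTen.TS A P d).val

variable (A P d) in
/-- The `j`th factor of the tensor power law. -/
noncomputable def factor (j : Fin d) : R ⊗[A] P →ₐ[A] R ⊗[A] T :=
  Algebra.TensorProduct.map (AlgHom.id A R)
    (PiTensorProduct.singleAlgHom (A := fun _ : Fin d => P) j)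

theorem valR_injective (e : Module.Basis ι A P) : Function.Injective (valR A d P R) := by
  intro a b h
  refine lTensor_val_injective e R ?_
  rwa [PolLaw.lTensor_algHom_apply, PolLaw.lTensor_algHom_apply]

theorem valR_tau (e : Module.Basis ι A P) (v : R ⊗[A] P) :
    valR A d P R ((tauFree d e).law.toFun' R v) = ∏ j : Fin d, factor A d P R j v := by
  have h1 := congr_fun (congrArg (fun H : P →ₚₗ[A] T => H.toFun' R)
    (postcomp_val_retr (d := d) e)) v
  change (SymTen.TS A P d).val.toLinearMap.lTensor R _ = _ at h1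
  rw [PolLaw.lTensor_algHom_apply] at h1
  refine h1.trans ?_
  rw [SymTen.tpowLaw, PolLaw.MulLaw.prodMap_toFun']
  rfl

variable (A P d) in
/-- Scalars in the symmetric tensors, merged with the values. -/
noncomputable def merge : (R ⊗[A] D) ⊗[A] D →ₐ[A] R ⊗[A] D :=
  Algebra.TensorProduct.lift (AlgHom.id A _) Algebra.TensorProduct.includeRight
    fun _ _ => Commute.all _ _

@[simp] theorem merge_tmul (v : R ⊗[A] D) (c : D) : merge A d P R (v ⊗ₜ[A] c) = v * (1 ⊗ₜ[A] c) := by
  simp [merge]

variable (A P d) in
/-- Scalars in the symmetric tensors, merged with the values in the tensor power. -/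
noncomputable def mergeT : (R ⊗[A] D) ⊗[A] T →ₐ[A] R ⊗[A] T :=
  Algebra.TensorProduct.lift (valR A d P R) Algebra.TensorProduct.includeRight
    fun _ _ => Commute.all _ _

theorem valR_comp_merge :
    (valR A d P R).comp (merge A d P R) = (mergeT A d P R).comp (valR A d P (R ⊗[A] D)) := by
  refine Algebra.TensorProduct.ext ?_ ?_ <;> refine AlgHom.ext fun c => ?_ <;>
    simp [merge, mergeT, valR]

variable (A P d) in
/-- Values of the base with trivial symmetric scalars. -/
noncomputable def inR : R ⊗[A] P →ₐ[A] (R ⊗[A] D) ⊗[A] P :=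
  Algebra.TensorProduct.map (Algebra.TensorProduct.includeLeft : R →ₐ[A] R ⊗[A] D) (AlgHom.id A P)

@[simp] theorem inR_tmul (r : R) (p : P) : inR A d P R (r ⊗ₜ[A] p) = (r ⊗ₜ[A] (1 : D)) ⊗ₜ[A] p := rfl

theorem thetaR_inR (e : Module.Basis ι A P) (G : PolLaw.MulLaw A P A d) (v : R ⊗[A] P) :
    Algebra.TensorProduct.map (thetaR e G R) (AlgHom.id A P) (inR A d P R v) = v := by
  induction v using TensorProduct.induction_on with
  | zero => simp
  | tmul r p => simp
  | add a b ha hb => simp only [map_add, ha, hb]

theorem mergeT_factor_inR (j : Fin d) (v : R ⊗[A] P) :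
    mergeT A d P R (factor A d P (R ⊗[A] D) j (inR A d P R v)) = factor A d P R j v := by
  induction v using TensorProduct.induction_on with
  | zero => simp
  | tmul r p => simp [factor, mergeT, valR]
  | add a b ha hb => simp only [map_add, ha, hb]

end R

theorem aeval_cpoly_mem_kerBC_free (e : Module.Basis ι A P) (G : PolLaw.MulLaw A P A d)
    (y : A' ⊗[A] P) : Polynomial.aeval y (cpoly G y) ∈ PolLaw.kerBC G.law A' := by
  classical
  intro R _ _ _ _ x w
  rw [← nm_inj]
  let y₀ : R ⊗[A] P := img A' R y
  let y₁ : (R ⊗[A] D) ⊗[A] P := inR A d P R y₀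
  let η : A'[X] ⊗[A] D →ₐ[A] (R ⊗[A] D) ⊗[A] P :=
    Algebra.TensorProduct.lift ((Polynomial.aeval (R := A') y₁).restrictScalars A)
      ((Algebra.TensorProduct.includeLeft : R ⊗[A] D →ₐ[A] (R ⊗[A] D) ⊗[A] P).comp
        Algebra.TensorProduct.includeRight)
      (fun a b => Commute.all (S := (R ⊗[A] D) ⊗[A] P) _ _)
  let z : A'[X] ⊗[A] P := img A' A'[X] y - Polynomial.X ⊗ₜ[A] (1 : P)
  let q := (tauFree d e).law.toFun' A'[X] z
  let Y : (R ⊗[A] D) ⊗[A] P := inR A d P R x + inR A d P R w * η q
  -- the side of `θ`
  let hP : (R ⊗[A] D) ⊗[A] P →ₐ[A] R ⊗[A] P :=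
    Algebra.TensorProduct.map (thetaR e G R) (AlgHom.id A P)
  have hin : ∀ v, hP (inR A d P R v) = v := thetaR_inR R e G
  have hη : hP.comp η = (((Polynomial.aeval (R := A') y₀).restrictScalars A).comp
      (thetaR e G A'[X])) := by
    refine Algebra.TensorProduct.ext (Polynomial.algHom_ext' (AlgHom.ext fun a => ?_) ?_) ?_
    · simp [η, Algebra.TensorProduct.algebraMap_apply, hP, ← Algebra.TensorProduct.one_def, map_one, ← PiTensorProduct.one_def]
    · simp [η, y₁, hin, hP, thetaR_inR, ← Algebra.TensorProduct.one_def, map_one, ← PiTensorProduct.one_def]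
    · refine AlgHom.ext fun c => ?_
      simp [η, hP, Algebra.TensorProduct.algebraMap_apply, ← Algebra.TensorProduct.one_def, map_one, ← PiTensorProduct.one_def,
        ← IsScalarTower.algebraMap_apply]
  have hY : hP Y = x + w * img A' R (Polynomial.aeval y (cpoly G y)) := by
    have h1 : hP (η q) = Polynomial.aeval y₀ (cpoly G y) := by
      rw [← AlgHom.comp_apply, hη, cpoly, nm_eq_thetaR e]
      rfl
    have h2 : Polynomial.aeval y₀ (cpoly G y) = img A' R (Polynomial.aeval y (cpoly G y)) :=
      Polynomial.aeval_algHom_apply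
        (Algebra.TensorProduct.map (IsScalarTower.toAlgHom A' A' R) (AlgHom.id A P) :
          A' ⊗[A] P →ₐ[A'] R ⊗[A] P) y (cpoly G y)
    simp only [Y, map_add, map_mul, hin, h1, h2]
  -- the side of the tensor power
  have hμ : merge A d P R ((tauFree d e).law.toFun' (R ⊗[A] D) Y) = (tauFree d e).law.toFun' R x := by
    apply valR_injective R e
    rw [← AlgHom.comp_apply, valR_comp_merge, AlgHom.comp_apply, valR_tau (R ⊗[A] D) e Y,
      valR_tau R e x]
    erw [map_prod (mergeT A d P R)]
    refine Finset.prod_congr rfl fun j _ => ?_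
    let ψ : (R ⊗[A] D) ⊗[A] P →ₐ[A] R ⊗[A] T := (mergeT A d P R).comp (factor A d P (R ⊗[A] D) j)
    change ψ Y = _
    have hψin : ∀ v, ψ (inR A d P R v) = factor A d P R j v := mergeT_factor_inR R j
    have hzero : ψ (η q) = 0 := by
      let E : A'[X] ⊗[A] T →ₐ[A] R ⊗[A] T :=
        Algebra.TensorProduct.lift ((Polynomial.aeval (R := A') (ψ y₁)).restrictScalars A)
          Algebra.TensorProduct.includeRight fun _ _ => Commute.all _ _
      have hE : ψ.comp η = E.comp (valR A d P A'[X]) := by
        refine Algebra.TensorProduct.ext (Polynomial.algHom_ext' (AlgHom.ext fun a => ?_) ?_) ?_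
        · simp [η, E, valR, ψ, factor, Algebra.TensorProduct.algebraMap_apply, mergeT, ← Algebra.TensorProduct.one_def, map_one, ← PiTensorProduct.one_def]
        · simp [η, E, valR, ← Algebra.TensorProduct.one_def, map_one, ← PiTensorProduct.one_def]
        · refine AlgHom.ext fun c => ?_
          simp [η, E, valR, ψ, mergeT, factor, ← Algebra.TensorProduct.one_def, map_one, ← PiTensorProduct.one_def]
      rw [← AlgHom.comp_apply, hE, AlgHom.comp_apply, valR_tau A'[X] e z, map_prod]
      refine Finset.prod_eq_zero (Finset.mem_univ j) ?_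
      have h1 : ∀ v : A' ⊗[A] P,
          E (factor A d P A'[X] j (img A' A'[X] v)) = factor A d P R j (img A' R v) := by
        intro v
        induction v using TensorProduct.induction_on with
        | zero => simp
        | tmul a p => simp [E, factor, Algebra.TensorProduct.algebraMap_apply]
        | add a b ha hb => simp only [map_add, ha, hb]
      have hz : z = img A' A'[X] y + (-1 : A) • (Polynomial.X ⊗ₜ[A] (1 : P)) := by
        rw [neg_one_smul, ← sub_eq_add_neg]
      have h2 : E (factor A d P A'[X] j (Polynomial.X ⊗ₜ[A] (1 : P))) = ψ y₁ := by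
        simp [E, factor, ← Algebra.TensorProduct.one_def, ← PiTensorProduct.one_def]
      rw [hz, map_add, map_add, map_smul, map_smul, h1, h2, hψin]
      change (factor A d P R j) y₀ + (-1 : A) • (factor A d P R j) y₀ = 0
      nth_rw 1 [← one_smul A ((factor A d P R j) y₀)]
      rw [← add_smul, add_neg_cancel, zero_smul]
    simp only [Y, map_add, map_mul, hψin, hzero, mul_zero, add_zero]
  -- conclusion
  calc nm G R (x + w * img A' R (Polynomial.aeval y (cpoly G y)))
      = thetaR e G R (nm G (R ⊗[A] D) Y) := by rw [← hY, nm_map]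
    _ = thetaR e G R (merge A d P R ((tauFree d e).law.toFun' (R ⊗[A] D) Y)) := by
        rw [nm_eq_thetaR e]
        generalize (tauFree d e).law.toFun' (R ⊗[A] D) Y = v
        induction v using TensorProduct.induction_on with
        | zero => simp
        | tmul r c => simp [map_mul, Algebra.TensorProduct.algebraMap_apply]
        | add a b ha hb => simp only [map_add, ha, hb]
    _ = nm G R x := by rw [hμ, nm_eq_thetaR e]

end CH

theorem map_id_surjective {P : Type u} [CommRing P] [Algebra A P] {π : P →ₐ[A] B}
    (hπ : Function.Surjective π) (R : Type u) [CommSemiring R] [Algebra A R] :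
    Function.Surjective (Algebra.TensorProduct.map (AlgHom.id A R) π) := fun z => by
  obtain ⟨x, hx⟩ := LinearMap.lTensor_surjective (g := π.toLinearMap) R hπ z
  exact ⟨x, (DFunLike.congr_fun (TensorProduct.ext' fun a b => rfl :
    (Algebra.TensorProduct.map (AlgHom.id A R) π).toLinearMap = π.toLinearMap.lTensor R) x).trans hx⟩

theorem map_mem_kerBC_of_precomp {P : Type u} [CommRing P] [Algebra A P] {π : P →ₐ[A] B}
    (hπ : Function.Surjective π) {y : A' ⊗[A] P}
    (hy : y ∈ PolLaw.kerBC (F.precomp π).law A') :
    Algebra.TensorProduct.map (AlgHom.id A A') π y ∈ PolLaw.kerBC F.law A' := by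
  intro R _ _ _ _ x w
  obtain ⟨x, rfl⟩ := map_id_surjective hπ R x
  obtain ⟨w, rfl⟩ := map_id_surjective hπ R w
  have h := hy R x w
  rw [← nm_inj, nm_precomp, nm_precomp, map_add, map_mul] at h
  rw [← nm_inj, ← h]
  congr 3
  rw [← AlgHom.comp_apply, ← AlgHom.comp_apply, ← Algebra.TensorProduct.map_comp,
    ← Algebra.TensorProduct.map_comp]
  congr 2

/-- **Cayley–Hamilton**: an element satisfies its characteristic polynomial modulo the kernel. -/
theorem aeval_cpoly_mem_kerBC (y : A' ⊗[A] B) :
    Polynomial.aeval y (cpoly F y) ∈ PolLaw.kerBC F.law A' := by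
  have hπ : Function.Surjective (presHom A B) := presHom_surjective
  obtain ⟨y, rfl⟩ := map_id_surjective hπ A' y
  have h := map_mem_kerBC_of_precomp F hπ
    (aeval_cpoly_mem_kerBC_free (monBasis A B) (F.precomp (presHom A B)) y)
  rw [cpoly_precomp] at h
  rwa [show Algebra.TensorProduct.map (AlgHom.id A A') (presHom A B) y =
    Algebra.TensorProduct.map (AlgHom.id A' A') (presHom A B) y from rfl,
    Polynomial.aeval_algHom_apply]

end Groth.L22.Gamma
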