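import Groth.Agent.L22.Gamma.Alg
import Mathlib.RingTheory.IntegralClosure.Algebra.Basic
import Mathlib.RingTheory.IntegralClosure.IsIntegralClosure.Basic

/-!
Finiteness properties of divided power algebras.
-/

universe u

open scoped TensorProduct
open Module

namespace Groth.L22.Gamma

variable {A B C : Type u} [CommRing A] [CommRing B] [Algebra A B] [CommRing C] [Algebra A C]
  {d : ℕ}

theorem span_coef_le {F : B →ₚₗ[A] C} (hF : PolLaw.IsHomog F d) {κ μ : Type u} (v : κ → B)
    (w : μ → B) (hw : ∀ i, w i ∈ Submodule.span A (Set.range v)) :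
    Submodule.span A (Set.range fun ν => coef F w ν) ≤
      Submodule.span A ((fun ν => coef F v ν) '' {ν : κ →₀ ℕ | (ν.sum fun _ k => k) = d}) := by
  rw [Submodule.span_le]
  rintro _ ⟨ν, rfl⟩
  exact coef_mem_span hF v w hw ν

theorem finite_degree (κ : Type*) [Fintype κ] (d : ℕ) :
    {ν : κ →₀ ℕ | (ν.sum fun _ k => k) = d}.Finite := by
  classical
  exact (Finset.univ.finsuppAntidiag d).finite_toSet.subset fun ν hν =>
    Finset.mem_finsuppAntidiag'.mpr ⟨hν, Finset.subset_univ _⟩

theorem span_coef_finite {F : B →ₚₗ[A] C} {κ : Type u} [Fintype κ] (v : κ → B) :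
    (Submodule.span A ((fun ν => coef F v ν) '' {ν : κ →₀ ℕ | (ν.sum fun _ k => k) = d})).FG :=
  Submodule.fg_span ((finite_degree κ d).image _)

theorem moduleFinite {γ : PolLaw.MulLaw A B C d} (hγ : PolLaw.IsGammaD γ) [Module.Finite A B] :
    Module.Finite A C := by
  classical
  obtain ⟨s, hs⟩ := (Module.finite_def.mp (inferInstance : Module.Finite A B))
  have h := span_coef_le γ.homog (fun x : ↥s => (x : B))
    (fun ν => presHom A B (monBasis A B ν)) fun i => by
      rw [show Set.range (fun x : ↥s => (x : B)) = ↑s from Subtype.range_coe, hs]; trivial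
  rw [span_coef_eq_top hγ _ presHom_surjective, top_le_iff] at h
  exact Module.finite_def.mpr (h ▸ span_coef_finite _)

theorem range_thetaHom {P : Type u} [CommRing P] [Algebra A P] {ι : Type u} (e : Basis ι A P)
    (π : P →ₐ[A] B) (F : PolLaw.MulLaw A B C d) :
    Subalgebra.toSubmodule (thetaHom e (F.precomp π)).range =
      Submodule.span A (Set.range fun ν => coef F.law (fun i => π (e i)) ν) := by
  have : Subalgebra.toSubmodule (thetaHom e (F.precomp π)).range =
      LinearMap.range (thetaHom e (F.precomp π)).toLinearMap := SetLike.ext' rfl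
  rw [this, LinearMap.range_eq_map, ← span_coef_tauFree e, Submodule.map_span, ← Set.range_comp]
  refine congrArg (fun f => Submodule.span A (Set.range f)) (funext fun ν => ?_)
  change (thetaHom e (F.precomp π)).toLinearMap (coef (tauFree d e).law e ν) = _
  rw [← coef_postcomp, postcomp_thetaHom]
  exact coef_precomp F.law π.toLinearMap e ν

theorem isIntegral_gamma {γ : PolLaw.MulLaw A B C d} (hγ : PolLaw.IsGammaD γ)
    [Algebra.IsIntegral A B] : Algebra.IsIntegral A C := by
  classical
  constructor
  intro c
  suffices Submodule.span A (Set.range fun ν => coef γ.law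
      (fun i => presHom A B (monBasis A B i)) ν) ≤
        Subalgebra.toSubmodule (integralClosure A C) by
    exact this (span_coef_eq_top hγ _ presHom_surjective (monBasis A B) ▸ trivial)
  rw [Submodule.span_le]
  rintro _ ⟨ν, rfl⟩
  let w := fun i => presHom A B (monBasis A B i)
  let s : Finset B := ν.support.image w
  let π : MvPolynomial ↥s A →ₐ[A] B := MvPolynomial.aeval fun x => (x : B)
  have hfg : (Subalgebra.toSubmodule π.range).FG := by
    have := fg_adjoin_of_finite (R := A) s.finite_toSet fun x _ => Algebra.IsIntegral.isIntegral x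
    convert this using 2
    exact (Algebra.adjoin_eq_range A (s : Set B)).symm
  obtain ⟨t, ht⟩ := hfg
  let e := monBasis A ↥s
  let R := (thetaHom e (γ.precomp π)).range
  have hspan : ∀ x, x ∈ π.range → x ∈ Submodule.span A (Set.range fun i => π (e i)) := by
    rintro _ ⟨p, rfl⟩
    have hp : p ∈ Submodule.span A (Set.range e) := by rw [e.span_eq]; trivial
    have := Submodule.mem_map_of_mem (f := π.toLinearMap) hp
    rw [Submodule.map_span, ← Set.range_comp] at this
    exact this
  have hR : (Subalgebra.toSubmodule R).FG := by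
    rw [range_thetaHom]
    have h1 : Submodule.span A (Set.range fun ν => coef γ.law (fun i => π (e i)) ν) =
        Submodule.span A ((fun μ => coef γ.law (fun x : ↥t => (x : B)) μ) ''
          {μ : ↥t →₀ ℕ | (μ.sum fun _ k => k) = d}) := by
      refine le_antisymm (span_coef_le γ.homog _ _ fun i => ?_) (Submodule.span_le.mpr ?_)
      · rw [show Set.range (fun x : ↥t => (x : B)) = ↑t from Subtype.range_coe, ht]
        exact ⟨_, rfl⟩
      · rintro _ ⟨μ, -, rfl⟩
        refine Submodule.span_mono (Set.image_subset_range _ _)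
          (coef_mem_span γ.homog _ _ (fun x => hspan _ ?_) μ)
        have hx : (x : B) ∈ Submodule.span A (t : Set B) := Submodule.subset_span x.2
        rw [ht] at hx
        exact hx
    rw [h1]
    exact span_coef_finite _
  refine IsIntegral.of_mem_of_fg R hR _ ?_
  rw [← Subalgebra.mem_toSubmodule, range_thetaHom]
  let v' := fun i => if i ∈ ν.support then w i else 0
  have hv : coef γ.law w ν = coef γ.law v' ν :=
    coef_congr _ fun i hi => (if_pos hi).symm
  change coef γ.law w ν ∈ _
  rw [hv]
  refine Submodule.span_mono (Set.image_subset_range _ _)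
    (coef_mem_span γ.homog (fun i => π (e i)) v' (fun i => ?_) ν)
  simp only [v']
  split_ifs with hi
  · exact hspan _ ⟨MvPolynomial.X ⟨w i, Finset.mem_image_of_mem w hi⟩, by simp [π]⟩
  · exact zero_mem _

theorem surjective_of_postcomp_eq {B' C' : Type u} [CommRing B'] [Algebra A B'] [CommRing C']
    [Algebra A C'] {γ : PolLaw.MulLaw A B C d} {γ' : PolLaw.MulLaw A B' C' d}
    (hγ' : PolLaw.IsGammaD γ') (π : B →ₐ[A] B') (hπ : Function.Surjective π) (φ : C →ₐ[A] C')
    (hφ : PolLaw.postcomp φ.toLinearMap γ.law = (γ'.precomp π).law) : Function.Surjective φ := by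
  have h := span_coef_eq_top hγ' (π.comp (presHom A B)) (hπ.comp presHom_surjective) (monBasis A B)
  change Function.Surjective φ.toLinearMap
  rw [← LinearMap.range_eq_top, eq_top_iff, ← h, Submodule.span_le]
  rintro _ ⟨ν, rfl⟩
  refine ⟨coef γ.law (fun i => presHom A B (monBasis A B i)) ν, ?_⟩
  rw [← coef_postcomp, hφ]
  exact coef_precomp γ'.law π.toLinearMap _ ν

end Groth.L22.Gamma
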