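import Groth.Agent.L22.Gamma.KerBasic
import Mathlib.RingTheory.MvPolynomial.Homogeneous
import Mathlib.RingTheory.Flat.Basic
import Mathlib.RingTheory.Localization.Integer
import Mathlib.RingTheory.Finiteness.Basic
import Mathlib.LinearAlgebra.TensorProduct.Pi

/-!
The kernel of a multiplicative law on a finite algebra is cut out by finitely many equations.
-/

universe u

open scoped TensorProduct Polynomial

set_option maxSynthPendingDepth 3

namespace Groth.L22.Gamma

variable {A B : Type u} [CommRing A] [CommRing B] [Algebra A B] {d : ℕ}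
  (F : PolLaw.MulLaw A B A d) {m : ℕ} (b : Fin m → B)

theorem aeval_map {R S : Type u} [CommRing R] [Algebra A R] [CommRing S] [Algebra A S]
    (φ : R →ₐ[A] S) (a : Fin m → R) (g : MvPolynomial (Fin m) A) :
    φ (MvPolynomial.aeval a g) = MvPolynomial.aeval (φ ∘ a) g :=
  DFunLike.congr_fun (MvPolynomial.comp_aeval a φ) g

/-- The combination of the generators with given coefficients. -/
noncomputable def comb (R : Type u) [CommSemiring R] [Algebra A R] (a : Fin m → R) : R ⊗[A] B :=
  ∑ i, a i ⊗ₜ[A] b i

theorem map_comb {R S : Type u} [CommSemiring R] [Algebra A R] [CommSemiring S] [Algebra A S]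
    (φ : R →ₐ[A] S) (a : Fin m → R) :
    Algebra.TensorProduct.map φ (AlgHom.id A B) (comb b R a) = comb b S (φ ∘ a) := by
  simp [comb, map_sum]

theorem exists_comb_eq (hb : Submodule.span A (Set.range b) = ⊤) {R : Type u} [CommSemiring R]
    [Algebra A R] (z : R ⊗[A] B) : ∃ a, comb b R a = z := by
  induction z using TensorProduct.induction_on with
  | zero => exact ⟨0, by simp [comb]⟩
  | tmul r c =>
    obtain ⟨k, hk⟩ := (Submodule.mem_span_range_iff_exists_fun A).mp
      (hb ▸ Submodule.mem_top : c ∈ Submodule.span A (Set.range b))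
    exact ⟨fun i => k i • r, by simp [comb, ← hk, TensorProduct.tmul_sum, TensorProduct.smul_tmul]⟩
  | add z z' hz hz' =>
    obtain ⟨a, rfl⟩ := hz
    obtain ⟨a', rfl⟩ := hz'
    exact ⟨a + a', by simp [comb, TensorProduct.add_tmul, Finset.sum_add_distrib]⟩

/-- The universal deviation. -/
noncomputable def dev : MvPolynomial (Fin m ⊕ Fin m) (MvPolynomial (Fin m) A) :=
  nm F _ (comb b _ (fun i => MvPolynomial.X (Sum.inl i)) +
      comb b _ (fun i => MvPolynomial.X (Sum.inr i)) *
        comb b _ (fun i => MvPolynomial.C (MvPolynomial.X i))) -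
    nm F _ (comb b _ (fun i => MvPolynomial.X (Sum.inl i)))

theorem dev_spec {R : Type u} [CommRing R] [Algebra A R] (r s a : Fin m → R) :
    nm F R (comb b R r + comb b R s * comb b R a) - nm F R (comb b R r) =
      MvPolynomial.aevalTower (MvPolynomial.aeval a : MvPolynomial (Fin m) A →ₐ[A] R)
        (Sum.elim r s) (dev F b) := by
  let χ := MvPolynomial.aevalTower (MvPolynomial.aeval a : MvPolynomial (Fin m) A →ₐ[A] R)
    (Sum.elim r s)
  rw [dev, map_sub, ← nm_map F χ, ← nm_map F χ, map_add, map_mul, map_comb, map_comb, map_comb]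
  simp [χ, Function.comp_def]

/-- The equations cutting out the kernel. -/
noncomputable def eqns : Finset (MvPolynomial (Fin m) A) := by
  classical exact (dev F b).support.image fun μ => (dev F b).coeff μ

theorem aevalTower_eq_sum {R : Type u} [CommRing R] [Algebra A R] (a : Fin m → R)
    (rs : Fin m ⊕ Fin m → R) :
    MvPolynomial.aevalTower (MvPolynomial.aeval a : MvPolynomial (Fin m) A →ₐ[A] R) rs (dev F b) =
      ∑ μ ∈ (dev F b).support, MvPolynomial.aeval a ((dev F b).coeff μ) *
        μ.prod fun i k => rs i ^ k := by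
  conv_lhs => rw [(dev F b).as_sum, map_sum]
  refine Finset.sum_congr rfl fun μ _ => ?_
  rw [MvPolynomial.monomial_eq, map_mul, MvPolynomial.aevalTower_C, map_finsuppProd]
  simp [Finsupp.prod]

theorem mem_kerBC_iff_eqns (hb : Submodule.span A (Set.range b) = ⊤) {A' : Type u} [CommRing A']
    [Algebra A A'] (a : Fin m → A') :
    comb b A' a ∈ PolLaw.kerBC F.law A' ↔ ∀ g ∈ eqns F b, MvPolynomial.aeval a g = 0 := by
  classical
  constructor
  · intro h g hg
    obtain ⟨μ, -, rfl⟩ := Finset.mem_image.mp hg
    let S := MvPolynomial (Fin m ⊕ Fin m) A'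
    let χ : MvPolynomial (Fin m ⊕ Fin m) (MvPolynomial (Fin m) A) →ₐ[A] S :=
      MvPolynomial.mapAlgHom (MvPolynomial.aeval a)
    have h1 : χ (dev F b) = 0 := by
      have e : χ = MvPolynomial.aevalTower (MvPolynomial.aeval fun i => MvPolynomial.C (a i))
          (Sum.elim (fun i => MvPolynomial.X (Sum.inl i)) fun i => MvPolynomial.X (Sum.inr i)) := by
        refine AlgHom.coe_ringHom_injective (MvPolynomial.ringHom_ext (fun g => ?_) fun i => ?_)
        · change MvPolynomial.map (MvPolynomial.aeval a).toRingHom (MvPolynomial.C g) = _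
          rw [MvPolynomial.map_C]
          refine Eq.trans ?_ (MvPolynomial.aevalTower_C _ _ _).symm
          exact aeval_map (IsScalarTower.toAlgHom A A' S) a g
        · change MvPolynomial.map (MvPolynomial.aeval a).toRingHom (MvPolynomial.X i) = _
          rcases i with i | i <;> simp
      rw [e, ← dev_spec, sub_eq_zero, nm_inj]
      have himg : comb (A := A) b S (fun i => (MvPolynomial.C (a i) : MvPolynomial (Fin m ⊕ Fin m) A')) =
          img A' S (comb (A := A) b A' a) := by
        rw [map_comb]; rfl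
      rw [himg]
      exact h S _ _
    have h2 : MvPolynomial.map (MvPolynomial.aeval a).toRingHom (dev F b) = 0 := h1
    have := congrArg (MvPolynomial.coeff μ) h2
    rwa [MvPolynomial.coeff_map, MvPolynomial.coeff_zero] at this
  · intro h
    refine mem_kerBC_of_mv F fun n x w => ?_
    obtain ⟨r, rfl⟩ := exists_comb_eq b hb x
    obtain ⟨s, rfl⟩ := exists_comb_eq b hb w
    rw [← sub_eq_zero, map_comb, dev_spec, aevalTower_eq_sum]
    refine Finset.sum_eq_zero fun μ hμ => ?_
    rw [← aeval_map, h _ (Finset.mem_image_of_mem _ hμ), map_zero, zero_mul]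

theorem coeff_aeval_line {R : Type u} [CommRing R] [Algebra A R] (a : Fin m → R)
    (g : MvPolynomial (Fin m) A) (k : ℕ) :
    (MvPolynomial.aeval (fun i => Polynomial.C (a i) * Polynomial.X : Fin m → R[X]) g).coeff k =
      MvPolynomial.aeval a (MvPolynomial.homogeneousComponent k g) := by
  induction g using MvPolynomial.induction_on' with
  | add p q hp hq => simp only [map_add, Polynomial.coeff_add, hp, hq]
  | monomial ν c =>
    rw [MvPolynomial.homogeneousComponent_of_mem (MvPolynomial.isHomogeneous_monomial c rfl),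
      MvPolynomial.aeval_monomial]
    simp only [mul_pow, Finsupp.prod, Finset.prod_mul_distrib, Finset.prod_pow_eq_pow_sum,
      ← Polynomial.C_pow, ← map_prod]
    rw [Polynomial.algebraMap_apply, ← mul_assoc, ← Polynomial.C_mul, Polynomial.coeff_C_mul_X_pow]
    have hdeg : ∑ x ∈ ν.support, ν x = ν.degree := rfl
    rw [hdeg]
    split_ifs with h
    · rw [MvPolynomial.aeval_monomial]; rfl
    · rw [map_zero]

theorem eqns_homogeneous_vanish (hb : Submodule.span A (Set.range b) = ⊤) {A' : Type u}
    [CommRing A'] [Algebra A A'] {a : Fin m → A'} (h : comb b A' a ∈ PolLaw.kerBC F.law A')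
    {g : MvPolynomial (Fin m) A} (hg : g ∈ eqns F b) (k : ℕ) :
    MvPolynomial.aeval a (MvPolynomial.homogeneousComponent k g) = 0 := by
  have h' := Ideal.mul_mem_left (PolLaw.kerBC F.law A'[X]) ((Polynomial.X : A'[X]) ⊗ₜ[A] (1 : B))
    (map_mem_kerBC F (IsScalarTower.toAlgHom A A' A'[X]) h)
  have e : (Polynomial.X : A'[X]) ⊗ₜ[A] (1 : B) * Algebra.TensorProduct.map
      (IsScalarTower.toAlgHom A A' A'[X]) (AlgHom.id A B) (comb b A' a) =
        comb b A'[X] (fun i => Polynomial.C (a i) * Polynomial.X) := by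
    simp [comb, map_sum, Finset.mul_sum, mul_comm Polynomial.X]
  rw [e, mem_kerBC_iff_eqns F b hb] at h'
  rw [← coeff_aeval_line, h' g hg, Polynomial.coeff_zero]

theorem homogeneousComponent_zero_eqns (hb : Submodule.span A (Set.range b) = ⊤)
    {g : MvPolynomial (Fin m) A} (hg : g ∈ eqns F b) :
    MvPolynomial.homogeneousComponent 0 g = 0 := by
  have h0 : comb b A (0 : Fin m → A) ∈ PolLaw.kerBC F.law A := by simp [comb]
  have := eqns_homogeneous_vanish F b hb h0 hg 0
  rw [MvPolynomial.homogeneousComponent_zero, MvPolynomial.aeval_C, Algebra.algebraMap_self,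
    RingHom.id_apply] at this
  rw [MvPolynomial.homogeneousComponent_zero, this, map_zero]

variable (A B) in
theorem exists_generators [Module.Finite A B] :
    ∃ (m : ℕ) (b : Fin m → B), Submodule.span A (Set.range b) = ⊤ :=
  Module.Finite.exists_fin

theorem map_ker_eq_kerBC_of_isLocalization [Module.Finite A B] (M : Submonoid A) (A' : Type u)
    [CommRing A'] [Algebra A A'] [IsLocalization M A'] :
    (PolLaw.ker F.law).map (Algebra.TensorProduct.includeRight : B →ₐ[A] A' ⊗[A] B) =
      PolLaw.kerBC F.law A' := by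
  classical
  obtain ⟨m, b, hb⟩ := exists_generators A B
  refine le_antisymm (map_ker_le_kerBC F) fun y hy => ?_
  obtain ⟨a, rfl⟩ := exists_comb_eq b hb y
  obtain ⟨s, hs⟩ := IsLocalization.exist_integer_multiples M Finset.univ a
  choose c hc using fun i => hs i (Finset.mem_univ i)
  have hu : IsUnit (algebraMap A A' s) := IsLocalization.map_units A' s
  have hc' : ∀ i, algebraMap A A' (c i) = algebraMap A A' s * a i := fun i => by
    rw [hc i, Algebra.smul_def]
  have hy' : comb b A' (algebraMap A A' ∘ c) ∈ PolLaw.kerBC F.law A' := by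
    have : comb b A' (algebraMap A A' ∘ c) = (algebraMap A A' s ⊗ₜ[A] (1 : B)) * comb b A' a := by
      simp [comb, Finset.mul_sum, hc']
    rw [this]; exact Ideal.mul_mem_left _ _ hy
  have hex : ∀ p : MvPolynomial (Fin m) A × ℕ, ∃ v : M, p.1 ∈ eqns F b →
      (v : A) * MvPolynomial.aeval c (MvPolynomial.homogeneousComponent p.2 p.1) = 0 := by
    intro p
    by_cases hp : p.1 ∈ eqns F b
    · have h1 := eqns_homogeneous_vanish F b hb hy' hp p.2
      rw [show algebraMap A A' ∘ c = (Algebra.ofId A A') ∘ c from rfl, ← aeval_map] at h1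
      obtain ⟨v, hv⟩ := (IsLocalization.map_eq_zero_iff M A' _).mp h1
      exact ⟨v, fun _ => hv⟩
    · exact ⟨1, fun h => absurd h hp⟩
  choose v hv using hex
  let D := (eqns F b).sup MvPolynomial.totalDegree
  let V : M := ∏ p ∈ eqns F b ×ˢ Finset.range (D + 1), v p
  have hVc : comb b A (fun i => (V : A) * c i) ∈ PolLaw.kerBC F.law A := by
    rw [mem_kerBC_iff_eqns F b hb]
    intro g hg
    rw [← MvPolynomial.sum_homogeneousComponent g, map_sum]
    refine Finset.sum_eq_zero fun k hk => ?_
    rcases k with _ | k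
    · rw [homogeneousComponent_zero_eqns F b hb hg, map_zero]
    have hH : ∀ (g : MvPolynomial (Fin m) A) (j : ℕ) (w : A), g.IsHomogeneous j →
        MvPolynomial.aeval (fun i => w * c i) g = w ^ j * MvPolynomial.aeval c g := by
      intro g j w hgj
      conv_lhs => rw [g.as_sum]
      conv_rhs => rw [g.as_sum]
      rw [map_sum, map_sum, Finset.mul_sum]
      refine Finset.sum_congr rfl fun ν hν => ?_
      rw [MvPolynomial.aeval_monomial, MvPolynomial.aeval_monomial]
      simp only [mul_pow, Finsupp.prod, Finset.prod_mul_distrib, Finset.prod_pow_eq_pow_sum]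
      have hdeg : ∑ x ∈ ν.support, ν x = j := by
        have := hgj (MvPolynomial.mem_support_iff.mp hν)
        simpa [Finsupp.weight_apply, Finsupp.sum] using this
      rw [hdeg]; ring
    rw [hH _ (k + 1) _ (MvPolynomial.homogeneousComponent_isHomogeneous (k + 1) g)]
    have hdvd : v (g, k + 1) ∣ V := Finset.dvd_prod_of_mem v (Finset.mem_product.mpr
      ⟨hg, Finset.mem_range.mpr (Nat.lt_succ_of_le ((Nat.lt_succ_iff.mp (Finset.mem_range.mp hk)).trans
        (Finset.le_sup hg)))⟩)
    obtain ⟨w, hw⟩ := hdvd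
    rw [hw, Submonoid.coe_mul, pow_succ]
    have := hv (g, k + 1) hg
    linear_combination (((v (g, k + 1) : A) * w) ^ k * w) * this
  have hker : ∑ i, ((V : A) * c i) • b i ∈ PolLaw.ker F.law := by
    have := lid_mem_ker F hVc
    simpa [comb, map_sum] using this
  have huv : IsUnit ((algebraMap A A' (V * s)) ⊗ₜ[A] (1 : B)) :=
    IsUnit.map (Algebra.TensorProduct.includeLeft (S := A) (B := B) : A' →ₐ[A] A' ⊗[A] B)
      (IsLocalization.map_units A' (V * s))
  refine (Ideal.unit_mul_mem_iff_mem _ huv).mp ?_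
  have : (algebraMap A A' (V * s)) ⊗ₜ[A] (1 : B) * comb b A' a =
      1 ⊗ₜ[A] (∑ i, ((V : A) * c i) • b i) := by
    simp only [comb, Finset.mul_sum, TensorProduct.tmul_sum, Algebra.TensorProduct.tmul_mul_tmul,
      one_mul]
    refine Finset.sum_congr rfl fun i _ => ?_
    rw [TensorProduct.tmul_smul, TensorProduct.smul_tmul', Algebra.smul_def, mul_one, map_mul,
      map_mul, hc', mul_assoc]
  rw [this]
  exact Ideal.mem_map_of_mem _ hker

theorem kerBC_eq_iSup_of_isDirectLimit [Module.Finite A B] {A' : Type u} [CommRing A']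
    [Algebra A A'] {ι : Type u} [Preorder ι] [IsDirected ι (fun i j => i ≤ j)] [Nonempty ι]
    (Ai : ι → Type u) [∀ i, CommRing (Ai i)] [∀ i, Algebra A (Ai i)]
    (t : ∀ i j : ι, i ≤ j → (Ai i →ₐ[A] Ai j)) (φ : ∀ i : ι, Ai i →ₐ[A] A')
    (hcomp : ∀ (i j : ι) (h : i ≤ j), (φ j).comp (t i j h) = φ i)
    (hsurj : ∀ a : A', ∃ (i : ι) (x : Ai i), φ i x = a)
    (hzero : ∀ (i : ι) (x : Ai i), φ i x = 0 → ∃ (j : ι) (h : i ≤ j), t i j h x = 0)
    (htrans : ∀ (i j k : ι) (hij : i ≤ j) (hjk : j ≤ k), (t j k hjk).comp (t i j hij) = t i k (hij.trans hjk)) :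
    PolLaw.kerBC F.law A' =
      ⨆ i : ι, (PolLaw.kerBC F.law (Ai i)).map (Algebra.TensorProduct.map (φ i) (AlgHom.id A B)) := by
  classical
  obtain ⟨m, b, hb⟩ := exists_generators A B
  refine le_antisymm (fun y hy => ?_) (iSup_le fun i => ?_)
  · obtain ⟨a, rfl⟩ := exists_comb_eq b hb y
    rw [mem_kerBC_iff_eqns F b hb] at hy
    choose j x hx using fun i => hsurj (a i)
    obtain ⟨j0, hj0⟩ := Finite.exists_le j
    let a0 : Fin m → Ai j0 := fun i => t _ _ (hj0 i) (x i)
    have ha0 : φ j0 ∘ a0 = a := funext fun i => by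
      rw [Function.comp_apply, ← AlgHom.comp_apply, hcomp, hx]
    have hz : ∀ g : eqns F b, ∃ (k : ι) (h : j0 ≤ k),
        t j0 k h (MvPolynomial.aeval a0 g.1) = 0 := by
      intro g
      refine hzero _ _ ?_
      rw [aeval_map]
      exact (congrArg (fun f => MvPolynomial.aeval f g.1) ha0).trans (hy g.1 g.2)
    choose k hk hk0 using hz
    obtain ⟨k1, hk1⟩ := Finite.exists_le k
    obtain ⟨K, hK0, hK1⟩ := exists_ge_ge j0 k1
    refine Ideal.mem_iSup_of_mem K ?_
    have haK : comb b (Ai K) (t j0 K hK0 ∘ a0) ∈ PolLaw.kerBC F.law (Ai K) := by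
      rw [mem_kerBC_iff_eqns F b hb]
      intro g hg
      have h1 := congrArg (t _ _ ((hk1 ⟨g, hg⟩).trans hK1)) (hk0 ⟨g, hg⟩)
      rw [map_zero, ← AlgHom.comp_apply, htrans, aeval_map] at h1
      exact h1
    have := Ideal.mem_map_of_mem (Algebra.TensorProduct.map (φ K) (AlgHom.id A B)) haK
    rw [map_comb] at this
    convert this using 2
    rw [← Function.comp_assoc, ← AlgHom.coe_comp, hcomp, ha0]
  · rw [Ideal.map_le_iff_le_comap]
    exact fun y hy => map_mem_kerBC F (φ i) hy

theorem coeff_one_taylor {R : Type u} [CommRing R] (p : R[X]) :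
    (Polynomial.aeval (Polynomial.X + Polynomial.C Polynomial.X : R[X][X]) p).coeff 1 =
      Polynomial.derivative p := by
  induction p using Polynomial.induction_on' with
  | add p q hp hq => simp only [map_add, Polynomial.coeff_add, hp, hq]
  | monomial n c =>
    rw [Polynomial.aeval_monomial, Polynomial.algebraMap_apply, Polynomial.coeff_C_mul,
      Polynomial.coeff_X_add_C_pow, Polynomial.derivative_monomial, Nat.choose_one_right,
      ← Polynomial.C_mul_X_pow_eq_monomial, Polynomial.algebraMap_eq, map_mul, map_natCast]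
    ring

theorem mem_kerBC_of_linear [Algebra ℚ A] (hb : Submodule.span A (Set.range b) = ⊤) {A' : Type u}
    [CommRing A'] [Algebra A A'] {a : Fin m → A'}
    (h : ∀ g ∈ eqns F b, MvPolynomial.aeval a (MvPolynomial.homogeneousComponent 1 g) = 0) :
    comb b A' a ∈ PolLaw.kerBC F.law A' := by
  classical
  have key : ∀ (R : Type u) [CommRing R] [Algebra A R] [Algebra A' R] [IsScalarTower A A' R]
      (x w : R ⊗[A] B), (line F R x (w * img A' R (comb b A' a))).coeff 1 = 0 := by
    intro R _ _ _ _ x w
    obtain ⟨r, rfl⟩ := exists_comb_eq b hb x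
    obtain ⟨s, rfl⟩ := exists_comb_eq b hb w
    let a' : Fin m → R := IsScalarTower.toAlgHom A A' R ∘ a
    have hl : line F R (comb b R r) (comb b R s * img A' R (comb b A' a)) =
        Polynomial.C (nm F R (comb b R r)) +
          MvPolynomial.aevalTower
            (MvPolynomial.aeval (fun i => Polynomial.C (a' i) * Polynomial.X) :
              MvPolynomial (Fin m) A →ₐ[A] R[X])
            (Sum.elim (fun i => Polynomial.C (r i)) fun i => Polynomial.C (s i)) (dev F b) := by
      rw [← dev_spec, ← Polynomial.algebraMap_eq, ← nm_img (S := R[X]) F, line, map_mul, map_comb,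
        map_comb, map_comb, map_comb, ← Function.comp_assoc]
      simp only [Polynomial.algebraMap_eq]
      rw [show ⇑(IsScalarTower.toAlgHom A R R[X]) = Polynomial.C from rfl]
      have hX : ∀ c : Fin m → R[X], (Polynomial.X : R[X]) ⊗ₜ[A] (1 : B) * comb b R[X] c =
          comb b R[X] (fun i => c i * Polynomial.X) := by
        intro c; simp [comb, Finset.mul_sum, mul_comm Polynomial.X]
      rw [← mul_assoc, mul_comm ((Polynomial.X : R[X]) ⊗ₜ[A] (1 : B)), mul_assoc, hX]
      simp [a', Function.comp_def]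
    rw [hl, Polynomial.coeff_add, Polynomial.coeff_C, if_neg one_ne_zero, zero_add,
      aevalTower_eq_sum, Polynomial.finsetSum_coeff]
    refine Finset.sum_eq_zero fun μ hμ => ?_
    have hprod : (μ.prod fun i k => (Sum.elim (fun i => Polynomial.C (r i))
        (fun i => Polynomial.C (s i)) i) ^ k) =
          Polynomial.C (μ.prod fun i k => Sum.elim r s i ^ k) := by
      rw [map_finsuppProd]
      refine Finsupp.prod_congr fun i _ => ?_
      rcases i with i | i <;> simp
    rw [hprod, Polynomial.coeff_mul_C, coeff_aeval_line, ← aeval_map,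
      h _ (Finset.mem_image_of_mem _ hμ), map_zero, zero_mul]
  refine mem_kerBC_of_mv F fun n x w => ?_
  let R := MvPolynomial (Fin n) A'
  let v := w * img A' R (comb b A' a)
  let p := line F R x v
  have hder : Polynomial.derivative p = 0 := by
    rw [← coeff_one_taylor]
    have := key R[X] (img R R[X] x + (Polynomial.X ⊗ₜ[A] (1 : B)) * img R R[X] v) (img R R[X] w)
    rw [← img_img (R := R) (S := R[X]) (comb b A' a), ← map_mul] at this
    refine Eq.trans ?_ this
    congr 1
    have hX : img R[X] R[X][X] ((Polynomial.X : R[X]) ⊗ₜ[A] (1 : B)) =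
        (Polynomial.C Polynomial.X : R[X][X]) ⊗ₜ[A] (1 : B) := rfl
    rw [aeval_line, line]
    simp only [v, map_add, map_mul, img_img, hX, TensorProduct.add_tmul]
    congr 1
    ring
  refine nm_eq_of_line_eq_C F (c := p.coeff 0) (Polynomial.ext fun k => ?_)
  rcases k with _ | k
  · simp [p, v, R]
  rw [Polynomial.coeff_C_succ]
  have h1 := congrArg (fun q => Polynomial.coeff q k) hder
  simp only [Polynomial.coeff_derivative, Polynomial.coeff_zero] at h1
  have hu : IsUnit ((k : R) + 1) := by
    have : IsUnit ((k : ℚ) + 1) := (Nat.cast_add_one_ne_zero k).isUnit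
    simpa using (this.map (algebraMap ℚ A)).map (algebraMap A R)
  exact hu.mul_left_eq_zero.mp h1

theorem map_ker_eq_kerBC_of_flat [Algebra ℚ A] [Module.Finite A B] (A' : Type u) [CommRing A']
    [Algebra A A'] [Module.Flat A A'] :
    (PolLaw.ker F.law).map (Algebra.TensorProduct.includeRight : B →ₐ[A] A' ⊗[A] B) =
      PolLaw.kerBC F.law A' := by
  classical
  obtain ⟨m, b, hb⟩ := exists_generators A B
  refine le_antisymm (map_ker_le_kerBC F) fun y hy => ?_
  obtain ⟨a, rfl⟩ := exists_comb_eq b hb y
  let L : (Fin m → A) →ₗ[A] (eqns F b → A) := LinearMap.pi fun g =>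
    ∑ i : Fin m, MvPolynomial.coeff (Finsupp.single i 1) g.1 • LinearMap.proj i
  have hlin : ∀ (R : Type u) [CommRing R] [Algebra A R] (g : MvPolynomial (Fin m) A) (c : Fin m → R),
      MvPolynomial.aeval c (MvPolynomial.homogeneousComponent 1 g) =
        ∑ i, MvPolynomial.coeff (Finsupp.single i 1) g • c i := by
    intro R _ _ g c
    rw [← coeff_aeval_line]
    suffices (MvPolynomial.aeval (fun i => Polynomial.C (c i) * Polynomial.X : Fin m → R[X]) g).coeff 0 =
        algebraMap A R (MvPolynomial.constantCoeff g) ∧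
      (MvPolynomial.aeval (fun i => Polynomial.C (c i) * Polynomial.X : Fin m → R[X]) g).coeff 1 =
        ∑ i, MvPolynomial.coeff (Finsupp.single i 1) g • c i from this.2
    induction g using MvPolynomial.induction_on with
    | C z =>
      refine ⟨by simp, ?_⟩
      simp [MvPolynomial.coeff_C, Polynomial.coeff_C, eq_comm (a := (0 : Fin m →₀ ℕ))]
    | add p q hp hq =>
      refine ⟨by simp [hp.1, hq.1], ?_⟩
      simp [hp.2, hq.2, add_smul, Finset.sum_add_distrib]
    | mul_X p j hp =>
      refine ⟨by simp, ?_⟩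
      rw [map_mul, MvPolynomial.aeval_X, ← mul_assoc, Polynomial.coeff_mul_X,
        Polynomial.coeff_mul_C, hp.1, Finset.sum_eq_single j]
      · rw [MvPolynomial.coeff_mul_X', if_pos (by simp), tsub_self, Algebra.smul_def,
          MvPolynomial.constantCoeff_eq]
      · intro i _ hij
        rw [MvPolynomial.coeff_mul_X', if_neg (by simp [Finsupp.single_apply, Ne.symm hij]), zero_smul]
      · simp
  let φ : (Fin m → A) →ₗ[A] B := Fintype.linearCombination A b
  let ξ : A' ⊗[A] (Fin m → A) := ∑ i, a i ⊗ₜ[A] Pi.single i 1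
  have hξ : L.lTensor A' ξ = 0 := by
    refine (TensorProduct.piScalarRight A A A' (eqns F b)).injective ?_
    rw [map_zero]
    funext g
    simp only [ξ, map_sum, LinearMap.lTensor_tmul, TensorProduct.piScalarRight_apply,
      TensorProduct.piScalarRightHom_tmul, Finset.sum_apply, Pi.zero_apply]
    rw [← eqns_homogeneous_vanish F b hb hy g.2 1, hlin]
    refine Finset.sum_congr rfl fun i _ => ?_
    simp [L, LinearMap.sum_apply, Pi.single_apply]
  have hex := Module.Flat.lTensor_exact A' (L.exact_subtype_ker_map)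
  obtain ⟨ζ, hζ⟩ := (hex ξ).mp hξ
  have hy' : comb b A' a = φ.lTensor A' ξ := by
    simp [comb, ξ, φ, map_sum, Fintype.linearCombination_apply_single]
  rw [hy', ← hζ, ← LinearMap.comp_apply, ← LinearMap.lTensor_comp]
  clear hζ
  induction ζ using TensorProduct.induction_on with
  | zero => simp
  | tmul z k =>
    rw [LinearMap.lTensor_tmul, ← mul_one z, ← one_mul ((φ ∘ₗ (LinearMap.ker L).subtype) k),
      ← Algebra.TensorProduct.tmul_mul_tmul]
    refine Ideal.mul_mem_left _ _ (Ideal.mem_map_of_mem _ ?_)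
    have hk : comb b A k.1 ∈ PolLaw.kerBC F.law A := mem_kerBC_of_linear F b hb fun g hg => by
      have := congr_fun (k.2 : L k.1 = 0) ⟨g, hg⟩
      rw [hlin]
      simpa [L, LinearMap.sum_apply] using this
    have := lid_mem_ker F hk
    simpa [comb, φ, map_sum, Fintype.linearCombination_apply] using this
  | add z z' hz hz' => rw [map_add]; exact Ideal.add_mem _ hz hz'

end Groth.L22.Gamma
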