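import Groth.Agent.L22.Gamma.Tensor
import Mathlib.LinearAlgebra.PiTensorProduct.Basis
import Mathlib.GroupTheory.GroupAction.Defs

/-!
Symmetric tensors of a free module and the linear map attached to a homogeneous law.
-/

universe u

open scoped TensorProduct
open Module

namespace Groth.L22.Gamma

variable {A : Type u} [CommRing A] {P N : Type u} [AddCommGroup P] [Module A P]
  [AddCommGroup N] [Module A N] {ι : Type u} {d : ℕ}

/-- The basis of the tensor power. -/
noncomputable def tbasis (d : ℕ) (e : Basis ι A P) : Basis (Fin d → ι) A (TP A P d) :=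
  Basis.piTensorProduct fun _ => e

theorem tbasis_apply (e : Basis ι A P) (c : Fin d → ι) :
    tbasis d e c = PiTensorProduct.tprod A fun k => e (c k) :=
  Basis.piTensorProduct_apply _ _

open scoped Classical in
theorem repr_sym (e : Basis ι A P) (ν : ι →₀ ℕ) (c : Fin d → ι) :
    (tbasis d e).repr (sym A d e ν) c = if cnt c = ν then 1 else 0 := by
  simp only [sym, ← tbasis_apply, map_sum, Basis.repr_self, Finsupp.finsetSum_apply,
    Finsupp.single_apply, Finset.sum_ite_eq', mem_symIdx]

theorem repr_reindex (e : Basis ι A P) (σ : Equiv.Perm (Fin d)) (t : TP A P d) (c : Fin d → ι) :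
    (tbasis d e).repr (PiTensorProduct.reindex A (fun _ : Fin d => P) σ t) c =
      (tbasis d e).repr t (c ∘ σ) := by
  classical
  have h : (Finsupp.lapply c ∘ₗ (tbasis d e).repr.toLinearMap) ∘ₗ
        (PiTensorProduct.reindex A (fun _ : Fin d => P) σ).toLinearMap =
      Finsupp.lapply (c ∘ σ) ∘ₗ (tbasis d e).repr.toLinearMap := by
    refine (tbasis d e).ext fun c' => ?_
    have hr : PiTensorProduct.reindex A (fun _ : Fin d => P) σ (tbasis d e c') =
        tbasis d e (c' ∘ σ.symm) := by
      rw [tbasis_apply, tbasis_apply, PiTensorProduct.reindex_tprod]; rfl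
    simp only [LinearMap.comp_apply, LinearEquiv.coe_coe, Finsupp.lapply_apply, hr,
      Basis.repr_self, Finsupp.single_apply]
    refine if_congr ⟨?_, ?_⟩ rfl rfl
    · rintro rfl; funext k; simp
    · rintro rfl; funext k; simp
  exact DFunLike.congr_fun h t

/-- A symmetric tensor is a combination of orbit sums of its own terms. -/
theorem mem_span_sym (e : Basis ι A P) {t : TP A P d} (ht : t ∈ symT A P d) :
    t ∈ Submodule.span A
      ((fun c => sym A d e (cnt c)) '' (((tbasis d e).repr t).support : Set (Fin d → ι))) := by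
  classical
  have hinv : ∀ c c', cnt c = cnt c' →
      (tbasis d e).repr t c' = (tbasis d e).repr t c := by
    intro c c' h
    obtain ⟨σ, rfl⟩ := exists_perm_of_cnt_eq h
    rw [← repr_reindex, ht σ]
  set supp := ((tbasis d e).repr t).support
  let a : (ι →₀ ℕ) → A := fun ν =>
    if h : ∃ c ∈ supp, cnt c = ν then (tbasis d e).repr t h.choose else 0
  have key : t = ∑ ν ∈ supp.image cnt, a ν • sym A d e ν := by
    refine (tbasis d e).repr.injective (Finsupp.ext fun c => ?_)
    simp only [map_sum, map_smul, Finsupp.finsetSum_apply, Finsupp.smul_apply, repr_sym,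
      smul_eq_mul, mul_ite, mul_one, mul_zero, Finset.sum_ite_eq, Finset.mem_image]
    by_cases h : ∃ c' ∈ supp, cnt c' = cnt c
    · rw [if_pos h]
      change _ = dite _ _ _
      rw [dif_pos h]
      exact hinv _ _ h.choose_spec.2
    · rw [if_neg h]
      by_contra hne
      exact h ⟨c, Finsupp.mem_support_iff.mpr hne, rfl⟩
  rw [key]
  refine Submodule.sum_mem _ fun ν hν => Submodule.smul_mem _ _ ?_
  obtain ⟨c, hc, rfl⟩ := Finset.mem_image.mp hν
  exact Submodule.subset_span ⟨c, hc, rfl⟩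

theorem symT_le_span (e : Basis ι A P) :
    symT A P d ≤ Submodule.span A (Set.range (sym A d e)) := fun t ht =>
  Submodule.span_mono (by rintro _ ⟨c, _, rfl⟩; exact ⟨_, rfl⟩) (mem_span_sym e ht)

theorem eq_on_symT (e : Basis ι A P) {f g : TP A P d →ₗ[A] N}
    (h : ∀ ν : ι →₀ ℕ, f (sym A d e ν) = g (sym A d e ν)) {t : TP A P d} (ht : t ∈ symT A P d) :
    f t = g t :=
  LinearMap.eqOn_span (by rintro _ ⟨ν, rfl⟩; exact h ν) (symT_le_span e ht)

open scoped Classical in
/-- The linear map taking a prescribed value on each orbit sum. -/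
noncomputable def symLift (d : ℕ) (e : Basis ι A P) (h : (ι →₀ ℕ) → N) : TP A P d →ₗ[A] N :=
  (tbasis d e).constr A fun c =>
    if (fun ν : ι →₀ ℕ => if hν : ∃ c' : Fin d → ι, cnt c' = ν then hν.choose else c) (cnt c) = c
    then h (cnt c) else 0

theorem symLift_sym (e : Basis ι A P) (h : (ι →₀ ℕ) → N) {ν : ι →₀ ℕ}
    (hν : ∃ c : Fin d → ι, cnt c = ν) : symLift d e h (sym A d e ν) = h ν := by
  classical
  simp only [symLift, sym, ← tbasis_apply, map_sum, Basis.constr_basis]
  rw [Finset.sum_eq_single hν.choose]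
  · simp [hν.choose_spec, hν]
  · intro c hc hne
    rw [mem_symIdx] at hc
    simp [hc, hν, Ne.symm hne]
  · intro hni
    exact absurd (mem_symIdx.mpr hν.choose_spec) hni

theorem sym_eq_zero {κ : Type u} (v : κ → P) {ν : κ →₀ ℕ} (hν : (ν.sum fun _ k => k) ≠ d) :
    sym A d v ν = 0 := by
  rw [sym, Finset.sum_eq_zero]
  intro c hc
  exact absurd (mem_symIdx.mp hc ▸ sum_cnt c) hν

/-- The linear map on the tensor power attached to a law out of a free module. -/
noncomputable def theta (d : ℕ) (e : Basis ι A P) (F : P →ₚₗ[A] N) : TP A P d →ₗ[A] N :=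
  symLift d e (coef F e)

theorem theta_sym_basis (e : Basis ι A P) {F : P →ₚₗ[A] N} (hF : PolLaw.IsHomog F d)
    (ν : ι →₀ ℕ) : theta d e F (sym A d e ν) = coef F e ν := by
  by_cases hν : (ν.sum fun _ k => k) = d
  · exact symLift_sym e _ (exists_cnt_eq ν hν)
  · rw [sym_eq_zero e hν, map_zero, coef_eq_zero_of_degree_ne hF e hν]

theorem postcomp_theta (e : Basis ι A P) {F : P →ₚₗ[A] N} (hF : PolLaw.IsHomog F d) :
    PolLaw.postcomp (theta d e F) (tlaw A P d) = F :=
  ext_of_coef (isHomog_postcomp isHomog_tlaw _) hF e.span_eq fun ν _ => by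
    rw [coef_postcomp, coef_tlaw, theta_sym_basis e hF]

theorem theta_sym (e : Basis ι A P) {F : P →ₚₗ[A] N} (hF : PolLaw.IsHomog F d) {κ : Type u}
    (w : κ → P) (ν : κ →₀ ℕ) : theta d e F (sym A d w ν) = coef F w ν := by
  rw [← coef_tlaw, ← coef_postcomp, postcomp_theta e hF]

/-- Naturality of `theta` on symmetric tensors. -/
theorem theta_tmapL {P' : Type u} [AddCommGroup P'] [Module A P'] {ι' : Type u} (e : Basis ι A P)
    (e' : Basis ι' A P') {F : P →ₚₗ[A] N} (hF : PolLaw.IsHomog F d) (g : P' →ₗ[A] P)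
    {t : TP A P' d} (ht : t ∈ symT A P' d) :
    theta d e F (tmapL d g t) = theta d e' (PolLaw.precomp F g) t :=
  eq_on_symT e' (f := theta d e F ∘ₗ tmapL d g)
    (fun ν => by
      rw [LinearMap.comp_apply, tmapL_sym, theta_sym e hF, theta_sym e' (isHomog_precomp hF g),
        coef_precomp]) ht

/-- `theta` kills an invariant sum of pure tensors each having a bad factor. -/
theorem theta_sum_eq_zero (e : Basis ι A P) {F : P →ₚₗ[A] N} (hF : PolLaw.IsHomog F d)
    {Ω : Type u} [Fintype Ω] [MulAction (Equiv.Perm (Fin d)) Ω] (q : Ω → Fin d → P)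
    (hq : ∀ (σ : Equiv.Perm (Fin d)) (κ : Ω) (k : Fin d), q (σ • κ) (σ k) = q κ k) (bad : Set P)
    (hbad : ∀ (κ : Type u) (w : κ → P) (ν : κ →₀ ℕ),
      (∃ i ∈ ν.support, w i ∈ bad) → coef F w ν = 0)
    (hex : ∀ κ, ∃ k, q κ k ∈ bad) :
    theta d e F (∑ κ, PiTensorProduct.tprod A (q κ)) = 0 := by
  classical
  let X : Type u := MulAction.orbitRel.Quotient (Equiv.Perm (Fin d)) (Ω × Fin d)
  let η : X → P := Quotient.lift (fun p => q p.1 p.2) (by
    rintro ⟨κ, k⟩ ⟨κ', k'⟩ h
    obtain ⟨σ, hσ⟩ := h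
    simp only [Prod.smul_mk, Prod.mk.injEq] at hσ
    obtain ⟨rfl, rfl⟩ := hσ
    exact hq σ κ' k')
  let c : Ω → Fin d → X := fun κ k => Quotient.mk'' (κ, k)
  have hc : ∀ (σ : Equiv.Perm (Fin d)) (κ : Ω) (k : Fin d), c (σ • κ) (σ k) = c κ k :=
    fun σ κ k => Quotient.sound' ⟨σ, rfl⟩
  let b : Basis X A (X →₀ A) := Finsupp.basisSingleOne
  let t : TP A (X →₀ A) d := ∑ κ, tbasis d b (c κ)
  have ht : t ∈ symT A (X →₀ A) d := by
    intro σ
    simp only [t, map_sum, tbasis_apply, PiTensorProduct.reindex_tprod]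
    refine Fintype.sum_equiv (MulAction.toPerm σ) _ _ fun κ => ?_
    congr 1
    funext k
    rw [MulAction.toPerm_apply, ← hc σ κ (σ.symm k), Equiv.apply_symm_apply]
  let g : (X →₀ A) →ₗ[A] P := Finsupp.linearCombination A η
  have hg : ∀ x, g (b x) = η x := fun x => by simp [g, b]
  have hgt : tmapL d g t = ∑ κ, PiTensorProduct.tprod A (q κ) := by
    simp only [t, map_sum, tbasis_apply, tmapL_tprod, hg]
    exact Finset.sum_congr rfl fun κ _ => rfl
  rw [← hgt]
  have hsupp : ((tbasis d b).repr t).support ⊆ Finset.univ.image c := by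
    simp only [t, map_sum, Basis.repr_self]
    refine Finsupp.support_finsetSum.trans ?_
    intro x hx
    obtain ⟨κ, -, hκ⟩ := Finset.mem_biUnion.mp hx
    rw [Finset.mem_singleton.mp (Finsupp.support_single_subset hκ)]
    exact Finset.mem_image_of_mem c (Finset.mem_univ κ)
  have h0 : Submodule.span A ((fun x => sym A d b (cnt x)) '' (((tbasis d b).repr t).support : Set (Fin d → X))) ≤
      LinearMap.ker (theta d e F ∘ₗ tmapL d g) := by
    rw [Submodule.span_le]
    rintro _ ⟨x, hx, rfl⟩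
    obtain ⟨κ, -, rfl⟩ := Finset.mem_image.mp (hsupp hx)
    rw [SetLike.mem_coe, LinearMap.mem_ker, LinearMap.comp_apply, tmapL_sym, theta_sym e hF]
    obtain ⟨k, hk⟩ := hex κ
    refine hbad _ _ _ ⟨c κ k, apply_mem_support_cnt _ _, ?_⟩
    simp only [hg]
    exact hk
  exact h0 (mem_span_sym b ht)

end Groth.L22.Gamma
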