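import Groth.Agent.L22.Gamma.KerBasic
import Mathlib.RingTheory.Spectrum.Prime.Topology
import Mathlib.Topology.Connected.TotallyDisconnected
import Mathlib.LinearAlgebra.TensorProduct.RightExactness

/-!
Weights of idempotents with respect to a multiplicative law, and connected components of its image.
-/

universe u

open scoped TensorProduct Polynomial

set_option maxSynthPendingDepth 3

namespace Groth.L22.Gamma

variable {A B : Type u} [CommRing A] [CommRing B] [Algebra A B] {d : ℕ}

theorem toFun'_add_of_mem_map_ker (F : PolLaw.MulLaw A B A d) (S : Type u) [CommSemiring S]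
    [Algebra A S] {z : S ⊗[A] B}
    (hz : z ∈ (PolLaw.ker F.law).map (Algebra.TensorProduct.includeRight : B →ₐ[A] S ⊗[A] B))
    (x : S ⊗[A] B) : F.law.toFun' S (x + z) = F.law.toFun' S x := by
  suffices ∀ x w : S ⊗[A] B, F.law.toFun' S (x + w * z) = F.law.toFun' S x by
    simpa using this x 1
  clear x
  rw [Ideal.map] at hz
  induction hz using Submodule.span_induction with
  | mem y hy => obtain ⟨b, hb, rfl⟩ := hy; exact fun x w => hb S x w
  | zero => simp
  | add a b _ _ ha hb => intro x w; rw [mul_add, ← add_assoc, hb, ha]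
  | smul c a _ ha => intro x w; rw [smul_eq_mul, ← mul_assoc]; exact ha x _

/-- A law descends to its image, where its kernel is zero. -/
theorem exists_image_law (F : PolLaw.MulLaw A B A d) :
    ∃ G : PolLaw.MulLaw A (PolLaw.image F.law) A d,
      (G.precomp (Ideal.Quotient.mkₐ A (PolLaw.ker F.law))).law = F.law ∧
        PolLaw.ker G.law = ⊥ := by
  let π := Ideal.Quotient.mkₐ A (PolLaw.ker F.law)
  have hs : Function.Surjective π := Ideal.Quotient.mk_surjective
  have h : ∀ (S : Type u) [CommSemiring S] [Algebra A S] (x y : S ⊗[A] B),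
      π.toLinearMap.lTensor S x = π.toLinearMap.lTensor S y →
        F.law.toFun' S x = F.law.toFun' S y := by
    intro S hS _ x y hxy
    letI : CommRing S := { Algebra.semiringToRing A with mul_comm := hS.mul_comm }
    have hz : x - y ∈ RingHom.ker (Algebra.TensorProduct.map (AlgHom.id A S) π) := by
      rw [RingHom.mem_ker, map_sub, sub_eq_zero]
      exact hxy
    rw [Algebra.TensorProduct.lTensor_ker π hs,
      show RingHom.ker π = PolLaw.ker F.law from Ideal.Quotient.mkₐ_ker A _] at hz
    rw [← add_sub_cancel y x]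
    exact toFun'_add_of_mem_map_ker F S hz y
  obtain ⟨G, hG⟩ := exists_descend' F π hs h
  refine ⟨G, hG, eq_bot_iff.mpr fun c hc => ?_⟩
  obtain ⟨b, rfl⟩ := hs c
  refine Ideal.Quotient.eq_zero_iff_mem.mpr fun S _ _ x w => ?_
  have hGS : ∀ z : S ⊗[A] B, F.law.toFun' S z = G.law.toFun' S (π.toLinearMap.lTensor S z) := by
    intro z; exact (congrArg (fun L => PolynomialLaw.toFun' L S z) hG).symm
  rw [hGS, hGS, PolLaw.lTensor_algHom_apply, PolLaw.lTensor_algHom_apply, map_add, map_mul,
    Algebra.TensorProduct.map_tmul, map_one]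
  exact hc S _ _

variable (F : PolLaw.MulLaw A B A d)

theorem idem_mul {S : Type u} [CommSemiring S] [Algebra A S] {e : B} (he : IsIdempotentElem e)
    (a b r s : S) :
    (a ⊗ₜ[A] (1 - e) + r ⊗ₜ[A] e) * (b ⊗ₜ[A] (1 - e) + s ⊗ₜ[A] e) =
      (a * b) ⊗ₜ[A] (1 - e) + (r * s) ⊗ₜ[A] e := by
  simp only [add_mul, mul_add, Algebra.TensorProduct.tmul_mul_tmul, he.one_sub.eq, he.eq,
    he.one_sub_mul_self, he.mul_one_sub_self, TensorProduct.tmul_zero, add_zero, zero_add]

theorem mem_ker_of_nm_eq_one {e : B} (he : IsIdempotentElem e)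
    (h : nm F A ((1 : A) ⊗ₜ[A] (1 - e)) = 1) : e ∈ PolLaw.ker F.law := by
  intro R _ _ x w
  have h1 : nm F R ((1 : R) ⊗ₜ[A] (1 - e)) = 1 := by
    have := map_nm F (Algebra.ofId A R) ((1 : A) ⊗ₜ[A] (1 - e))
    rw [h, map_one, LinearMap.rTensor_tmul, AlgHom.toLinearMap_apply, map_one] at this
    exact this.symm
  rw [← nm_inj, ← mul_one (nm F R (x + _)), ← mul_one (nm F R x), ← h1, ← nm_mul, ← nm_mul,
    add_mul, mul_assoc, Algebra.TensorProduct.tmul_mul_tmul, he.mul_one_sub_self,
    TensorProduct.tmul_zero, mul_zero, add_zero]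

theorem idem_eq [ConnectedSpace (PrimeSpectrum A)] {c : A} (hc : IsIdempotentElem c) :
    c = 0 ∨ c = 1 := by
  have hcl : IsClopen (PrimeSpectrum.basicOpen c : Set (PrimeSpectrum A)) :=
    PrimeSpectrum.isClopen_iff.mpr ⟨c, hc, rfl⟩
  rcases isClopen_iff.mp hcl with h | h
  · exact Or.inl (PrimeSpectrum.basicOpen_injOn_isIdempotentElem hc IsIdempotentElem.zero
      (TopologicalSpace.Opens.ext (by simpa using h)))
  · exact Or.inr (PrimeSpectrum.basicOpen_injOn_isIdempotentElem hc IsIdempotentElem.one
      (TopologicalSpace.Opens.ext (by simpa using h)))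

/-- Weight of an idempotent. -/
theorem exists_weight [ConnectedSpace (PrimeSpectrum A)] {e : B} (he : IsIdempotentElem e) :
    ∃ ν : ℕ, ∀ (R : Type u) [CommSemiring R] [Algebra A R] (r : R),
      nm F R ((1 : R) ⊗ₜ[A] (1 - e) + r ⊗ₜ[A] e) = r ^ ν := by
  haveI : Nontrivial A := PrimeSpectrum.nonempty_iff_nontrivial.mp inferInstance
  let P : A[X] := nm F A[X] ((1 : A[X]) ⊗ₜ[A] (1 - e) + Polynomial.X ⊗ₜ[A] e)
  have hP : ∀ (R : Type u) [CommSemiring R] [Algebra A R] (r : R),
      nm F R ((1 : R) ⊗ₜ[A] (1 - e) + r ⊗ₜ[A] e) = Polynomial.aeval r P := by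
    intro R _ _ r
    rw [show P = nm F A[X] _ from rfl, map_nm F (Polynomial.aeval r), map_add,
      LinearMap.rTensor_tmul, LinearMap.rTensor_tmul]
    simp
  have hmul : ∀ j, P * Polynomial.C (P.coeff j) = Polynomial.C (P.coeff j) * Polynomial.X ^ j := by
    intro j
    have h := (hP A[X][X] (Polynomial.C Polynomial.X * Polynomial.X)).symm
    rw [show (1 : A[X][X]) = 1 * 1 from (mul_one 1).symm, ← idem_mul he, nm_mul, hP, hP] at h
    have h1 : ∀ Q : A[X],
        Polynomial.aeval (Polynomial.C (Polynomial.X : A[X]) : A[X][X]) Q = Polynomial.C Q := by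
      intro Q; induction Q using Polynomial.induction_on' with
      | add p q hp hq => simp only [map_add, hp, hq]
      | monomial n a => simp [← Polynomial.C_mul_X_pow_eq_monomial, Polynomial.algebraMap_apply]
    have h2 : ∀ Q : A[X],
        (Polynomial.aeval (Polynomial.X : A[X][X]) Q).coeff j = Polynomial.C (Q.coeff j) := by
      intro Q; induction Q using Polynomial.induction_on' with
      | add p q hp hq => simp [map_add, hp, hq]
      | monomial n a =>
        simp [Polynomial.algebraMap_apply, Polynomial.coeff_monomial, Polynomial.coeff_C_mul,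
          Polynomial.coeff_X_pow, apply_ite Polynomial.C, eq_comm]
    have h3 : ∀ Q : A[X], (Polynomial.aeval
        (Polynomial.C (Polynomial.X : A[X]) * Polynomial.X : A[X][X]) Q).coeff j =
          Polynomial.C (Q.coeff j) * Polynomial.X ^ j := by
      intro Q; induction Q using Polynomial.induction_on' with
      | add p q hp hq => simp [map_add, hp, hq, add_mul]
      | monomial n a =>
        rw [Polynomial.aeval_monomial, mul_pow, ← Polynomial.C_pow, Polynomial.algebraMap_apply,
          ← mul_assoc, ← Polynomial.C_mul, Polynomial.coeff_C_mul, Polynomial.coeff_X_pow,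
          Polynomial.coeff_monomial]
        by_cases hn : j = n
        · subst hn; simp [Polynomial.algebraMap_apply]
        · simp [hn, Ne.symm hn]
    have h4 := congrArg (fun q => Polynomial.coeff q j) h
    simp only [h1, Polynomial.coeff_C_mul, h2, h3] at h4
    exact h4.symm
  have hne : P ≠ 0 := by
    intro h0
    have h1 := hP A 1
    rw [← TensorProduct.tmul_add, sub_add_cancel, ← Algebra.TensorProduct.one_def, nm_one, h0,
      map_zero] at h1
    exact one_ne_zero h1
  obtain ⟨j, hj⟩ : ∃ j, P.coeff j ≠ 0 := by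
    by_contra hh
    push Not at hh
    exact hne (Polynomial.ext fun j => by simp [hh j])
  have hid : IsIdempotentElem (P.coeff j) := by
    have := congrArg (fun q => Polynomial.coeff q j) (hmul j)
    simpa [IsIdempotentElem] using this
  have hone : P.coeff j = 1 := (idem_eq hid).resolve_left hj
  refine ⟨j, fun R _ _ r => ?_⟩
  have := hmul j
  rw [hone, map_one, one_mul, mul_one] at this
  rw [hP R r, this, map_pow, Polynomial.aeval_X]

/-- The weight of an idempotent. -/
noncomputable def weight [ConnectedSpace (PrimeSpectrum A)] {e : B} (he : IsIdempotentElem e) : ℕ :=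
  (exists_weight F he).choose

theorem weight_spec [ConnectedSpace (PrimeSpectrum A)] {e : B} (he : IsIdempotentElem e)
    (R : Type u) [CommSemiring R] [Algebra A R] (r : R) :
    nm F R ((1 : R) ⊗ₜ[A] (1 - e) + r ⊗ₜ[A] e) = r ^ weight F he :=
  (exists_weight F he).choose_spec R r

theorem weight_eq_of [ConnectedSpace (PrimeSpectrum A)] {e : B} (he : IsIdempotentElem e) {n : ℕ}
    (h : nm F A[X] ((1 : A[X]) ⊗ₜ[A] (1 - e) + Polynomial.X ⊗ₜ[A] e) = Polynomial.X ^ n) :
    weight F he = n := by
  haveI : Nontrivial A := PrimeSpectrum.nonempty_iff_nontrivial.mp inferInstance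
  rw [weight_spec] at h
  simpa using congrArg Polynomial.natDegree h

theorem weight_one [ConnectedSpace (PrimeSpectrum A)] :
    weight F (IsIdempotentElem.one (M := B)) = d :=
  weight_eq_of F _ (by rw [sub_self, TensorProduct.tmul_zero, zero_add, nm_algebraMap])

theorem isIdempotentElem_add {e f : B} (he : IsIdempotentElem e) (hf : IsIdempotentElem f)
    (hef : e * f = 0) : IsIdempotentElem (e + f) := by
  rw [IsIdempotentElem, mul_add, add_mul, add_mul, he.eq, hf.eq, mul_comm f e, hef, add_zero,
    zero_add]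

theorem weight_add [ConnectedSpace (PrimeSpectrum A)] {e f : B} (he : IsIdempotentElem e)
    (hf : IsIdempotentElem f) (hef : e * f = 0) :
    weight F (isIdempotentElem_add he hf hef) = weight F he + weight F hf := by
  refine weight_eq_of F _ ?_
  rw [pow_add, ← weight_spec F he, ← weight_spec F hf, ← nm_mul]
  congr 1
  simp only [add_mul, mul_add, Algebra.TensorProduct.tmul_mul_tmul, one_mul, mul_one, hef,
    TensorProduct.tmul_zero, add_zero]
  rw [show (1 - e) * (1 - f) = 1 - (e + f) by ring_nf; rw [hef]; ring,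
    show (1 - e) * f = f by rw [sub_mul, one_mul, hef, sub_zero],
    show e * (1 - f) = e by rw [mul_sub, mul_one, hef, sub_zero], TensorProduct.tmul_add]
  abel

theorem mem_ker_of_weight_eq_zero [ConnectedSpace (PrimeSpectrum A)] {e : B}
    (he : IsIdempotentElem e) (h : weight F he = 0) : e ∈ PolLaw.ker F.law := by
  refine mem_ker_of_nm_eq_one F he ?_
  have := weight_spec F he A 0
  rwa [h, pow_zero, TensorProduct.zero_tmul, add_zero] at this

theorem weight_le [ConnectedSpace (PrimeSpectrum A)] {e : B} (he : IsIdempotentElem e) :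
    weight F he ≤ d := by
  have h := weight_add F he he.one_sub he.mul_one_sub_self
  simp only [add_sub_cancel] at h
  rw [weight_one] at h
  omega

/-- A space all whose continuous maps onto `Fin n` have `n ≤ d` has at most `d` components. -/
theorem finite_connectedComponents {X : Type*} [TopologicalSpace X] {d : ℕ}
    (h : ∀ n (f : X → Fin n), Continuous f → Function.Surjective f → n ≤ d) :
    Finite (ConnectedComponents X) ∧ Nat.card (ConnectedComponents X) ≤ d := by
  classical
  let S : ℕ → Prop := fun n => ∃ f : X → Fin n, Continuous f ∧ Function.Surjective f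
  obtain ⟨n, hn, hmax⟩ : ∃ n, S n ∧ ∀ m, S m → m ≤ n := by
    have hS : ∃ m, m ≤ d ∧ S m := by
      rcases isEmpty_or_nonempty X with hX | hX
      · exact ⟨0, Nat.zero_le _, isEmptyElim, continuous_of_discreteTopology, fun i => i.elim0⟩
      · have hs : Function.Surjective (fun _ : X => (0 : Fin 1)) := fun i =>
          ⟨Classical.arbitrary X, Subsingleton.elim _ _⟩
        exact ⟨1, h 1 _ continuous_const hs, _, continuous_const, hs⟩
    obtain ⟨m, hm, hm'⟩ := hS
    exact ⟨Nat.findGreatest S d, Nat.findGreatest_spec hm hm', fun k hk => by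
      obtain ⟨f, hf, hf'⟩ := hk
      exact Nat.le_findGreatest (h k f hf hf') ⟨f, hf, hf'⟩⟩
  obtain ⟨f, hf, hsurj⟩ := hn
  have hfib : ∀ i, IsPreconnected (f ⁻¹' {i}) := by
    intro i
    have hcl : IsClopen (f ⁻¹' {i}) := (isClopen_discrete _).preimage hf
    rw [isPreconnected_iff_subset_of_fully_disjoint_closed hcl.1]
    intro u v hu hv hsub huv
    by_contra hcon
    push Not at hcon
    obtain ⟨a, hai, hau⟩ := Set.not_subset.mp hcon.1
    obtain ⟨b, hbi, hbv⟩ := Set.not_subset.mp hcon.2
    have hW : IsClopen (f ⁻¹' {i} ∩ v) := by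
      refine ⟨hcl.1.inter hv, ?_⟩
      have : f ⁻¹' {i} ∩ v = f ⁻¹' {i} ∩ uᶜ := by
        ext x
        refine ⟨fun hx => ⟨hx.1, fun hxu => Set.disjoint_left.mp huv hxu hx.2⟩, fun hx => ⟨hx.1, ?_⟩⟩
        exact (hsub hx.1).resolve_left hx.2
      rw [this]
      exact hcl.2.inter hu.isOpen_compl
    have hav : a ∈ f ⁻¹' {i} ∩ v := ⟨hai, (hsub hai).resolve_left hau⟩
    have hbv' : b ∉ f ⁻¹' {i} ∩ v := fun hb => hbv hb.2
    let g : X → Fin (n + 1) := (f ⁻¹' {i} ∩ v).piecewise (fun _ => Fin.last n) fun x => (f x).castSucc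
    have hg : Continuous g := continuous_piecewise (by simp [hW.frontier_eq])
      continuous_const.continuousOn (continuous_of_discreteTopology.comp hf).continuousOn
    have := hmax (n + 1) ⟨g, hg, fun k => ?_⟩
    · omega
    · rcases Fin.eq_castSucc_or_eq_last k with ⟨j, rfl⟩ | rfl
      · by_cases hji : j = i
        · exact ⟨b, by rw [show g b = (f b).castSucc from Set.piecewise_eq_of_notMem _ _ _ hbv',
            show f b = i from hbi, hji]⟩
        · obtain ⟨x, rfl⟩ := hsurj j
          exact ⟨x, Set.piecewise_eq_of_notMem _ _ _ fun hx => hji hx.1⟩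
      · exact ⟨a, Set.piecewise_eq_of_mem _ _ _ hav⟩
  have hinj : Function.Injective hf.connectedComponentsLift := by
    intro p q hpq
    obtain ⟨x, rfl⟩ := ConnectedComponents.surjective_coe p
    obtain ⟨y, rfl⟩ := ConnectedComponents.surjective_coe q
    simp only [Continuous.connectedComponentsLift_apply_coe] at hpq
    rw [ConnectedComponents.coe_eq_coe']
    exact (hfib (f y)).subset_connectedComponent (rfl : f y ∈ ({f y} : Set _)) hpq
  exact ⟨Finite.of_injective _ hinj, (Nat.card_le_card_of_injective _ hinj).trans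
    (by rw [Nat.card_fin]; exact h n f hf hsurj)⟩

theorem connectedComponents_image [ConnectedSpace (PrimeSpectrum A)] :
    Finite (ConnectedComponents (PrimeSpectrum (PolLaw.image F.law))) ∧
      Nat.card (ConnectedComponents (PrimeSpectrum (PolLaw.image F.law))) ≤ d := by
  classical
  obtain ⟨G, -, hG⟩ := exists_image_law F
  refine finite_connectedComponents fun n f hf hsurj => ?_
  choose e he hfe using fun i => PrimeSpectrum.exists_idempotent_basicOpen_eq_of_isClopen
    ((isClopen_discrete ({i} : Set (Fin n))).preimage hf)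
  have horth : ∀ i j, i ≠ j → e i * e j = 0 := by
    intro i j hij
    refine PrimeSpectrum.basicOpen_injOn_isIdempotentElem ((he i).mul (he j))
      IsIdempotentElem.zero (TopologicalSpace.Opens.ext ?_)
    rw [PrimeSpectrum.basicOpen_mul, TopologicalSpace.Opens.coe_inf, ← hfe, ← hfe,
      PrimeSpectrum.basicOpen_zero, TopologicalSpace.Opens.coe_bot, ← Set.preimage_inter,
      Set.singleton_inter_eq_empty.mpr (by simpa using hij), Set.preimage_empty]
  have hpos : ∀ i, 1 ≤ weight G (he i) := by
    intro i
    by_contra h0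
    have h1 := mem_ker_of_weight_eq_zero G (he i) (by omega)
    rw [hG, Ideal.mem_bot] at h1
    obtain ⟨x, hx⟩ := hsurj i
    have hx' : x ∈ f ⁻¹' {i} := hx
    rw [hfe i, h1] at hx'
    simp at hx'
  have key : ∀ s : Finset (Fin n), ∃ hs : IsIdempotentElem (∑ i ∈ s, e i),
      s.card ≤ weight G hs := by
    intro s
    induction s using Finset.induction_on with
    | empty => exact ⟨by simp [IsIdempotentElem], Nat.zero_le _⟩
    | insert a s ha ih =>
      obtain ⟨hs, hle⟩ := ih
      have h0 : e a * ∑ i ∈ s, e i = 0 := by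
        rw [Finset.mul_sum]
        exact Finset.sum_eq_zero fun i hi => horth a i (fun h => ha (h ▸ hi))
      have h1 := weight_add G (he a) hs h0
      have hp := hpos a
      simp only [Finset.sum_insert ha]
      exact ⟨isIdempotentElem_add (he a) hs h0, by rw [h1, Finset.card_insert_of_notMem ha]; omega⟩
  obtain ⟨hs, hle⟩ := key Finset.univ
  simpa using hle.trans (weight_le G hs)

end Groth.L22.Gamma
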