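import Groth.Agent.L22.Gamma.CH
import Mathlib.Algebra.MvPolynomial.Nilpotent
import Mathlib.RingTheory.Polynomial.Basic
import Mathlib.RingTheory.Ideal.Operations
import Mathlib.RingTheory.Nilpotent.Lemmas

/-!
Kernels of multiplicative laws and of their base changes.
-/

universe u

open scoped TensorProduct Polynomial

set_option maxSynthPendingDepth 3

namespace Groth.L22.Gamma

variable {A B : Type u} [CommRing A] [CommRing B] [Algebra A B] {d : ℕ}
  (F : PolLaw.MulLaw A B A d) {A' A'' : Type u} [CommRing A'] [Algebra A A'] [CommRing A'']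
  [Algebra A A'']

theorem img_map (g : A' →ₐ[A] A'') (R : Type u) [CommSemiring R] [Algebra A R] [Algebra A' R]
    [IsScalarTower A A' R] [Algebra A'' R] [IsScalarTower A A'' R]
    (h : ∀ a, algebraMap A'' R (g a) = algebraMap A' R a) (y : A' ⊗[A] B) :
    img A'' R (Algebra.TensorProduct.map g (AlgHom.id A B) y) = img A' R y := by
  rw [← AlgHom.comp_apply, ← Algebra.TensorProduct.map_comp]
  congr 2
  exact AlgHom.ext h

theorem img_self (y : A' ⊗[A] B) : img A' A' y = y := by
  induction y using TensorProduct.induction_on with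
  | zero => simp
  | tmul a b => simp
  | add a b ha hb => simp only [map_add, ha, hb]

theorem map_mem_kerBC (g : A' →ₐ[A] A'') {y : A' ⊗[A] B} (hy : y ∈ PolLaw.kerBC F.law A') :
    Algebra.TensorProduct.map g (AlgHom.id A B) y ∈ PolLaw.kerBC F.law A'' := by
  intro R _ _ _ _ x w
  letI : Algebra A' R := ((algebraMap A'' R).comp g.toRingHom).toAlgebra
  haveI : IsScalarTower A A' R := IsScalarTower.of_algebraMap_eq fun a => by
    change _ = algebraMap A'' R (g (algebraMap A A' a))
    rw [g.commutes]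
    exact IsScalarTower.algebraMap_apply A A'' R a
  change F.law.toFun' R (x + w * img A'' R _) = _
  rw [img_map g R (fun a => rfl)]
  exact hy R x w

theorem includeRight_mem_kerBC {b : B} (hb : b ∈ PolLaw.ker F.law) :
    (1 : A') ⊗ₜ[A] b ∈ PolLaw.kerBC F.law A' := by
  intro R _ _ _ _ x w
  rw [Algebra.TensorProduct.map_tmul, map_one]
  exact hb R x w

theorem map_ker_le_kerBC :
    (PolLaw.ker F.law).map (Algebra.TensorProduct.includeRight : B →ₐ[A] A' ⊗[A] B) ≤
      PolLaw.kerBC F.law A' :=
  Ideal.map_le_iff_le_comap.mpr fun _ hb => includeRight_mem_kerBC F hb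

theorem mem_ker_of_kerBC_self {b : B} (hb : (1 : A) ⊗ₜ[A] b ∈ PolLaw.kerBC F.law A) :
    b ∈ PolLaw.ker F.law := by
  intro R _ _ x w
  have h := hb R x w
  rwa [Algebra.TensorProduct.map_tmul, map_one] at h

/-- It suffices to test membership in the kernel on polynomial rings. -/
theorem mem_kerBC_of_mv {y : A' ⊗[A] B}
    (h : ∀ (n : ℕ) (x w : MvPolynomial (Fin n) A' ⊗[A] B),
      nm F (MvPolynomial (Fin n) A') (x + w * img A' (MvPolynomial (Fin n) A') y) =
        nm F (MvPolynomial (Fin n) A') x) : y ∈ PolLaw.kerBC F.law A' := by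
  intro R _ _ _ _ x w
  obtain ⟨n, r, b, rfl⟩ := TensorProduct.exists_sum_tmul_eq x
  obtain ⟨m, s, c, rfl⟩ := TensorProduct.exists_sum_tmul_eq w
  let χ : MvPolynomial (Fin (n + m)) A' →ₐ[A'] R := MvPolynomial.aeval (Fin.addCases r s)
  rw [← nm_inj]
  have key := congrArg (χ.restrictScalars A) (h (n + m)
    (∑ i, MvPolynomial.X (Fin.castAdd m i) ⊗ₜ[A] b i)
    (∑ i, MvPolynomial.X (Fin.natAdd n i) ⊗ₜ[A] c i))
  rw [← nm_map, ← nm_map] at key
  have hy : ∀ y : A' ⊗[A] B, Algebra.TensorProduct.map (χ.restrictScalars A) (AlgHom.id A B)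
      (img A' (MvPolynomial (Fin (n + m)) A') y) = img A' R y := by
    intro y
    rw [← AlgHom.comp_apply, ← Algebra.TensorProduct.map_comp]
    congr 2
    exact AlgHom.ext fun a => χ.commutes a
  simpa [map_add, map_mul, map_sum, hy, χ, Fin.addCases_left, Fin.addCases_right] using key

theorem coeff_eq_of_aeval_C_mul_X {R : Type u} [CommRing R] {P : R[X]} {u c : R}
    (h : Polynomial.aeval (Polynomial.C u * Polynomial.X) P = Polynomial.C c)
    (hu : ∀ a, a * u = 0 → a = 0) : P = Polynomial.C c := by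
  have key : ∀ (Q : R[X]) (k : ℕ),
      (Polynomial.aeval (Polynomial.C u * Polynomial.X) Q).coeff k = Q.coeff k * u ^ k := by
    intro Q k
    induction Q using Polynomial.induction_on' with
    | add p q hp hq => simp [hp, hq, add_mul]
    | monomial i a =>
      simp only [Polynomial.aeval_monomial, mul_pow, ← map_pow, Polynomial.algebraMap_eq,
        ← mul_assoc, ← map_mul, Polynomial.coeff_C_mul_X_pow, Polynomial.coeff_monomial]
      by_cases hik : k = i
      · subst hik; simp
      · simp [hik, Ne.symm hik]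
  refine Polynomial.ext fun k => ?_
  have hk := key P k
  rw [h] at hk
  have hpow : ∀ (k : ℕ) (a : R), a * u ^ k = 0 → a = 0 := by
    intro k
    induction k with
    | zero => simp
    | succ k ih => intro a ha; exact ih a (hu _ (by rw [mul_assoc, ← pow_succ]; exact ha))
  rcases k with _ | k
  · simpa using hk.symm
  · rw [Polynomial.coeff_C_succ] at hk ⊢
    exact hpow _ _ hk.symm

/-- The value along a line, as a polynomial. -/
noncomputable def line (R : Type u) [CommRing R] [Algebra A R] (x v : R ⊗[A] B) : R[X] :=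
  nm F R[X] (img R R[X] x + (Polynomial.X ⊗ₜ[A] (1 : B)) * img R R[X] v)

theorem aeval_line {R S : Type u} [CommRing R] [Algebra A R] [CommRing S] [Algebra A S]
    [Algebra R S] [IsScalarTower A R S] (s : S) (x v : R ⊗[A] B) :
    Polynomial.aeval s (line F R x v) = nm F S (img R S x + (s ⊗ₜ[A] (1 : B)) * img R S v) := by
  have himg : ∀ z : R ⊗[A] B, Algebra.TensorProduct.map ((Polynomial.aeval (R := R) s).restrictScalars A)
      (AlgHom.id A B) (img R R[X] z) = img R S z := by
    intro z
    rw [← AlgHom.comp_apply, ← Algebra.TensorProduct.map_comp]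
    congr 2
    exact AlgHom.ext fun a => Polynomial.aeval_C s a
  rw [line, ← AlgHom.restrictScalars_apply A (Polynomial.aeval (R := R) s), ← nm_map, map_add,
    map_mul, himg, himg]
  simp

theorem line_eval_one {R : Type u} [CommRing R] [Algebra A R] (x v : R ⊗[A] B) :
    Polynomial.aeval (1 : R) (line F R x v) = nm F R (x + v) := by
  rw [aeval_line, img_self, img_self, ← Algebra.TensorProduct.one_def, one_mul]

theorem line_eval_zero {R : Type u} [CommRing R] [Algebra A R] (x v : R ⊗[A] B) :
    Polynomial.aeval (0 : R) (line F R x v) = nm F R x := by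
  rw [aeval_line, img_self, TensorProduct.zero_tmul, zero_mul, add_zero]

theorem nm_eq_of_line_eq_C {R : Type u} [CommRing R] [Algebra A R] {x v : R ⊗[A] B} {c : R}
    (h : line F R x v = Polynomial.C c) : nm F R (x + v) = nm F R x := by
  rw [← line_eval_one, ← line_eval_zero F x v, h, Polynomial.aeval_C, Polynomial.aeval_C]

theorem nm_img {R S : Type u} [CommRing R] [Algebra A R] [CommSemiring S] [Algebra A S]
    [Algebra R S] [IsScalarTower A R S] (z : R ⊗[A] B) :
    nm F S (img R S z) = algebraMap R S (nm F R z) :=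
  nm_map F _ z

theorem img_img {R S : Type u} [CommRing R] [Algebra A R] [Algebra A' R] [IsScalarTower A A' R]
    [CommSemiring S] [Algebra A S] [Algebra A' S] [IsScalarTower A A' S] [Algebra R S]
    [IsScalarTower A R S] [IsScalarTower A' R S] (y : A' ⊗[A] B) :
    img R S (img A' R y) = img A' S y := by
  rw [← AlgHom.comp_apply, ← Algebra.TensorProduct.map_comp]
  congr 2
  exact AlgHom.ext fun a => (IsScalarTower.algebraMap_apply A' R S a).symm

/-- The kernel is saturated for regular elements. -/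
theorem mem_kerBC_of_smul_mem {r : A'} (hr : ∀ a : A', a * r = 0 → a = 0) {y : A' ⊗[A] B}
    (hy : (r ⊗ₜ[A] (1 : B)) * y ∈ PolLaw.kerBC F.law A') : y ∈ PolLaw.kerBC F.law A' := by
  refine mem_kerBC_of_mv F fun n x w => ?_
  let R := MvPolynomial (Fin n) A'
  refine nm_eq_of_line_eq_C F (c := nm F R x) (coeff_eq_of_aeval_C_mul_X (u := algebraMap A' R r) ?_ ?_)
  · rw [aeval_line]
    have h : img R R[X] x + ((Polynomial.C (algebraMap A' R r) * Polynomial.X) ⊗ₜ[A] (1 : B)) *
          img R R[X] (w * img A' R y) =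
        img R R[X] x + (img R R[X] w * (Polynomial.X ⊗ₜ[A] (1 : B))) *
          img A' R[X] ((r ⊗ₜ[A] (1 : B)) * y) := by
      rw [map_mul (img R R[X]), img_img, map_mul (img A' R[X]), Algebra.TensorProduct.map_tmul,
        map_one]
      have : (IsScalarTower.toAlgHom A A' R[X]) r = Polynomial.C (algebraMap A' R r) := rfl
      rw [this, ← mul_one (1 : B), ← Algebra.TensorProduct.tmul_mul_tmul, mul_one]
      ring
    rw [h, (nm_inj F).mpr (hy R[X] _ _), nm_img, ← Polynomial.algebraMap_eq]
  · intro a ha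
    refine MvPolynomial.ext _ _ fun m => hr _ ?_
    have := congrArg (MvPolynomial.coeff m) ha
    rwa [MvPolynomial.algebraMap_eq, mul_comm, MvPolynomial.coeff_C_mul, mul_comm] at this

theorem eq_C_of_mul_comp_neg {R : Type u} [CommRing R] [IsReduced R] (p : R[X])
    (h : p * p.comp (-Polynomial.X) = Polynomial.C (p.coeff 0 ^ 2)) :
    p = Polynomial.C (p.coeff 0) := by
  refine Polynomial.ext fun k => ?_
  rcases k with _ | k
  · simp
  rw [Polynomial.coeff_C_succ]
  have hnil : p.coeff (k + 1) ∈ nilradical R := by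
    rw [nilradical_eq_sInf, Submodule.mem_sInf]
    intro q (hq : Ideal.IsPrime q)
    rw [← Ideal.Quotient.eq_zero_iff_mem]
    have h' := congrArg (Polynomial.map (Ideal.Quotient.mk q)) h
    rw [Polynomial.map_mul, Polynomial.map_comp, Polynomial.map_neg, Polynomial.map_X,
      Polynomial.map_C, map_pow, ← Polynomial.coeff_map] at h'
    rw [← Polynomial.coeff_map]
    generalize p.map (Ideal.Quotient.mk q) = r at h' ⊢
    by_cases h0 : r.coeff 0 = 0
    · rw [h0, zero_pow two_ne_zero, map_zero, mul_eq_zero] at h'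
      rcases h' with h' | h'
      · simp [h']
      · have := congrArg (fun s : (R ⧸ q)[X] => s.comp (-Polynomial.X)) h'
        simp [Polynomial.comp_assoc] at this
        simp [this]
    · have hd := congrArg Polynomial.natDegree h'
      have hne : r ≠ 0 := fun hr => h0 (by simp [hr])
      have hne' : r.comp (-Polynomial.X) ≠ 0 := fun hr => by
        rw [hr, mul_zero] at h'
        exact h0 (sq_eq_zero_iff.mp (Polynomial.C_eq_zero.mp h'.symm))
      rw [Polynomial.natDegree_mul hne hne', Polynomial.natDegree_C,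
        Polynomial.natDegree_comp, Polynomial.natDegree_neg, Polynomial.natDegree_X, mul_one] at hd
      exact Polynomial.coeff_eq_zero_of_natDegree_lt (by omega)
  rwa [nilradical_eq_zero, Ideal.zero_eq_bot, Ideal.mem_bot] at hnil

/-- Over a reduced ring the kernel is radical. -/
theorem isRadical_kerBC [IsReduced A'] : (PolLaw.kerBC F.law A').IsRadical := by
  rw [Ideal.isRadical_iff_pow_one_lt 2 one_lt_two]
  intro y hy
  refine mem_kerBC_of_mv F fun n x w => ?_
  let R := MvPolynomial (Fin n) A'
  let X1 : R[X] ⊗[A] B := Polynomial.X ⊗ₜ[A] (1 : B)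
  let v := w * img A' R y
  refine nm_eq_of_line_eq_C F (eq_C_of_mul_comp_neg _ ?_)
  have hneg : (line F R x v).comp (-Polynomial.X) =
      nm F R[X] (img R R[X] x + (-X1) * img R R[X] v) := by
    rw [show (line F R x v).comp (-Polynomial.X) = Polynomial.aeval (-Polynomial.X : R[X]) (line F R x v)
      from rfl, aeval_line, TensorProduct.neg_tmul]
  rw [hneg, line, ← nm_mul]
  have hc : (line F R x v).coeff 0 = nm F R x := by
    rw [← line_eval_zero F x v, ← Polynomial.coeff_zero_eq_aeval_zero]
  change nm F R[X] ((img R R[X] x + X1 * img R R[X] v) * (img R R[X] x + -X1 * img R R[X] v)) =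
    Polynomial.C ((line F R x v).coeff 0 ^ 2)
  have hsq : (img R R[X] x + X1 * img R R[X] v) * (img R R[X] x + -X1 * img R R[X] v) =
      img R R[X] x ^ 2 + (-(X1 ^ 2) * img R R[X] w ^ 2) * img A' R[X] (y ^ 2) := by
    rw [show img R R[X] v = img R R[X] w * img A' R[X] y by
      simp only [v, map_mul, img_img], map_pow]
    ring
  rw [hsq, (nm_inj F).mpr (hy R[X] _ _), hc, nm_pow, nm_img, ← map_pow, Polynomial.algebraMap_eq]

/-! ### Polynomial base change -/

theorem exists_monomial_decomp (Q : A'[X] ⊗[A] B) :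
    ∃ (N : ℕ) (q : ℕ → A' ⊗[A] B),
      Q = ∑ k ∈ Finset.range N, ((Polynomial.X ^ k : A'[X]) ⊗ₜ[A] (1 : B)) * img A' A'[X] (q k) := by
  classical
  induction Q using TensorProduct.induction_on with
  | zero => exact ⟨0, fun _ => 0, by simp⟩
  | tmul p b =>
    refine ⟨p.natDegree + 1, fun k => p.coeff k ⊗ₜ[A] b, ?_⟩
    conv_lhs => rw [p.as_sum_range_C_mul_X_pow, TensorProduct.sum_tmul]
    refine Finset.sum_congr rfl fun k _ => ?_
    rw [Algebra.TensorProduct.map_tmul, Algebra.TensorProduct.tmul_mul_tmul, one_mul, mul_comm]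
    rfl
  | add a b ha hb =>
    obtain ⟨N, q, rfl⟩ := ha
    obtain ⟨M, r, rfl⟩ := hb
    refine ⟨max N M, fun k => (if k < N then q k else 0) + (if k < M then r k else 0), ?_⟩
    simp only [map_add, mul_add, Finset.sum_add_distrib]
    congr 1
    · rw [← Finset.sum_subset (Finset.range_subset_range.mpr (le_max_left N M)) fun k _ hk => by
        rw [if_neg (by simpa using hk), map_zero, mul_zero]]
      exact Finset.sum_congr rfl fun k hk => by rw [if_pos (Finset.mem_range.mp hk)]
    · rw [← Finset.sum_subset (Finset.range_subset_range.mpr (le_max_right N M)) fun k _ hk => by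
        rw [if_neg (by simpa using hk), map_zero, mul_zero]]
      exact Finset.sum_congr rfl fun k hk => by rw [if_pos (Finset.mem_range.mp hk)]

theorem coeff_mem_kerBC {N : ℕ} {q : ℕ → A' ⊗[A] B}
    (h : ∑ k ∈ Finset.range N, ((Polynomial.X ^ k : A'[X]) ⊗ₜ[A] (1 : B)) * img A' A'[X] (q k) ∈
      PolLaw.kerBC F.law A'[X]) : ∀ k < N, q k ∈ PolLaw.kerBC F.law A' := by
  induction N generalizing q with
  | zero => intro k hk; omega
  | succ N ih =>
    rw [Finset.sum_range_succ'] at h
    have h0 : q 0 ∈ PolLaw.kerBC F.law A' := by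
      have hm := map_mem_kerBC F ((Polynomial.aeval (R := A') (0 : A')).restrictScalars A) h
      have himg : ∀ z : A' ⊗[A] B,
          Algebra.TensorProduct.map ((Polynomial.aeval (R := A') (0 : A')).restrictScalars A)
            (AlgHom.id A B) (img A' A'[X] z) = z := by
        intro z
        induction z using TensorProduct.induction_on with
        | zero => simp
        | tmul a b => simp
        | add a b ha hb => simp only [map_add, ha, hb]
      simpa [map_add, map_sum, map_mul, himg, ← Algebra.TensorProduct.one_def] using hm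
    have hrest : ∑ k ∈ Finset.range N, ((Polynomial.X ^ k : A'[X]) ⊗ₜ[A] (1 : B)) * img A' A'[X] (q (k + 1)) ∈
        PolLaw.kerBC F.law A'[X] := by
      refine mem_kerBC_of_smul_mem F (r := Polynomial.X) (fun a ha => ?_) ?_
      · refine Polynomial.ext fun k => ?_
        have := congrArg (fun p : A'[X] => p.coeff (k + 1)) ha
        simpa [Polynomial.coeff_mul_X] using this
      · rw [Finset.mul_sum]
        have hq := map_mem_kerBC F (IsScalarTower.toAlgHom A A' A'[X]) h0
        have := sub_mem h (Ideal.mul_mem_left _ ((Polynomial.X ^ 0 : A'[X]) ⊗ₜ[A] (1 : B)) hq)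
        rw [add_sub_cancel_right] at this
        convert this using 1
        refine Finset.sum_congr rfl fun k _ => ?_
        rw [← mul_assoc, Algebra.TensorProduct.tmul_mul_tmul, mul_one, ← pow_succ']
    intro k hk
    rcases k with _ | k
    · exact h0
    · exact ih hrest k (Nat.succ_lt_succ_iff.mp hk)

theorem mem_map_ker_of_map {g : A' →ₐ[A] A''} {y : A' ⊗[A] B}
    (hy : y ∈ (PolLaw.ker F.law).map (Algebra.TensorProduct.includeRight : B →ₐ[A] A' ⊗[A] B)) :
    Algebra.TensorProduct.map g (AlgHom.id A B) y ∈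
      (PolLaw.ker F.law).map (Algebra.TensorProduct.includeRight : B →ₐ[A] A'' ⊗[A] B) := by
  have h : (PolLaw.ker F.law).map (Algebra.TensorProduct.includeRight : B →ₐ[A] A' ⊗[A] B) ≤
      ((PolLaw.ker F.law).map (Algebra.TensorProduct.includeRight : B →ₐ[A] A'' ⊗[A] B)).comap
        (Algebra.TensorProduct.map g (AlgHom.id A B)) :=
    Ideal.map_le_iff_le_comap.mpr fun b hb => by
      rw [Ideal.mem_comap, Ideal.mem_comap, Algebra.TensorProduct.includeRight_apply,
        Algebra.TensorProduct.map_tmul, map_one]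
      exact Ideal.mem_map_of_mem _ hb
  exact h hy

theorem kerBC_polynomial_le (h : PolLaw.kerBC F.law A' ≤
      (PolLaw.ker F.law).map (Algebra.TensorProduct.includeRight : B →ₐ[A] A' ⊗[A] B)) :
    PolLaw.kerBC F.law A'[X] ≤
      (PolLaw.ker F.law).map (Algebra.TensorProduct.includeRight : B →ₐ[A] A'[X] ⊗[A] B) := by
  intro Q hQ
  obtain ⟨N, q, rfl⟩ := exists_monomial_decomp Q
  refine Ideal.sum_mem _ fun k hk => Ideal.mul_mem_left _ _ ?_
  exact mem_map_ker_of_map F (h (coeff_mem_kerBC F hQ k (Finset.mem_range.mp hk)))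

theorem kerBC_self_le : PolLaw.kerBC F.law A ≤
    (PolLaw.ker F.law).map (Algebra.TensorProduct.includeRight : B →ₐ[A] A ⊗[A] B) := by
  intro y hy
  obtain ⟨b, rfl⟩ : ∃ b, (1 : A) ⊗ₜ[A] b = y :=
    ⟨TensorProduct.lid A B y, (TensorProduct.lid A B).symm_apply_apply y⟩
  exact Ideal.mem_map_of_mem _ (mem_ker_of_kerBC_self F hy)

theorem kerBC_le_of_algEquiv (g : A' ≃ₐ[A] A'') (h : PolLaw.kerBC F.law A' ≤
      (PolLaw.ker F.law).map (Algebra.TensorProduct.includeRight : B →ₐ[A] A' ⊗[A] B)) :
    PolLaw.kerBC F.law A'' ≤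
      (PolLaw.ker F.law).map (Algebra.TensorProduct.includeRight : B →ₐ[A] A'' ⊗[A] B) := by
  intro y hy
  have := mem_map_ker_of_map F (g := g.toAlgHom) (h (map_mem_kerBC F g.symm.toAlgHom hy))
  rwa [← AlgHom.comp_apply, ← Algebra.TensorProduct.map_comp, AlgEquiv.comp_symm,
    AlgHom.id_comp, Algebra.TensorProduct.map_id, AlgHom.id_apply] at this

theorem kerBC_mv_le : ∀ n : ℕ, PolLaw.kerBC F.law (MvPolynomial (Fin n) A) ≤
    (PolLaw.ker F.law).map
      (Algebra.TensorProduct.includeRight : B →ₐ[A] MvPolynomial (Fin n) A ⊗[A] B)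
  | 0 => kerBC_le_of_algEquiv F (MvPolynomial.isEmptyAlgEquiv A (Fin 0)).symm (kerBC_self_le F)
  | n + 1 => kerBC_le_of_algEquiv F ((MvPolynomial.finSuccEquiv A n).symm)
      (kerBC_polynomial_le F (kerBC_mv_le n))

/-- **Cayley–Hamilton**, in the extension of the kernel. -/
theorem aeval_cpoly_mem_map_ker (y : A' ⊗[A] B) :
    Polynomial.aeval y (cpoly F y) ∈
      (PolLaw.ker F.law).map (Algebra.TensorProduct.includeRight : B →ₐ[A] A' ⊗[A] B) := by
  obtain ⟨n, a, b, rfl⟩ := TensorProduct.exists_sum_tmul_eq y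
  let g : MvPolynomial (Fin n) A →ₐ[A] A' := MvPolynomial.aeval a
  let Y : MvPolynomial (Fin n) A ⊗[A] B := ∑ i, MvPolynomial.X i ⊗ₜ[A] b i
  have hy : Algebra.TensorProduct.map g (AlgHom.id A B) Y = ∑ i, a i ⊗ₜ[A] b i := by
    simp [g, Y, map_sum]
  have := mem_map_ker_of_map F (g := g) (kerBC_mv_le F n (aeval_cpoly_mem_kerBC F Y))
  convert this using 1
  rw [← hy, cpoly_map]
  refine (Polynomial.map_aeval_eq_aeval_map (ψ := (Algebra.TensorProduct.map g (AlgHom.id A B)).toRingHom)
    (φ := g.toRingHom) ?_ _ _).symm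
  refine MvPolynomial.ringHom_ext (fun r => ?_) fun q => ?_ <;>
    simp [Algebra.TensorProduct.algebraMap_apply]

theorem pow_mem_of_cpoly_eq {y : A' ⊗[A] B} (h : cpoly F y = (-Polynomial.X) ^ d) :
    y ^ d ∈ (PolLaw.ker F.law).map (Algebra.TensorProduct.includeRight : B →ₐ[A] A' ⊗[A] B) := by
  have h1 := aeval_cpoly_mem_map_ker F y
  rw [h, map_pow, map_neg, Polynomial.aeval_X, neg_pow] at h1
  have h2 := Ideal.mul_mem_left _ ((-1) ^ d) h1
  rwa [← mul_assoc, ← mul_pow, neg_one_mul, neg_neg, one_pow, one_mul] at h2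

theorem radical_kerBC :
    (PolLaw.kerBC F.law A').radical =
      ((PolLaw.ker F.law).map (Algebra.TensorProduct.includeRight : B →ₐ[A] A' ⊗[A] B)).radical := by
  refine le_antisymm (fun y hy => ?_) (Ideal.radical_mono (map_ker_le_kerBC F))
  obtain ⟨n, hn⟩ := hy
  exact ⟨n * d, by rw [pow_mul]; exact pow_mem_of_cpoly_eq F (cpoly_eq_of_mem F hn)⟩

end Groth.L22.Gamma
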