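import Groth.Agent.L22.Gamma.Ker
import Mathlib.RingTheory.IntegralClosure.Algebra.Basic

/-!
Basic consequences of Cayley–Hamilton for multiplicative laws.
-/

universe u

open scoped TensorProduct Polynomial

set_option maxSynthPendingDepth 3

namespace Groth.L22.Gamma

variable {A B : Type u} [CommRing A] [CommRing B] [Algebra A B] {d : ℕ}
  (F : PolLaw.MulLaw A B A d)

theorem cpoly_one_tmul (b : B) :
    cpoly F ((1 : A) ⊗ₜ[A] b) = TensorProduct.rid A A[X]
      (F.law.toFun' A[X] ((1 : A[X]) ⊗ₜ[A] b - Polynomial.X ⊗ₜ[A] (1 : B))) := by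
  rw [cpoly, Algebra.TensorProduct.map_tmul, map_one]
  rfl

theorem lid_mem_ker {y : A ⊗[A] B} (hy : y ∈ PolLaw.kerBC F.law A) :
    Algebra.TensorProduct.lid A B y ∈ PolLaw.ker F.law := by
  refine mem_ker_of_kerBC_self F ?_
  rwa [← Algebra.TensorProduct.lid_symm_apply, AlgEquiv.symm_apply_apply]

theorem aeval_cpoly_mem_ker (b : B) :
    Polynomial.aeval b (cpoly F ((1 : A) ⊗ₜ[A] b)) ∈ PolLaw.ker F.law := by
  have h := lid_mem_ker F (aeval_cpoly_mem_kerBC F ((1 : A) ⊗ₜ[A] b))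
  rwa [← AlgEquiv.coe_toAlgHom, ← Polynomial.aeval_algHom_apply, AlgEquiv.coe_toAlgHom,
    Algebra.TensorProduct.lid_tmul, one_smul] at h

theorem cpoly_eq_of_mem_ker {b : B} (hb : b ∈ PolLaw.ker F.law) :
    cpoly F ((1 : A) ⊗ₜ[A] b) = (-Polynomial.X) ^ d :=
  cpoly_eq_of_mem F (includeRight_mem_kerBC F hb)

theorem pow_mem_ker_of_cpoly_eq {b : B} (h : cpoly F ((1 : A) ⊗ₜ[A] b) = (-Polynomial.X) ^ d) :
    b ^ d ∈ PolLaw.ker F.law := by
  have h2 := lid_mem_ker F (map_ker_le_kerBC F (pow_mem_of_cpoly_eq F h))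
  rwa [map_pow, Algebra.TensorProduct.lid_tmul, one_smul] at h2

theorem isIntegral_image : Algebra.IsIntegral A (PolLaw.image F.law) := by
  constructor
  intro x
  obtain ⟨b, rfl⟩ := Ideal.Quotient.mk_surjective x
  have h := aeval_cpoly_mem_ker F b
  rw [← Ideal.Quotient.eq_zero_iff_mem, ← Ideal.Quotient.mkₐ_eq_mk A,
    ← Polynomial.aeval_algHom_apply] at h
  have hsq : ((-1 : A) ^ d) * (-1) ^ d = 1 := by rw [← mul_pow, neg_one_mul, neg_neg, one_pow]
  refine ⟨Polynomial.C ((-1 : A) ^ d) * cpoly F ((1 : A) ⊗ₜ[A] b), ?_, ?_⟩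
  · refine Polynomial.monic_of_natDegree_le_of_coeff_eq_one d ?_ ?_
    · exact (Polynomial.natDegree_C_mul_le _ _).trans (cpoly_natDegree_le F _)
    · rw [Polynomial.coeff_C_mul, cpoly_coeff_top, hsq]
  · rw [← Polynomial.aeval_def, map_mul]
    exact mul_eq_zero_of_right _ h

theorem radical_ker_precomp {B' : Type u} [CommRing B'] [Algebra A B'] (φ : B' →ₐ[A] B) :
    (PolLaw.ker (F.precomp φ).law).radical = ((PolLaw.ker F.law).comap φ).radical := by
  refine le_antisymm ?_ ?_ <;> rintro b ⟨n, hn⟩ <;> refine ⟨n * d, ?_⟩ <;> rw [pow_mul]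
  · rw [Ideal.mem_comap, map_pow]
    refine pow_mem_ker_of_cpoly_eq F ?_
    rw [← cpoly_eq_of_mem_ker _ hn, cpoly_precomp, Algebra.TensorProduct.map_tmul, AlgHom.id_apply]
  · refine pow_mem_ker_of_cpoly_eq _ ?_
    rw [cpoly_precomp, Algebra.TensorProduct.map_tmul, AlgHom.id_apply]
    exact cpoly_eq_of_mem_ker F hn

theorem map_ker_eq_kerBC_polynomial :
    (PolLaw.ker F.law).map (Algebra.TensorProduct.includeRight : B →ₐ[A] A[X] ⊗[A] B) =
      PolLaw.kerBC F.law A[X] :=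
  le_antisymm (map_ker_le_kerBC F) (kerBC_polynomial_le F (kerBC_self_le F))

end Groth.L22.Gamma
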