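import Groth.Agent.L22.Gamma.Norm

/-!
Kernel and image of the canonical map from divided powers to symmetric tensors.
-/

universe u

open scoped TensorProduct

namespace Groth.L22.Gamma

variable {A B C : Type u} [CommRing A] [CommRing B] [Algebra A B] [CommRing C] [Algebra A C]
  {d : ℕ}

theorem factorial_smul_ker_image {γ : PolLaw.MulLaw A B C d} (hγ : PolLaw.IsGammaD γ)
    {φ : C →ₐ[A] SymTen.TS A B d}
    (hφ : PolLaw.postcomp ((SymTen.TS A B d).val.comp φ).toLinearMap γ.law =
      (SymTen.tpowLaw A B d).law) :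
    (∀ x : C, φ x = 0 → d.factorial • x = 0) ∧
      ∀ y : SymTen.TS A B d, d.factorial • y ∈ φ.range := by
  let e := monBasis A B
  let π := presHom A B
  have hπ : Function.Surjective π := presHom_surjective
  constructor
  · intro x hx
    obtain ⟨z, rfl⟩ := thetaHom_surjective hγ π hπ e x
    have hz : tmapL d π.toLinearMap ((SymTen.TS A _ d).val z) = 0 := by
      rw [← val_phi_thetaHom hφ π e z, hx, map_zero]
    have h := theta_symmetrise_eq_zero e π hπ γ hz
    rw [symmetrise_self, map_nsmul, ← thetaHom_apply] at h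
    exact h
  · intro y
    obtain ⟨w, hw⟩ := tmap_surjective (d := d) hπ ((SymTen.TS A B d).val y)
    let z : SymTen.TS A (MvPolynomial B A) d :=
      ⟨symmetrise A _ d w, mem_TS_iff.mpr (symmetrise_mem w)⟩
    refine ⟨thetaHom e (γ.precomp π) z, Subtype.val_injective ?_⟩
    change (SymTen.TS A B d).val (φ (thetaHom e (γ.precomp π) z)) =
      (SymTen.TS A B d).val (d.factorial • y)
    rw [val_phi_thetaHom hφ π e z, ← tmap_eq_tmapL, map_nsmul, ← symmetrise_self, ← hw,
      ← tmap_symmetrise]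
    rfl

theorem exists_norm_symTen {γ : PolLaw.MulLaw A B C d} (hγ : PolLaw.IsGammaD γ)
    {φ : C →ₐ[A] SymTen.TS A B d}
    (hφ : PolLaw.postcomp ((SymTen.TS A B d).val.comp φ).toLinearMap γ.law =
      (SymTen.tpowLaw A B d).law) :
    ∃ F : PolLaw.MulLaw A (SymTen.TS A B d) C d.factorial,
      PolLaw.MulLaw.postcomp φ F = PolLaw.MulLaw.pow A (SymTen.TS A B d) d.factorial ∧
      PolLaw.MulLaw.precomp F φ = PolLaw.MulLaw.pow A C d.factorial := by
  obtain ⟨G, hG₁, hG₂⟩ := exists_norm hγ hφ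
  refine ⟨G.precomp (SymTen.TS A B d).val, PolLaw.MulLaw.ext ?_, PolLaw.MulLaw.ext ?_⟩
  · refine laws_eq_of_injective (g := (SymTen.TS A B d).val.toLinearMap) Subtype.val_injective
      (PolLaw.MulLaw.postcomp φ (G.precomp _)).homog (PolLaw.MulLaw.pow A _ _).homog ?_
    rw [← symmLaw_val, ← hG₁]
    change PolLaw.postcomp _ (PolLaw.postcomp φ.toLinearMap _) = _
    rw [postcomp_postcomp]
    rfl
  · rw [← hG₂]
    change PolLaw.precomp (PolLaw.precomp G.law (SymTen.TS A B d).val.toLinearMap) φ.toLinearMap = _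
    rw [precomp_precomp]
    rfl

theorem ground_norm {γ : PolLaw.MulLaw A B C d}
    {φ : C →ₐ[A] SymTen.TS A B d}
    {F : PolLaw.MulLaw A (SymTen.TS A B d) C d.factorial}
    (h₁ : PolLaw.MulLaw.postcomp φ F = PolLaw.MulLaw.pow A (SymTen.TS A B d) d.factorial)
    (h₂ : PolLaw.MulLaw.precomp F φ = PolLaw.MulLaw.pow A C d.factorial) :
    (∀ x : C, φ x = 0 → x ^ d.factorial = 0) ∧
      (∀ y : SymTen.TS A B d, y ^ d.factorial ∈ φ.range) := by
  refine ⟨fun x hx => ?_, fun y => ⟨F.law.ground y, ?_⟩⟩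
  · rw [← ground_pow (A := A) d.factorial x, ← h₂]
    change (PolLaw.precomp F.law φ.toLinearMap).ground x = 0
    rw [ground_precomp, AlgHom.toLinearMap_apply, hx]
    exact ground_zero F.homog (Nat.factorial_ne_zero d)
  · rw [← ground_pow (A := A) d.factorial y, ← h₁]
    exact (ground_postcomp φ.toLinearMap F.law y).symm

theorem pow_factorial_ker_image {γ : PolLaw.MulLaw A B C d} (hγ : PolLaw.IsGammaD γ)
    {φ : C →ₐ[A] SymTen.TS A B d}
    (hφ : PolLaw.postcomp ((SymTen.TS A B d).val.comp φ).toLinearMap γ.law =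
      (SymTen.tpowLaw A B d).law) :
    (∀ x : C, φ x = 0 → x ^ d.factorial = 0) ∧
      (∀ y : SymTen.TS A B d, y ^ d.factorial ∈ φ.range) := by
  obtain ⟨F, h₁, h₂⟩ := exists_norm_symTen hγ hφ
  exact ground_norm (γ := γ) h₁ h₂

end Groth.L22.Gamma
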