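import Groth.Agent.L22.Gamma.Universal
import Mathlib.Order.Directed
import Mathlib.Data.Fintype.Order

/-!
Tensor powers commute with filtered colimits.
-/

universe u

open scoped TensorProduct

namespace Groth.L22.Gamma

variable {A : Type u} [CommRing A] {B : Type u} [AddCommGroup B] [Module A B] {I : Type u}
  [Preorder I] [IsDirected I (fun i j => i ≤ j)] [Nonempty I]
  {Bi : I → Type u} [∀ i, AddCommGroup (Bi i)] [∀ i, Module A (Bi i)]
  (t : ∀ i j : I, i ≤ j → (Bi i →ₗ[A] Bi j)) (φ : ∀ i : I, Bi i →ₗ[A] B) {d : ℕ}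

theorem exists_tmapL_eq (hcomp : ∀ (i j : I) (h : i ≤ j) (x : Bi i), φ j (t i j h x) = φ i x)
    (hsurj : ∀ b : B, ∃ (i : I) (x : Bi i), φ i x = b) (z : TP A B d) :
    ∃ (i : I) (y : TP A (Bi i) d), tmapL d (φ i) y = z := by
  classical
  induction z using PiTensorProduct.induction_on with
  | smul_tprod r v =>
    choose i x hx using fun k => hsurj (v k)
    obtain ⟨j, hj⟩ := (Finset.univ.image i).exists_le
    refine ⟨j, r • PiTensorProduct.tprod A fun k =>
      t (i k) j (hj _ (Finset.mem_image_of_mem i (Finset.mem_univ k))) (x k), ?_⟩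
    simp [hcomp, hx]
  | add x y hx hy =>
    obtain ⟨i, a, rfl⟩ := hx
    obtain ⟨i', b, rfl⟩ := hy
    obtain ⟨j, hj, hj'⟩ := exists_ge_ge i i'
    refine ⟨j, tmapL d (t i j hj) a + tmapL d (t i' j hj') b, ?_⟩
    rw [map_add, ← LinearMap.comp_apply, ← LinearMap.comp_apply, ← tmapL_comp, ← tmapL_comp,
      show φ j ∘ₗ t i j hj = φ i from LinearMap.ext (hcomp i j hj),
      show φ j ∘ₗ t i' j hj' = φ i' from LinearMap.ext (hcomp i' j hj')]

theorem exists_tmapL_eq_zero (hcomp : ∀ (i j : I) (h : i ≤ j) (x : Bi i), φ j (t i j h x) = φ i x)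
    (hsurj : ∀ b : B, ∃ (i : I) (x : Bi i), φ i x = b)
    (hzero : ∀ (i : I) (x : Bi i), φ i x = 0 → ∃ (j : I) (h : i ≤ j), t i j h x = 0)
    (htrans : ∀ (i j k : I) (hij : i ≤ j) (hjk : j ≤ k) (x : Bi i),
      t j k hjk (t i j hij x) = t i k (hij.trans hjk) x)
    (i : I) (y : TP A (Bi i) d) (hy : tmapL d (φ i) y = 0) :
    ∃ (j : I) (h : i ≤ j), tmapL d (t i j h) y = 0 := by
  classical
  let π : ((Σ i, Bi i) →₀ A) →ₗ[A] B := Finsupp.linearCombination A fun p => φ p.1 p.2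
  have hπ : Function.Surjective π := fun b => by
    obtain ⟨k, x, rfl⟩ := hsurj b
    exact ⟨Finsupp.single ⟨k, x⟩ 1, by simp [π]⟩
  let L : (Bi i →₀ A) →ₗ[A] Bi i := Finsupp.linearCombination A id
  obtain ⟨y₁, rfl⟩ := tmapL_surjective (d := d) (g := L) (fun x => ⟨Finsupp.single x 1, by simp [L]⟩) y
  let incl : (Bi i →₀ A) →ₗ[A] ((Σ i, Bi i) →₀ A) :=
    Finsupp.linearCombination A fun x => Finsupp.single ⟨i, x⟩ 1
  have hincl : π ∘ₗ incl = φ i ∘ₗ L := Finsupp.lhom_ext fun x r => by simp [π, incl, L]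
  obtain ⟨K, hK, hK'⟩ := exists_finset_mem_span (mem_span_of_tmapL_eq_zero hπ
    (t := tmapL d incl y₁) (by rw [← LinearMap.comp_apply, ← tmapL_comp, hincl, tmapL_comp,
      LinearMap.comp_apply, hy]))
  obtain ⟨j, hj⟩ := (insert i (K.biUnion fun x => x.support.image Sigma.fst)).exists_le
  let g : ∀ j : I, ((Σ i, Bi i) →₀ A) →ₗ[A] Bi j := fun j =>
    Finsupp.linearCombination A fun p => if h : p.1 ≤ j then t p.1 j h p.2 else 0
  have hg : ∀ x ∈ K, φ j (g j x) = 0 := by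
    intro x hx
    rw [← hK x hx]
    simp only [g, π, Finsupp.linearCombination_apply, Finsupp.sum, map_sum, map_smul]
    refine Finset.sum_congr rfl fun p hp => ?_
    rw [dif_pos (hj _ (Finset.mem_insert_of_mem (Finset.mem_biUnion.mpr
      ⟨x, hx, Finset.mem_image_of_mem _ hp⟩))), hcomp]
  choose j' hjj' hzero' using fun x : ↥K => hzero j (g j x.1) (hg x.1 x.2)
  obtain ⟨k, hk⟩ := (insert j (Finset.univ.image j')).exists_le
  have hjk : j ≤ k := hk j (Finset.mem_insert_self _ _)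
  have hij : i ≤ j := hj i (Finset.mem_insert_self _ _)
  refine ⟨k, hij.trans hjk, ?_⟩
  have hgK : ∀ x ∈ K, g k x = 0 := by
    intro x hx
    have h1 : g k x = t j k hjk (g j x) := by
      simp only [g, Finsupp.linearCombination_apply, Finsupp.sum, map_sum, map_smul]
      refine Finset.sum_congr rfl fun p hp => ?_
      have hpj := hj _ (Finset.mem_insert_of_mem (Finset.mem_biUnion.mpr
        ⟨x, hx, Finset.mem_image_of_mem Sigma.fst hp⟩))
      rw [dif_pos hpj, dif_pos (hpj.trans hjk), htrans]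
    rw [h1, ← htrans j (j' ⟨x, hx⟩) k (hjj' _)
      (hk _ (Finset.mem_insert_of_mem (Finset.mem_image_of_mem _ (Finset.mem_univ _)))),
      hzero', map_zero]
  have hgi : g k ∘ₗ incl = t i k (hij.trans hjk) ∘ₗ L := Finsupp.lhom_ext fun x r => by
    simp [g, incl, L, hij.trans hjk]
  rw [← LinearMap.comp_apply, ← tmapL_comp, ← hgi, tmapL_comp, LinearMap.comp_apply]
  exact hK' (g k) hgK

theorem exists_symT_tmapL_eq (hcomp : ∀ (i j : I) (h : i ≤ j) (x : Bi i), φ j (t i j h x) = φ i x)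
    (hsurj : ∀ b : B, ∃ (i : I) (x : Bi i), φ i x = b)
    (hzero : ∀ (i : I) (x : Bi i), φ i x = 0 → ∃ (j : I) (h : i ≤ j), t i j h x = 0)
    (htrans : ∀ (i j k : I) (hij : i ≤ j) (hjk : j ≤ k) (x : Bi i),
      t j k hjk (t i j hij x) = t i k (hij.trans hjk) x)
    (z : TP A B d) (hz : z ∈ symT A B d) :
    ∃ (i : I) (y : TP A (Bi i) d), y ∈ symT A (Bi i) d ∧ tmapL d (φ i) y = z := by
  classical
  obtain ⟨i, y, rfl⟩ := exists_tmapL_eq t φ hcomp hsurj z
  choose j hij hj using fun σ : Equiv.Perm (Fin d) => exists_tmapL_eq_zero t φ hcomp hsurj hzero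
    htrans i (PiTensorProduct.reindex A (fun _ : Fin d => Bi i) σ y - y)
    (by rw [map_sub, tmapL_reindex, sub_eq_zero]; exact hz σ)
  obtain ⟨k, hk⟩ := (insert i (Finset.univ.image j)).exists_le
  have hik : i ≤ k := hk i (Finset.mem_insert_self _ _)
  refine ⟨k, tmapL d (t i k hik) y, fun σ => ?_, ?_⟩
  · have hjk : j σ ≤ k := hk _ (Finset.mem_insert_of_mem (Finset.mem_image_of_mem _ (Finset.mem_univ σ)))
    rw [← tmapL_reindex, ← sub_eq_zero, ← map_sub,
      show t i k hik = t (j σ) k hjk ∘ₗ t i (j σ) (hij σ) from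
        LinearMap.ext fun x => (htrans i (j σ) k (hij σ) hjk x).symm,
      tmapL_comp, LinearMap.comp_apply, hj σ, map_zero]
  · rw [← LinearMap.comp_apply, ← tmapL_comp,
      show φ k ∘ₗ t i k hik = φ i from LinearMap.ext (hcomp i k hik)]

end Groth.L22.Gamma
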