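import Groth.Agent.L22.Gamma.Alg
import Mathlib.GroupTheory.GroupAction.Hom

/-!
Symmetrisations of the tensor power, and the norm law into a divided power algebra.
-/

universe u

open scoped TensorProduct
open Module

namespace Groth.L22.Gamma

variable {A : Type u} [CommRing A]

section Gen

variable {M M' M'' N : Type u} [AddCommGroup M] [Module A M] [AddCommGroup M'] [Module A M']
  [AddCommGroup M''] [Module A M''] [AddCommGroup N] [Module A N] {d : ℕ}

theorem exists_lTensor_eq_sum {ι : Type u} {e : ι → M} (g : M'' →ₗ[A] M)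
    (hg : ∀ x, g x ∈ Submodule.span A (Set.range e)) {S : Type u} [CommSemiring S] [Algebra A S]
    (z : S ⊗[A] M'') : ∃ s : ι →₀ S, g.lTensor S z = ∑ i ∈ s.support, s i ⊗ₜ[A] e i := by
  classical
  let Φ : (ι →₀ S) →ₗ[A] S ⊗[A] M :=
    Finsupp.lsum A fun i => (TensorProduct.mk A S M).flip (e i)
  suffices h : g.lTensor S z ∈ LinearMap.range Φ by
    obtain ⟨s, hs⟩ := h
    exact ⟨s, by rw [← hs]; simp [Φ, Finsupp.sum]⟩
  induction z using TensorProduct.induction_on with
  | zero => simp
  | tmul a m =>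
    have hle : Submodule.span A (Set.range e) ≤
        (LinearMap.range Φ).comap (TensorProduct.mk A S M a) :=
      Submodule.span_le.mpr (by
        rintro _ ⟨i, rfl⟩
        exact ⟨Finsupp.single i a, by simp [Φ]⟩)
    exact hle (hg m)
  | add x y hx hy => rw [map_add]; exact add_mem hx hy

/-- Invariance under the kernel, from generators of the module and of the kernel. -/
theorem apply_eq_of_gen {F : M →ₚₗ[A] N} (hF : PolLaw.IsHomog F d) (π : M →ₗ[A] M')
    (hπ : Function.Surjective π) (G K : Set M) (hG : Submodule.span A G = ⊤)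
    (hK : LinearMap.ker π ≤ Submodule.span A K)
    (hbad : ∀ (κ : Type u) (v : κ → M) (ν : κ →₀ ℕ), (∀ i, v i ∈ G ∨ v i ∈ K) →
      (∃ i ∈ ν.support, v i ∈ K) → coef F v ν = 0)
    (S : Type u) [CommSemiring S] [Algebra A S] (x y : S ⊗[A] M)
    (h : π.lTensor S x = π.lTensor S y) : F.toFun' S x = F.toFun' S y := by
  classical
  letI : AddCommGroup S := Module.addCommMonoidToAddCommGroup A
  have hex : Function.Exact ((LinearMap.ker π).subtype.lTensor S) (π.lTensor S) :=
    lTensor_exact S (LinearMap.exact_subtype_ker_map π) hπ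
  obtain ⟨w, hw⟩ := (hex (x - y)).1 (by rw [map_sub, h, sub_self])
  obtain ⟨t, ht⟩ := exists_lTensor_eq_sum (e := fun k : ↥K => (k : M)) (LinearMap.ker π).subtype
    (fun m => by rw [Subtype.range_coe_subtype]; exact hK m.2) w
  obtain ⟨s, hs⟩ := exists_eq_sum_tmul (e := fun m : ↥G => (m : M))
    (by rw [Subtype.range_coe_subtype]; exact hG) y
  let v : ↥G ⊕ ↥K → M := Sum.elim (fun m => (m : M)) (fun k => (k : M))
  let σ : ↥G ⊕ ↥K → S := Sum.elim (fun m => s m) (fun k => t k)
  let σ' : ↥G ⊕ ↥K → S := Sum.elim (fun m => s m) (fun _ => 0)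
  let J : Finset (↥G ⊕ ↥K) := s.support.disjSum t.support
  rw [eq_sub_iff_add_eq] at hw
  have hx : x = ∑ i ∈ J, σ i ⊗ₜ[A] v i := by
    rw [← hw, ht, hs, Finset.sum_disjSum, add_comm]
    rfl
  have hy : y = ∑ i ∈ J, σ' i ⊗ₜ[A] v i := by
    rw [Finset.sum_disjSum, hs]
    simp [σ', v]
  rw [hx, hy, apply_sum hF, apply_sum hF]
  refine Finset.sum_congr rfl fun ν _ => ?_
  by_cases hb : ∃ i ∈ ν.support, v i ∈ K
  · rw [hbad _ v ν (fun i => i.rec (fun m => Or.inl m.2) fun k => Or.inr k.2) hb]; simp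
  · congr 1
    refine Finset.prod_congr rfl fun i _ => ?_
    rcases i with m | k
    · rfl
    · have : ν (Sum.inr k) = 0 := by
        by_contra hne
        exact hb ⟨Sum.inr k, Finsupp.mem_support_iff.mpr hne, k.2⟩
      simp [this]

theorem laws_eq_of_injective {g : N →ₗ[A] M'} (hg : Function.Injective g) {F G : M →ₚₗ[A] N}
    (hF : PolLaw.IsHomog F d) (hG : PolLaw.IsHomog G d)
    (h : PolLaw.postcomp g F = PolLaw.postcomp g G) : F = G :=
  ext_of_coef hF hG (e := id) (by rw [Set.range_id, Submodule.span_univ]) fun ν _ =>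
    hg (by rw [← coef_postcomp, h, coef_postcomp])

theorem ground_eq (F : M →ₚₗ[A] N) (m : M) :
    F.ground m = TensorProduct.lid A N (F.toFun' A (1 ⊗ₜ[A] m)) := by
  simp [PolynomialLaw.ground]

theorem ground_postcomp (g : N →ₗ[A] M') (F : M →ₚₗ[A] N) (m : M) :
    (PolLaw.postcomp g F).ground m = g (F.ground m) := by
  rw [ground_eq, ground_eq]
  change TensorProduct.lid A M' (g.lTensor A (F.toFun' A (1 ⊗ₜ[A] m))) = _
  generalize F.toFun' A (1 ⊗ₜ[A] m) = z
  induction z using TensorProduct.induction_on with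
  | zero => simp
  | tmul a n => simp
  | add x y hx hy => simp [hx, hy]

theorem ground_precomp (F : M →ₚₗ[A] N) (g : M' →ₗ[A] M) (m : M') :
    (PolLaw.precomp F g).ground m = F.ground (g m) := by
  rw [ground_eq, ground_eq]
  rfl

theorem ground_zero {F : M →ₚₗ[A] N} (hF : PolLaw.IsHomog F d) (hd : d ≠ 0) : F.ground 0 = 0 := by
  rw [ground_eq, TensorProduct.tmul_zero, ← zero_smul A (0 : A ⊗[A] M), hF, zero_pow hd, zero_smul,
    map_zero]

end Gen

/-! ### Symmetrisation -/

section Alg

variable {P B C : Type u} [CommRing P] [Algebra A P] [CommRing B] [Algebra A B] [CommRing C]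
  [Algebra A C] {d : ℕ} {ι : Type u}

variable (A P d) in
/-- The sum of all the permutations of a tensor. -/
noncomputable def symmetrise : (⨂[A] _ : Fin d, P) →ₗ[A] (⨂[A] _ : Fin d, P) :=
  ∑ σ : Equiv.Perm (Fin d), (SymTen.perm A P d σ).toLinearMap

theorem symmetrise_apply (t : ⨂[A] _ : Fin d, P) :
    symmetrise A P d t = ∑ σ : Equiv.Perm (Fin d), SymTen.perm A P d σ t := by
  simp [symmetrise]

theorem symmetrise_mem (t : ⨂[A] _ : Fin d, P) : symmetrise A P d t ∈ symT A P d := by
  intro τ
  rw [← SymTen.perm_apply, symmetrise_apply, map_sum]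
  refine Fintype.sum_equiv (Equiv.mulLeft τ) _ _ fun σ => ?_
  induction t using PiTensorProduct.induction_on with
  | smul_tprod r v =>
    simp only [map_smul, SymTen.perm_tprod, Equiv.coe_mulLeft]
    congr 2
  | add x y hx hy => simp only [map_add, hx, hy]

theorem symmetrise_self (t : SymTen.TS A P d) :
    symmetrise A P d ((SymTen.TS A P d).val t) =
      d.factorial • (SymTen.TS A P d).val t := by
  rw [symmetrise_apply]
  have : ∀ σ : Equiv.Perm (Fin d), SymTen.perm A P d σ ((SymTen.TS A P d).val t) =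
      (SymTen.TS A P d).val t := fun σ => by rw [SymTen.perm_apply]; exact t.2 σ
  simp only [this]
  simp [Fintype.card_perm]

theorem tmap_perm (π : P →ₐ[A] B) (σ : Equiv.Perm (Fin d)) (t : ⨂[A] _ : Fin d, P) :
    SymTen.tmap A d π (SymTen.perm A P d σ t) = SymTen.perm A B d σ (SymTen.tmap A d π t) := by
  rw [SymTen.perm_apply, SymTen.perm_apply, SymTen.tmap_reindex]

theorem tmap_symmetrise (π : P →ₐ[A] B) (t : ⨂[A] _ : Fin d, P) :
    SymTen.tmap A d π (symmetrise A P d t) = symmetrise A B d (SymTen.tmap A d π t) := by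
  simp [symmetrise_apply, map_sum, tmap_perm]

theorem tmap_surjective {π : P →ₐ[A] B} (hπ : Function.Surjective π) :
    Function.Surjective (SymTen.tmap A d π) := fun t => by
  obtain ⟨s, hs⟩ := tmapL_surjective (g := π.toLinearMap) hπ t
  exact ⟨s, (tmap_eq_tmapL π s).trans hs⟩

/-- The linear map attached to a law factoring through `π` kills the symmetrisation of the kernel
of `π`. -/
theorem theta_symmetrise_eq_zero (e : Basis ι A P) (π : P →ₐ[A] B) (hπ : Function.Surjective π)
    (F : PolLaw.MulLaw A B C d) {t : ⨂[A] _ : Fin d, P} (ht : tmapL d π.toLinearMap t = 0) :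
    theta d e (F.precomp π).law (symmetrise A P d t) = 0 := by
  suffices h : Submodule.span A (PiTensorProduct.tprod A ''
      {v : Fin d → P | ∃ k, π.toLinearMap (v k) = 0}) ≤
        LinearMap.ker (theta d e (F.precomp π).law ∘ₗ symmetrise A P d) from
    h (mem_span_of_tmapL_eq_zero (g := π.toLinearMap) hπ ht)
  rw [Submodule.span_le]
  rintro _ ⟨v, ⟨k, hk⟩, rfl⟩
  rw [SetLike.mem_coe, LinearMap.mem_ker, LinearMap.comp_apply, symmetrise_apply]
  have h := theta_sum_eq_zero e (F.precomp π).homog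
    (Ω := ULift.{u} (Equiv.Perm (Fin d))) (fun σ j => v (σ.down.symm j))
    (fun σ κ j => by
      change v ((σ * κ.down).symm (σ j)) = v (κ.down.symm j)
      simp [Equiv.Perm.mul_def])
    {p | π p = 0}
    (fun κ w ν ⟨i, hi, hw⟩ => by
      change coef (PolLaw.precomp F.law π.toLinearMap) w ν = 0
      rw [coef_precomp]
      exact coef_eq_zero_of_apply_eq_zero F.law _ hi hw)
    (fun κ => ⟨κ.down k, by simpa using hk⟩)
  rw [← Equiv.sum_comp Equiv.ulift.{u, 0}]
  simpa only [SymTen.perm_tprod, Equiv.ulift_apply] using h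

/-! ### The norm law -/

open scoped Classical in
theorem symmLaw_sum {S : Type u} [CommSemiring S] [Algebra A S] (J : Finset ι) (s : ι → S)
    (p : ι → ⨂[A] _ : Fin d, P) :
    (SymTen.symmLaw A P d).law.toFun' S (∑ i ∈ J, s i ⊗ₜ[A] p i) =
      ∑ κ ∈ Fintype.piFinset fun _ : Equiv.Perm (Fin d) => J,
        (∏ σ, s (κ σ)) ⊗ₜ[A] ∏ σ, SymTen.perm A P d σ (p (κ σ)) := by
  rw [SymTen.symmLaw, PolLaw.MulLaw.prodMap_toFun']
  simp only [map_sum, Algebra.TensorProduct.map_tmul, AlgHom.id_apply]
  rw [Finset.prod_univ_sum]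
  exact Finset.sum_congr rfl fun κ _ => prod_tmul _ _ _

/-- The assignments of a member of a family to each permutation, with given multiplicities. -/
abbrev NormIdx (d : ℕ) (m : ι →₀ ℕ) : Type u :=
  {κ : Equiv.Perm (Fin d) → ↥m.support // ∑ σ, Finsupp.single ((κ σ : ι)) 1 = m}

noncomputable instance (m : ι →₀ ℕ) : Fintype (NormIdx d m) := Fintype.ofFinite _

instance (m : ι →₀ ℕ) : MulAction (Equiv.Perm (Fin d)) (NormIdx d m) where
  smul τ κ := ⟨fun σ => κ.1 (τ⁻¹ * σ),
    (Equiv.sum_comp (Equiv.mulLeft τ⁻¹) fun σ => Finsupp.single ((κ.1 σ : ι)) 1).trans κ.2⟩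
  one_smul κ := Subtype.ext (funext fun σ => congrArg κ.1 (by simp))
  mul_smul τ τ' κ := Subtype.ext (funext fun σ => congrArg κ.1 (by simp [mul_assoc]))

theorem coef_symmLaw (p : ι → ⨂[A] _ : Fin d, P) (m : ι →₀ ℕ) :
    coef (SymTen.symmLaw A P d).law p m =
      ∑ κ : NormIdx d m, ∏ σ, SymTen.perm A P d σ (p (κ.1 σ)) := by
  classical
  rw [coef, gen, symmLaw_sum, map_sum]
  simp only [cof_tmul]
  have hmon : ∀ κ : Equiv.Perm (Fin d) → ι, MvPolynomial.coeff m
      (∏ σ, (MvPolynomial.X (κ σ) : MvPolynomial ι A)) =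
        if ∑ σ, Finsupp.single (κ σ) 1 = m then 1 else 0 := fun κ => by
    rw [show ∏ σ, (MvPolynomial.X (κ σ) : MvPolynomial ι A) =
      MvPolynomial.monomial (∑ σ, Finsupp.single (κ σ) 1) 1 from by
        rw [MvPolynomial.monomial_sum_one]; rfl, MvPolynomial.coeff_monomial]
  simp only [hmon, ite_smul, one_smul, zero_smul]
  rw [← Finset.sum_filter]
  symm
  refine Finset.sum_bij' (fun κ _ => fun σ => (κ.1 σ : ι))
    (fun κ hκ => ⟨fun σ => ⟨κ σ, Fintype.mem_piFinset.mp (Finset.mem_filter.mp hκ).1 σ⟩,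
      (Finset.mem_filter.mp hκ).2⟩) ?_ ?_ ?_ ?_ ?_
  · exact fun κ _ => Finset.mem_filter.mpr ⟨Fintype.mem_piFinset.mpr fun σ => (κ.1 σ).2, κ.2⟩
  · exact fun _ _ => Finset.mem_univ _
  · exact fun _ _ => rfl
  · exact fun _ _ => rfl
  · exact fun _ _ => rfl

theorem coef_symmLaw_mem (p : ι → ⨂[A] _ : Fin d, P) (m : ι →₀ ℕ) :
    coef (SymTen.symmLaw A P d).law p m ∈ symT A P d := by
  intro τ
  rw [← SymTen.perm_apply, coef_symmLaw, map_sum]
  refine Fintype.sum_equiv (MulAction.toPerm τ) _ _ fun κ => ?_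
  rw [map_prod]
  refine Fintype.prod_equiv (Equiv.mulLeft τ) _ _ fun σ => ?_
  have hκ : (MulAction.toPerm τ κ).1 (τ * σ) = κ.1 σ :=
    congrArg κ.1 (inv_mul_cancel_left τ σ)
  rw [Equiv.coe_mulLeft, hκ]
  generalize p (κ.1 σ) = t
  induction t using PiTensorProduct.induction_on with
  | smul_tprod r v =>
    simp only [map_smul, SymTen.perm_tprod]
    congr 2
  | add x y hx hy => simp only [map_add, hx, hy]

/-- The norm law into the symmetric tensors of a free algebra. -/
theorem exists_normFree (e : Basis ι A P) :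
    ∃ N : PolLaw.MulLaw A (⨂[A] _ : Fin d, P) (SymTen.TS A P d) d.factorial,
      PolLaw.postcomp (SymTen.TS A P d).val.toLinearMap N.law = (SymTen.symmLaw A P d).law := by
  have hval : PolLaw.postcomp (SymTen.TS A P d).val.toLinearMap
      (PolLaw.postcomp (retr d e) (SymTen.symmLaw A P d).law) = (SymTen.symmLaw A P d).law := by
    refine ext_of_coef (isHomog_postcomp (isHomog_postcomp (SymTen.symmLaw A P d).homog _) _)
      (SymTen.symmLaw A P d).homog (tbasis d e).span_eq fun ν _ => ?_
    rw [coef_postcomp, coef_postcomp]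
    exact symLift_self e (coef_symmLaw_mem _ ν)
  refine ⟨⟨_, isHomog_postcomp (SymTen.symmLaw A P d).homog (retr d e), fun S _ _ => ?_⟩, hval⟩
  have hv : ∀ x, (SymTen.TS A P d).val.toLinearMap.lTensor S
      ((PolLaw.postcomp (retr d e) (SymTen.symmLaw A P d).law).toFun' S x) =
        (SymTen.symmLaw A P d).law.toFun' S x :=
    fun x => congr_fun (congrArg
      (fun F : (⨂[A] _ : Fin d, P) →ₚₗ[A] (⨂[A] _ : Fin d, P) => F.toFun' S) hval) x
  refine ⟨lTensor_val_injective e S ?_, fun x y => lTensor_val_injective e S ?_⟩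
  · rw [hv, ((SymTen.symmLaw A P d).mult S).1, PolLaw.lTensor_algHom_apply, map_one]
  · rw [hv, ((SymTen.symmLaw A P d).mult S).2, PolLaw.lTensor_algHom_apply, map_mul,
      ← PolLaw.lTensor_algHom_apply, ← PolLaw.lTensor_algHom_apply, hv, hv]

theorem coef_norm_eq_zero (e : Basis ι A P) (π : P →ₐ[A] B) (F : PolLaw.MulLaw A B C d)
    (N : PolLaw.MulLaw A (⨂[A] _ : Fin d, P) (SymTen.TS A P d) d.factorial)
    (hN : PolLaw.postcomp (SymTen.TS A P d).val.toLinearMap N.law = (SymTen.symmLaw A P d).law)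
    {K : Type u} (w : K → Fin d → P) (m : K →₀ ℕ)
    (hex : ∃ i ∈ m.support, ∃ k, π (w i k) = 0) :
    coef (N.postcomp (thetaHom e (F.precomp π))).law
      (fun i => PiTensorProduct.tprod A (w i)) m = 0 := by
  classical
  change coef (PolLaw.postcomp _ N.law) _ m = 0
  rw [coef_postcomp, AlgHom.toLinearMap_apply, thetaHom_apply, ← AlgHom.toLinearMap_apply,
    ← coef_postcomp, hN, coef_symmLaw]
  have hprod : ∀ κ : NormIdx d m,
      ∏ σ, SymTen.perm A P d σ (PiTensorProduct.tprod A (w (κ.1 σ))) =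
        PiTensorProduct.tprod A fun j => ∏ σ : Equiv.Perm (Fin d), w (κ.1 σ) (σ.symm j) := by
    intro κ
    simp only [SymTen.perm_tprod]
    rw [← PiTensorProduct.tprod_prod]
    congr 1
    funext j
    simp [Finset.prod_apply]
  simp only [hprod]
  refine theta_sum_eq_zero e (F.precomp π).homog _ (fun τ κ j => ?_) {p | π p = 0}
    (fun κ v ν ⟨i, hi, hv⟩ => ?_) (fun κ => ?_)
  · refine (Fintype.prod_equiv (Equiv.mulLeft τ) _ _ fun σ => ?_).symm
    have hκ : (τ • κ).1 (τ * σ) = κ.1 σ := congrArg κ.1 (inv_mul_cancel_left τ σ)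
    simp only [Equiv.coe_mulLeft, hκ]
    congr 1
    simp [Equiv.Perm.mul_def]
  · change coef (PolLaw.precomp F.law π.toLinearMap) v ν = 0
    rw [coef_precomp]
    exact coef_eq_zero_of_apply_eq_zero F.law _ hi hv
  · obtain ⟨i, hi, k, hk⟩ := hex
    have hi' : i ∈ (∑ σ, Finsupp.single ((κ.1 σ : K)) 1).support := by rw [κ.2]; exact hi
    obtain ⟨σ, -, hσ⟩ := Finset.mem_biUnion.mp (Finsupp.support_finsetSum hi')
    have hσi : i = (κ.1 σ : K) := Finset.mem_singleton.mp (Finsupp.support_single_subset hσ)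
    refine ⟨σ k, ?_⟩
    change π _ = 0
    rw [map_prod]
    refine Finset.prod_eq_zero (Finset.mem_univ σ) ?_
    rw [← hσi, Equiv.symm_apply_apply, hk]

theorem symmLaw_natural (π : P →ₐ[A] B) :
    PolLaw.postcomp (SymTen.tmap A d π).toLinearMap (SymTen.symmLaw A P d).law =
      PolLaw.precomp (SymTen.symmLaw A B d).law (SymTen.tmap A d π).toLinearMap := by
  refine PolynomialLaw.ext (funext fun S => funext fun _ => funext fun _ => funext fun z => ?_)
  change (SymTen.tmap A d π).toLinearMap.lTensor S ((SymTen.symmLaw A P d).law.toFun' S z) =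
    (SymTen.symmLaw A B d).law.toFun' S ((SymTen.tmap A d π).toLinearMap.lTensor S z)
  rw [SymTen.symmLaw, SymTen.symmLaw, PolLaw.MulLaw.prodMap_toFun', PolLaw.MulLaw.prodMap_toFun',
    PolLaw.lTensor_algHom_apply, map_prod]
  refine Finset.prod_congr rfl fun σ _ => ?_
  induction z using TensorProduct.induction_on with
  | zero => simp
  | tmul s t => simp [tmap_perm]
  | add x y hx hy => simp only [map_add, hx, hy]

theorem symmLaw_val :
    PolLaw.precomp (SymTen.symmLaw A P d).law (SymTen.TS A P d).val.toLinearMap =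
      PolLaw.postcomp (SymTen.TS A P d).val.toLinearMap
        (PolLaw.MulLaw.pow A (SymTen.TS A P d) d.factorial).law := by
  refine PolynomialLaw.ext (funext fun S => funext fun _ => funext fun _ => funext fun z => ?_)
  change (SymTen.symmLaw A P d).law.toFun' S ((SymTen.TS A P d).val.toLinearMap.lTensor S z) =
    (SymTen.TS A P d).val.toLinearMap.lTensor S (z ^ d.factorial)
  rw [SymTen.symmLaw, PolLaw.MulLaw.prodMap_toFun', PolLaw.lTensor_algHom_apply,
    PolLaw.lTensor_algHom_apply, map_pow]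
  have h : ∀ σ : Equiv.Perm (Fin d), Algebra.TensorProduct.map (AlgHom.id S S)
      (SymTen.perm A P d σ) (Algebra.TensorProduct.map (AlgHom.id S S) (SymTen.TS A P d).val z) =
        Algebra.TensorProduct.map (AlgHom.id S S) (SymTen.TS A P d).val z := by
    intro σ
    induction z using TensorProduct.induction_on with
    | zero => simp
    | tmul s t => simp [SymTen.perm_apply, show _ = _ from t.2 σ]
    | add x y hx hy => simp only [map_add, hx, hy]
  simp [h, Fintype.card_perm]

theorem pow_natural {D : Type u} [CommRing D] [Algebra A D] (f : D →ₐ[A] C) (n : ℕ) :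
    PolLaw.postcomp f.toLinearMap (PolLaw.MulLaw.pow A D n).law =
      PolLaw.precomp (PolLaw.MulLaw.pow A C n).law f.toLinearMap := by
  refine PolynomialLaw.ext (funext fun S => funext fun _ => funext fun _ => funext fun z => ?_)
  change f.toLinearMap.lTensor S (z ^ n) = (f.toLinearMap.lTensor S z) ^ n
  rw [PolLaw.lTensor_algHom_apply, PolLaw.lTensor_algHom_apply, map_pow]

theorem ground_pow {D : Type u} [CommRing D] [Algebra A D] (n : ℕ) (x : D) :
    (PolLaw.MulLaw.pow A D n).law.ground x = x ^ n := by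
  rw [ground_eq]
  change TensorProduct.lid A D ((1 ⊗ₜ[A] x) ^ n) = _
  rw [Algebra.TensorProduct.tmul_pow, one_pow, TensorProduct.lid_tmul, one_smul]

/-- The norm law from the tensor power into a divided power algebra. -/
theorem exists_norm {γ : PolLaw.MulLaw A B C d} (hγ : PolLaw.IsGammaD γ)
    {φ : C →ₐ[A] SymTen.TS A B d}
    (hφ : PolLaw.postcomp ((SymTen.TS A B d).val.comp φ).toLinearMap γ.law =
      (SymTen.tpowLaw A B d).law) :
    ∃ G : PolLaw.MulLaw A (⨂[A] _ : Fin d, B) C d.factorial,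
      PolLaw.postcomp ((SymTen.TS A B d).val.comp φ).toLinearMap G.law =
        (SymTen.symmLaw A B d).law ∧
      PolLaw.precomp G.law ((SymTen.TS A B d).val.comp φ).toLinearMap =
        (PolLaw.MulLaw.pow A C d.factorial).law := by
  classical
  let e := monBasis A B
  let π := presHom A B
  have hπ : Function.Surjective π := presHom_surjective
  obtain ⟨N, hN⟩ := exists_normFree (d := d) e
  let f := thetaHom e (γ.precomp π)
  have hinv := apply_eq_of_gen (N.postcomp f).homog (SymTen.tmap A d π).toLinearMap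
    (tmap_surjective hπ) (Set.range (PiTensorProduct.tprod A))
    (PiTensorProduct.tprod A '' {v : Fin d → MvPolynomial B A | ∃ k, π.toLinearMap (v k) = 0})
    (eq_top_iff.mpr fun t _ => by
      induction t using PiTensorProduct.induction_on with
      | smul_tprod r v => exact Submodule.smul_mem _ _ (Submodule.subset_span ⟨v, rfl⟩)
      | add x y hx hy => exact add_mem (hx trivial) (hy trivial))
    (fun t ht => mem_span_of_tmapL_eq_zero (g := π.toLinearMap) hπ
      ((tmap_eq_tmapL π t).symm.trans ht))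
    (fun κ v ν hv ⟨i, hi, hb⟩ => by
      obtain ⟨w₀, ⟨k, hk⟩, hw₀⟩ := hb
      have hp : ∀ j, ∃ w, PiTensorProduct.tprod A w = v j := fun j =>
        (hv j).elim id fun h => let ⟨w, _, hw⟩ := h; ⟨w, hw⟩
      choose w hw using hp
      let w' := Function.update w i w₀
      have hv' : v = fun j => PiTensorProduct.tprod A (w' j) := by
        funext j
        rcases eq_or_ne j i with rfl | hj
        · simp [w', hw₀]
        · simp [w', hj, hw]
      rw [hv']
      exact coef_norm_eq_zero e π γ N hN w' ν ⟨i, hi, k, by simpa [w'] using hk⟩)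
  obtain ⟨G, hG⟩ := exists_descend' (N.postcomp f) (SymTen.tmap A d π) (tmap_surjective hπ) hinv
  have hG' : PolLaw.precomp G.law (SymTen.tmap A d π).toLinearMap =
      PolLaw.postcomp f.toLinearMap N.law := hG
  have hcomp : ((SymTen.TS A B d).val.comp φ).toLinearMap ∘ₗ f.toLinearMap =
      (SymTen.tmap A d π).toLinearMap ∘ₗ (SymTen.TS A _ d).val.toLinearMap :=
    LinearMap.ext fun z => (val_phi_thetaHom hφ π e z).trans (tmap_eq_tmapL π _).symm
  refine ⟨G, ?_, ?_⟩
  · apply precomp_injective (SymTen.tmap A d π).toLinearMap (tmap_surjective hπ)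
    rw [← symmLaw_natural, ← hN, postcomp_postcomp, ← hcomp, ← postcomp_postcomp, ← hG']
    rfl
  · apply precomp_injective f.toLinearMap (thetaHom_surjective hγ π hπ e)
    rw [← pow_natural, precomp_precomp, hcomp, ← precomp_precomp, hG']
    have h2 : PolLaw.precomp N.law (SymTen.TS A _ d).val.toLinearMap =
        (PolLaw.MulLaw.pow A (SymTen.TS A (MvPolynomial B A) d) d.factorial).law := by
      refine laws_eq_of_injective (g := (SymTen.TS A _ d).val.toLinearMap) Subtype.val_injective
        (isHomog_precomp N.homog _) (PolLaw.MulLaw.pow A _ _).homog ?_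
      rw [← symmLaw_val, ← hN]
      rfl
    rw [← h2]
    rfl

end Alg

end Groth.L22.Gamma
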