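import Groth.Agent.L22.Gamma.KerBasic
import Mathlib.AlgebraicGeometry.Morphisms.UniversallyOpen
import Mathlib.RingTheory.LocalRing.ResidueField.Ideal
import Mathlib.LinearAlgebra.TensorProduct.RightExactness

/-!
The image of a family of zero-cycles is universally open over the base.
-/

universe u

open scoped TensorProduct Polynomial
open CategoryTheory CategoryTheory.Limits

set_option maxSynthPendingDepth 3

namespace Groth.L22.Gamma

variable {A B : Type u} [CommRing A] [CommRing B] [Algebra A B] {d : ℕ}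
  (F : PolLaw.MulLaw A B A d) (A' : Type u) [CommRing A'] [Algebra A A']

/-- The quotient map on a base change. -/
noncomputable abbrev bcMk : A' ⊗[A] B →ₐ[A] A' ⊗[A] PolLaw.image F.law :=
  Algebra.TensorProduct.map (AlgHom.id A A') (Ideal.Quotient.mkₐ A (PolLaw.ker F.law))

theorem bcMk_surjective : Function.Surjective (bcMk F A') :=
  map_id_surjective (π := Ideal.Quotient.mkₐ A (PolLaw.ker F.law)) Ideal.Quotient.mk_surjective A'

theorem ker_bcMk : RingHom.ker (bcMk F A') =
    (PolLaw.ker F.law).map (Algebra.TensorProduct.includeRight : B →ₐ[A] A' ⊗[A] B) := by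
  rw [Algebra.TensorProduct.lTensor_ker _ Ideal.Quotient.mk_surjective]
  exact congrArg (Ideal.map _) (Ideal.Quotient.mkₐ_ker A _)

variable {A'}

theorem mem_of_forall_coeff_mem {Q : Ideal (A' ⊗[A] PolLaw.image F.law)} [Q.IsPrime]
    {y : A' ⊗[A] B}
    (h : ∀ k < d, algebraMap A' (A' ⊗[A] PolLaw.image F.law) ((cpoly F y).coeff k) ∈ Q) :
    bcMk F A' y ∈ Q := by
  let π : A' ⊗[A] B →ₐ[A'] A' ⊗[A] PolLaw.image F.law :=
    Algebra.TensorProduct.map (AlgHom.id A' A') (Ideal.Quotient.mkₐ A (PolLaw.ker F.law))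
  have h0 : π (Polynomial.aeval y (cpoly F y)) = 0 := by
    have := aeval_cpoly_mem_map_ker F y
    rw [← ker_bcMk] at this
    exact this
  rw [← Polynomial.aeval_algHom_apply,
    Polynomial.aeval_eq_sum_range' (Nat.lt_succ_of_le (cpoly_natDegree_le F y)),
    Finset.sum_range_succ, cpoly_coeff_top] at h0
  have hs : ∑ k ∈ Finset.range d, (cpoly F y).coeff k • π y ^ k ∈ Q :=
    Ideal.sum_mem _ fun k hk => by
      rw [Algebra.smul_def]; exact Q.mul_mem_right _ (h k (Finset.mem_range.mp hk))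
  have hd : ((-1 : A') ^ d) • π y ^ d ∈ Q := by
    have : ((-1 : A') ^ d) • π y ^ d = -∑ k ∈ Finset.range d, (cpoly F y).coeff k • π y ^ k :=
      eq_neg_of_add_eq_zero_right h0
    rw [this]; exact Q.neg_mem hs
  refine Ideal.IsPrime.mem_of_pow_mem inferInstance d ?_
  have := Submodule.smul_of_tower_mem Q ((-1 : A') ^ d) hd
  rwa [smul_smul, ← mul_pow, neg_one_mul, neg_neg, one_pow, one_smul] at this

theorem coeff_mem_of_forall_mem {p : Ideal A'} [p.IsPrime] {y : A' ⊗[A] B}
    (h : ∀ Q : Ideal (A' ⊗[A] PolLaw.image F.law), Q.IsPrime →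
      Q.comap (algebraMap A' (A' ⊗[A] PolLaw.image F.law)) = p → bcMk F A' y ∈ Q)
    {k : ℕ} (hk : k < d) : (cpoly F y).coeff k ∈ p := by
  let κ := p.ResidueField
  let g : A' →ₐ[A] κ := IsScalarTower.toAlgHom A A' κ
  let y' := Algebra.TensorProduct.map g (AlgHom.id A B) y
  let gQ : A' ⊗[A] PolLaw.image F.law →ₐ[A] κ ⊗[A] PolLaw.image F.law :=
    Algebra.TensorProduct.map g (AlgHom.id A _)
  have hcomm : bcMk F κ y' = gQ (bcMk F A' y) := by
    simp only [y', gQ, ← AlgHom.comp_apply, ← Algebra.TensorProduct.map_comp, AlgHom.comp_id,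
      AlgHom.id_comp]
  have hnil : IsNilpotent (bcMk F κ y') := by
    rw [← mem_nilradical, nilradical_eq_sInf, Submodule.mem_sInf]
    intro (Q : Ideal (κ ⊗[A] PolLaw.image F.law)) hQ
    haveI : Q.IsPrime := hQ
    rw [hcomm]
    refine h (Q.comap gQ) inferInstance ?_
    ext a
    rw [Ideal.mem_comap, Ideal.mem_comap, ← Ideal.algebraMap_residueField_eq_zero (I := p)]
    have h1 : gQ (algebraMap A' (A' ⊗[A] PolLaw.image F.law) a) =
        algebraMap κ (κ ⊗[A] PolLaw.image F.law) (algebraMap A' κ a) := by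
      simp [gQ, g, κ, Algebra.TensorProduct.algebraMap_apply]
    rw [h1]
    refine ⟨fun ha => ?_, fun ha => by rw [ha, map_zero]; exact Q.zero_mem⟩
    by_contra hne
    exact Ideal.IsPrime.ne_top ‹_›
      (Ideal.eq_top_of_isUnit_mem Q ha ((Ne.isUnit hne).map _))
  obtain ⟨n, hn⟩ := hnil
  rw [← map_pow, ← RingHom.mem_ker, ker_bcMk] at hn
  have hy : y' ∈ PolLaw.kerBC F.law κ := isRadical_kerBC F ⟨n, map_ker_le_kerBC F hn⟩
  have hc := congrArg (fun q => Polynomial.coeff q k) (cpoly_eq_of_mem F hy)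
  have hz : ((-Polynomial.X : κ[X]) ^ d).coeff k = 0 := by
    rw [neg_eq_neg_one_mul, mul_pow, ← Polynomial.C_1, ← Polynomial.C_neg, ← Polynomial.C_pow,
      Polynomial.coeff_C_mul_X_pow, if_neg hk.ne]
  simp only [y', cpoly_map, Polynomial.coeff_map, hz] at hc
  exact Ideal.algebraMap_residueField_eq_zero.mp hc

theorem comap_image_basicOpen (y : A' ⊗[A] B) :
    PrimeSpectrum.comap (algebraMap A' (A' ⊗[A] PolLaw.image F.law)) ''
        (PrimeSpectrum.basicOpen (bcMk F A' y) : Set _) =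
      ⋃ k : Fin d, (PrimeSpectrum.basicOpen ((cpoly F y).coeff k) : Set (PrimeSpectrum A')) := by
  ext p
  simp only [Set.mem_image, Set.mem_iUnion, SetLike.mem_coe, PrimeSpectrum.mem_basicOpen]
  constructor
  · rintro ⟨Q, hQ, rfl⟩
    by_contra h
    push Not at h
    exact hQ (mem_of_forall_coeff_mem F fun k hk => h ⟨k, hk⟩)
  · rintro ⟨k, hk⟩
    by_contra h
    push Not at h
    refine hk (coeff_mem_of_forall_mem F (fun Q hQ hQp => ?_) k.2)
    by_contra hne
    exact h ⟨Q, hQ⟩ hne (PrimeSpectrum.ext hQp)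

theorem isOpenMap_comap :
    IsOpenMap (PrimeSpectrum.comap (algebraMap A' (A' ⊗[A] PolLaw.image F.law))) := by
  rw [PrimeSpectrum.isTopologicalBasis_basic_opens.isOpenMap_iff]
  rintro _ ⟨f, rfl⟩
  obtain ⟨y, rfl⟩ := bcMk_surjective F A' f
  rw [comap_image_basicOpen]
  exact isOpen_iUnion fun k => PrimeSpectrum.isOpen_basicOpen

theorem universallyOpen_spec_image :
    AlgebraicGeometry.UniversallyOpen
      (AlgebraicGeometry.Spec.map (CommRingCat.ofHom (algebraMap A (PolLaw.image F.law)))) := by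
  open AlgebraicGeometry in
  refine ⟨MorphismProperty.universally_mk' _ _ fun {T} g _ ↦ ?_⟩
  wlog hT : ∃ R, T = Spec R generalizing T
  · refine (IsZariskiLocalAtTarget.iff_of_openCover T.affineCover).mpr fun i ↦ ?_
    refine (MorphismProperty.cancel_left_of_respectsIso _
      ((pullbackRightPullbackFstIso ..).inv ≫ (pullbackSymmetry ..).hom) _).mp ?_
    simpa [Scheme.Cover.pullbackHom] using! this _ _ ⟨_, rfl⟩
  obtain ⟨R, rfl⟩ := hT
  obtain ⟨ψ, rfl⟩ := Spec.map_surjective g
  algebraize [ψ.hom]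
  refine (MorphismProperty.cancel_left_of_respectsIso _
    (pullbackSpecIso A R (PolLaw.image F.law)).inv _).mp ?_
  convert_to! topologically _ (Spec.map <| CommRingCat.ofHom
    (algebraMap R (TensorProduct A R (PolLaw.image F.law))))
  · exact pullbackSpecIso_inv_fst ..
  exact isOpenMap_comap (A' := R) F

theorem generalizingMap_comap :
    GeneralizingMap (PrimeSpectrum.comap (algebraMap A' (A' ⊗[A] PolLaw.image F.law))) := by
  intro Q p' hp
  rw [← PrimeSpectrum.le_iff_specializes] at hp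
  let R := A' ⊗[A] PolLaw.image F.law
  let al : A' →+* R := algebraMap A' R
  let T : Submonoid R :=
    Q.asIdeal.primeCompl ⊔ p'.asIdeal.primeCompl.map al
  have hdisj : Disjoint ((p'.asIdeal.map al : Ideal R) : Set R) T := by
    rw [Set.disjoint_left]
    intro x hx hxT
    obtain ⟨f, hf, a', ⟨a, ha, rfl⟩, rfl⟩ := Submonoid.mem_sup.mp hxT
    have : PrimeSpectrum.comap al Q ∈
        PrimeSpectrum.comap al '' (PrimeSpectrum.basicOpen f : Set _) := ⟨Q, hf, rfl⟩
    have hp' : p' ∈ PrimeSpectrum.comap al '' (PrimeSpectrum.basicOpen f : Set _) :=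
      Specializes.mem_open ((PrimeSpectrum.le_iff_specializes _ _).mp hp)
        ((isOpenMap_comap F) _ PrimeSpectrum.isOpen_basicOpen) this
    obtain ⟨Q'', hQ'', hp''⟩ := hp'
    have hle : p'.asIdeal.map al ≤ Q''.asIdeal := by
      rw [Ideal.map_le_iff_le_comap, ← hp'']; rfl
    rcases (inferInstance : Q''.asIdeal.IsPrime).mem_or_mem (hle hx) with h | h
    · exact hQ'' h
    · exact ha (by rw [← hp'']; exact h)
  obtain ⟨Q', hQ', hle, hd'⟩ := Ideal.exists_le_prime_disjoint _ T hdisj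
  refine ⟨⟨Q', hQ'⟩, (PrimeSpectrum.le_iff_specializes ⟨Q', hQ'⟩ Q).mp ?_, ?_⟩
  · intro x hx
    by_contra hxQ
    exact Set.disjoint_left.mp hd' hx (Submonoid.mem_sup_left hxQ)
  · refine PrimeSpectrum.ext (le_antisymm (fun a ha => ?_) ?_)
    · by_contra hap
      exact Set.disjoint_left.mp hd' ha
        (Submonoid.mem_sup_right (Submonoid.mem_map_of_mem _ hap))
    · exact Ideal.map_le_iff_le_comap.mp hle

end Groth.L22.Gamma
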