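import Groth.Agent.L22.Gamma.KerBasic
import Mathlib.RingTheory.Ideal.Quotient.Operations
import Mathlib.RingTheory.Spectrum.Prime.Basic
import Mathlib.RingTheory.Spectrum.Maximal.Basic
import Mathlib.FieldTheory.SeparableDegree
import Mathlib.RingTheory.LocalRing.ResidueField.Ideal
import Mathlib.RingTheory.IntegralClosure.IsIntegralClosure.Basic
import Mathlib.RingTheory.Ideal.GoingUp
import Mathlib.RingTheory.Spectrum.Prime.RingHom

/-!
The number of points of the image of a multiplicative law over a field.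
-/

universe u

open scoped TensorProduct Polynomial

set_option maxSynthPendingDepth 3

namespace Groth.L22.Gamma

variable {A B : Type u} [CommRing A] [CommRing B] [Algebra A B] {d : ℕ}
  (F : PolLaw.MulLaw A B A d) (K : Type u) [Field K] [Algebra A K]

theorem isMaximal_of_prime (P : PrimeSpectrum (K ⊗[A] PolLaw.image F.law)) :
    P.asIdeal.IsMaximal := by
  haveI := isIntegral_image F
  haveI : Algebra.IsIntegral K (K ⊗[A] PolLaw.image F.law) := inferInstance
  refine Ideal.isMaximal_of_isIntegral_of_isMaximal_comap (R := K) P.asIdeal ?_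
  rw [(Ideal.eq_bot_or_top (P.asIdeal.comap (algebraMap K _))).resolve_right
    (Ideal.IsPrime.ne_top inferInstance)]
  exact Ideal.bot_isMaximal

theorem card_le_of_finset (s : Finset (PrimeSpectrum (K ⊗[A] PolLaw.image F.law))) :
    s.card ≤ d := by
  classical
  by_contra hlt
  push Not at hlt
  obtain ⟨s', hs', hcard⟩ := Finset.exists_subset_card_eq (Nat.succ_le_iff.mpr hlt)
  let Q := K ⊗[A] PolLaw.image F.law
  let idx : Fin (d + 1) → PrimeSpectrum Q := fun i => (s'.equivFinOfCardEq hcard).symm i
  have hidx : Function.Injective idx := Subtype.val_injective.comp (Equiv.injective _)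
  have hcop : Pairwise (Function.onFun IsCoprime fun i => (idx i).asIdeal) := by
    intro i j hij
    haveI := isMaximal_of_prime F K (idx i)
    haveI := isMaximal_of_prime F K (idx j)
    exact Ideal.isCoprime_iff_sup_eq.mpr
      (Ideal.IsMaximal.coprime_of_ne inferInstance inferInstance
        fun h => hij (hidx (PrimeSpectrum.ext h)))
  let π : K ⊗[A] B →ₐ[A] Q :=
    Algebra.TensorProduct.map (AlgHom.id A K) (Ideal.Quotient.mkₐ A (PolLaw.ker F.law))
  have hπ : Function.Surjective π :=
    map_id_surjective (π := Ideal.Quotient.mkₐ A (PolLaw.ker F.law)) Ideal.Quotient.mk_surjective K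
  choose q hq using fun i => Ideal.quotientInfToPiQuotient_surj hcop (Pi.single i 1)
  choose q' hq' using fun i => Ideal.Quotient.mk_surjective (q i)
  choose e he using fun i => hπ (q' i)
  have hdelta : ∀ i j, Ideal.Quotient.mk (idx j).asIdeal (π (e i)) = if i = j then 1 else 0 := by
    intro i j
    have := congr_fun (hq i) j
    rw [← hq' i, Ideal.quotientInfToPiQuotient_mk'] at this
    rw [he, this]
    by_cases h : i = j
    · subst h; simp
    · simp [h, Ne.symm h]
  let y : K[X] ⊗[A] B := ∑ i : Fin (d + 1), ((Polynomial.X ^ (i : ℕ) : K[X]) ⊗ₜ[A] (1 : B)) *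
    img K K[X] (e i)
  let p := cpoly F y
  have hroot : ∀ j : Fin (d + 1), Polynomial.eval (Polynomial.X ^ (j : ℕ)) p = 0 := by
    intro j
    let L := Q ⧸ (idx j).asIdeal
    let qA : Q →ₐ[A] L := Ideal.Quotient.mkₐ A _
    let f : K →ₐ[A] L := qA.comp Algebra.TensorProduct.includeLeft
    have hf : Function.Injective f := f.toRingHom.injective
    let g : B →ₐ[A] L := qA.comp (π.comp Algebra.TensorProduct.includeRight)
    let ρ : K[X] ⊗[A] B →ₐ[A] L[X] :=
      Algebra.TensorProduct.lift (Polynomial.mapAlgHom f)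
        ((IsScalarTower.toAlgHom A L L[X]).comp g) fun _ _ => Commute.all _ _
    have hker : (PolLaw.ker F.law).map (Algebra.TensorProduct.includeRight : B →ₐ[A] K[X] ⊗[A] B) ≤
        RingHom.ker ρ := by
      rw [Ideal.map_le_iff_le_comap]
      intro b hb
      have hb0 : Ideal.Quotient.mkₐ A (PolLaw.ker F.law) b = 0 := by
        rw [Ideal.Quotient.mkₐ_eq_mk]; exact Ideal.Quotient.eq_zero_iff_mem.mpr hb
      have : π (1 ⊗ₜ[A] b) = 0 := by
        refine (Algebra.TensorProduct.map_tmul _ _ _ _).trans ?_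
        rw [hb0]; exact TensorProduct.tmul_zero _ _
      simp [ρ, g, RingHom.mem_ker, this]
    have hy : ρ y = Polynomial.X ^ (j : ℕ) := by
      have himg : ∀ z : K ⊗[A] B, ρ (img K K[X] z) = Polynomial.C (qA (π z)) := by
        intro z
        induction z using TensorProduct.induction_on with
        | zero => simp
        | tmul a b =>
          have h1 : ∀ (a : K) (b : B), π (a ⊗ₜ[A] b) = a ⊗ₜ[A] Ideal.Quotient.mkₐ A (PolLaw.ker F.law) b :=
            fun _ _ => Algebra.TensorProduct.map_tmul _ _ _ _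
          have hab : π (a ⊗ₜ[A] b) = (Algebra.TensorProduct.includeLeft : K →ₐ[A] Q) a *
              π (1 ⊗ₜ[A] b) := by
            rw [h1, h1]
            exact ((Algebra.TensorProduct.tmul_mul_tmul _ _ _ _).trans (by rw [mul_one, one_mul])).symm
          rw [hab]
          simp [ρ, f, g, qA]
          left; rfl
        | add a b ha hb => simp only [map_add, ha, hb]
      simp only [y, map_sum, map_mul, himg]
      rw [Finset.sum_eq_single j]
      · have : qA (π (e j)) = 1 := (hdelta j j).trans (if_pos rfl)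
        simp [this, ρ]
      · intro i _ hij
        have : qA (π (e i)) = 0 := (hdelta i j).trans (if_neg hij)
        simp [this]
      · simp
    have h := hker (aeval_cpoly_mem_map_ker F y)
    rw [RingHom.mem_ker, Polynomial.aeval_def] at h
    have h' : (Polynomial.mapRingHom f.toRingHom) (Polynomial.eval (Polynomial.X ^ (j : ℕ)) p) = 0 := by
      rw [← h]
      change _ = ρ.toRingHom _
      rw [Polynomial.hom_eval₂, ← Polynomial.eval₂_id, Polynomial.hom_eval₂]
      congr 1
      · ext a <;> simp [ρ]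
      · change _ = ρ y
        rw [hy]; simp
    exact (map_eq_zero_iff _ (Polynomial.map_injective _ hf)).mp h'
  have hp : p = 0 := by
    refine Polynomial.eq_zero_of_natDegree_lt_card_of_eval_eq_zero p
      (f := fun j : Fin (d + 1) => (Polynomial.X ^ (j : ℕ) : K[X])) (fun i j h => ?_) hroot ?_
    · exact Fin.ext (by simpa using congrArg Polynomial.natDegree h)
    · rw [Fintype.card_fin]; exact Nat.lt_succ_of_le (cpoly_natDegree_le F y)
  have := cpoly_coeff_top F y
  rw [show cpoly F y = 0 from hp, Polynomial.coeff_zero] at this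
  exact pow_ne_zero d (neg_ne_zero.mpr one_ne_zero) this.symm

theorem finite_and_card_le :
    Finite (PrimeSpectrum (K ⊗[A] PolLaw.image F.law)) ∧
      Nat.card (PrimeSpectrum (K ⊗[A] PolLaw.image F.law)) ≤ d := by
  have hfin : Finite (PrimeSpectrum (K ⊗[A] PolLaw.image F.law)) := by
    by_contra h
    rw [not_finite_iff_infinite] at h
    obtain ⟨s, hs⟩ := Infinite.exists_subset_card_eq (PrimeSpectrum (K ⊗[A] PolLaw.image F.law)) (d + 1)
    have := card_le_of_finset F K s
    omega
  haveI := Fintype.ofFinite (PrimeSpectrum (K ⊗[A] PolLaw.image F.law))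
  exact ⟨hfin, by rw [Nat.card_eq_fintype_card]; exact card_le_of_finset F K Finset.univ⟩

theorem finite_emb {k : Type u} [Field k] [Algebra k B] (F : PolLaw.MulLaw k B k d)
    (P : PrimeSpectrum (PolLaw.image F.law)) :
    Finite (Field.Emb k P.asIdeal.ResidueField) := by
  let L := AlgebraicClosure P.asIdeal.ResidueField
  haveI := (finite_and_card_le F L).1
  let g : (P.asIdeal.ResidueField →ₐ[k] L) → (L ⊗[k] PolLaw.image F.law →ₐ[k] L) := fun σ =>
    Algebra.TensorProduct.lift (AlgHom.id k L)
      (σ.comp (IsScalarTower.toAlgHom k (PolLaw.image F.law) (Ideal.ResidueField P.asIdeal))) fun _ _ => Commute.all _ _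
  show Finite (P.asIdeal.ResidueField →ₐ[k] L)
  refine Finite.of_injective (fun σ : P.asIdeal.ResidueField →ₐ[k] L =>
    (⟨RingHom.ker (g σ), RingHom.ker_isPrime (g σ).toRingHom⟩ :
      PrimeSpectrum (L ⊗[k] PolLaw.image F.law))) fun σ τ h => ?_
  have hb : ∀ b : PolLaw.image F.law,
      σ (algebraMap _ P.asIdeal.ResidueField b) = τ (algebraMap _ P.asIdeal.ResidueField b) := by
    intro b
    let z : L ⊗[k] PolLaw.image F.law := σ (algebraMap _ _ b) ⊗ₜ[k] 1 - 1 ⊗ₜ[k] b
    have hz : z ∈ RingHom.ker (g σ) := by simp [z, g, RingHom.mem_ker]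
    rw [show RingHom.ker (g σ) = RingHom.ker (g τ) from congrArg PrimeSpectrum.asIdeal h] at hz
    simpa [z, g, RingHom.mem_ker, sub_eq_zero] using hz
  refine AlgHom.ext fun x => ?_
  obtain ⟨u, v, -, rfl⟩ := IsFractionRing.div_surjective (PolLaw.image F.law ⧸ P.asIdeal) x
  obtain ⟨u, rfl⟩ := Ideal.Quotient.mk_surjective u
  obtain ⟨v, rfl⟩ := Ideal.Quotient.mk_surjective v
  simp [hb]

theorem field_image {k : Type u} [Field k] [Algebra k B] (F : PolLaw.MulLaw k B k d) :
    Finite (PrimeSpectrum (PolLaw.image F.law)) ∧ Nat.card (PrimeSpectrum (PolLaw.image F.law)) ≤ d ∧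
      ∀ P : PrimeSpectrum (PolLaw.image F.law), P.asIdeal.IsMaximal ∧
        Finite (Field.Emb k P.asIdeal.ResidueField) := by
  let e := PrimeSpectrum.comapEquiv (Algebra.TensorProduct.lid k (PolLaw.image F.law)).toRingEquiv
  obtain ⟨h1, h2⟩ := finite_and_card_le F k
  refine ⟨Finite.of_equiv _ e.toEquiv, (Nat.card_congr e.toEquiv) ▸ h2, fun P => ⟨?_, finite_emb F P⟩⟩
  haveI := isIntegral_image F
  refine Ideal.isMaximal_of_isIntegral_of_isMaximal_comap (R := k) P.asIdeal ?_
  rw [(Ideal.eq_bot_or_top (P.asIdeal.comap (algebraMap k _))).resolve_right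
    (Ideal.IsPrime.ne_top inferInstance)]
  exact Ideal.bot_isMaximal

theorem finite_maximalSpectrum [Finite (MaximalSpectrum A)] :
    Finite (MaximalSpectrum (PolLaw.image F.law)) := by
  haveI := isIntegral_image F
  let c : MaximalSpectrum (PolLaw.image F.law) → MaximalSpectrum A := fun M =>
    ⟨M.asIdeal.comap (algebraMap A _), Ideal.isMaximal_comap_of_isIntegral_of_isMaximal (R := A) M.asIdeal⟩
  refine (Set.finite_univ_iff).mp (Set.Finite.subset
    (Set.finite_iUnion fun m : MaximalSpectrum A => (?_ : Set.Finite (c ⁻¹' {m}))) fun M _ =>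
      Set.mem_iUnion.mpr ⟨c M, rfl⟩)
  let κ := m.asIdeal.ResidueField
  haveI := (finite_and_card_le F κ).1
  let lft : ∀ M : c ⁻¹' {m}, κ ⊗[A] PolLaw.image F.law →ₐ[A] M.1.asIdeal.ResidueField := fun M =>
    Algebra.TensorProduct.lift
      (Ideal.ResidueField.mapₐ m.asIdeal M.1.asIdeal (Algebra.ofId A (PolLaw.image F.law))
        (congrArg MaximalSpectrum.asIdeal M.2).symm)
      (IsScalarTower.toAlgHom A (PolLaw.image F.law) M.1.asIdeal.ResidueField) fun _ _ => Commute.all _ _
  refine Set.finite_coe_iff.mp (Finite.of_injective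
    (β := PrimeSpectrum (κ ⊗[A] PolLaw.image F.law))
    (fun M => ⟨RingHom.ker (lft M), RingHom.ker_isPrime _⟩) fun M N h => ?_)
  refine Subtype.ext (MaximalSpectrum.ext (Ideal.ext fun b => ?_))
  have hmem : ∀ M : c ⁻¹' {m}, b ∈ M.1.asIdeal ↔ (1 : κ) ⊗ₜ[A] b ∈ RingHom.ker (lft M) := by
    intro M
    simp [lft, RingHom.mem_ker]
  rw [hmem M, hmem N, show RingHom.ker (lft M) = RingHom.ker (lft N) from congrArg PrimeSpectrum.asIdeal h]

end Groth.L22.Gamma
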