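import Groth.Prelude.Def_PolLaw
import Mathlib.Algebra.MvPolynomial.Basic
import Mathlib.Algebra.MvPolynomial.Rename
import Mathlib.Algebra.Order.Antidiag.Finsupp
import Mathlib.LinearAlgebra.TensorProduct.RightExactness
import Mathlib.LinearAlgebra.TensorProduct.Finiteness

/-!
Coefficients of homogeneous polynomial laws along a family of vectors.
-/

universe u

open scoped TensorProduct

namespace Groth.L22.Gamma

variable {A : Type u} [CommRing A] {M M' N N' : Type u} [AddCommGroup M] [Module A M]
  [AddCommGroup M'] [Module A M'] [AddCommGroup N] [Module A N] [AddCommGroup N'] [Module A N']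
  {ι : Type u}

/-- The coefficient of the monomial `ν` of an element of `A[X] ⊗ N`. -/
noncomputable def cof (ν : ι →₀ ℕ) : MvPolynomial ι A ⊗[A] N →ₗ[A] N :=
  (TensorProduct.lid A N).toLinearMap ∘ₗ (MvPolynomial.lcoeff A ν).rTensor N

@[simp] theorem cof_tmul (ν : ι →₀ ℕ) (p : MvPolynomial ι A) (n : N) :
    cof ν (p ⊗ₜ[A] n) = MvPolynomial.coeff ν p • n := by
  simp [cof]

theorem exists_eq_sum (x : MvPolynomial ι A ⊗[A] N) :
    ∃ s : Finset (ι →₀ ℕ), ∀ t, s ⊆ t →
      x = ∑ ν ∈ t, MvPolynomial.monomial ν (1 : A) ⊗ₜ[A] cof ν x := by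
  classical
  induction x using TensorProduct.induction_on with
  | zero => exact ⟨∅, fun t _ => by simp⟩
  | tmul p n =>
    refine ⟨p.support, fun t ht => ?_⟩
    have hp : p = ∑ ν ∈ t, MvPolynomial.monomial ν (p.coeff ν) :=
      p.as_sum.trans (Finset.sum_subset ht fun ν _ hν => by
        rw [MvPolynomial.notMem_support_iff.mp hν, map_zero])
    conv_lhs => rw [hp, TensorProduct.sum_tmul]
    refine Finset.sum_congr rfl fun ν _ => ?_
    rw [cof_tmul, ← TensorProduct.smul_tmul, MvPolynomial.smul_monomial, smul_eq_mul, mul_one]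
  | add x y hx hy =>
    obtain ⟨s, hs⟩ := hx
    obtain ⟨s', hs'⟩ := hy
    refine ⟨s ∪ s', fun t ht => ?_⟩
    conv_lhs => rw [hs t (Finset.union_subset_left ht), hs' t (Finset.union_subset_right ht)]
    simp only [map_add, TensorProduct.tmul_add, Finset.sum_add_distrib]

theorem ext_cof {x y : MvPolynomial ι A ⊗[A] N} (h : ∀ ν, cof ν x = cof ν y) : x = y := by
  classical
  obtain ⟨s, hs⟩ := exists_eq_sum x
  obtain ⟨t, ht⟩ := exists_eq_sum y
  rw [hs (s ∪ t) Finset.subset_union_left, ht (s ∪ t) Finset.subset_union_right]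
  simp only [h]

theorem cof_lTensor (g : N →ₗ[A] N') (ν : ι →₀ ℕ) (x : MvPolynomial ι A ⊗[A] N) :
    cof ν (g.lTensor _ x) = g (cof ν x) := by
  induction x using TensorProduct.induction_on with
  | zero => simp
  | tmul p n => simp
  | add x y hx hy => simp [hx, hy]

theorem cof_rTensor {κ : Type u} {f : MvPolynomial ι A →ₗ[A] MvPolynomial κ A}
    {μ : κ →₀ ℕ} {ν : ι →₀ ℕ} (h : ∀ p, MvPolynomial.coeff μ (f p) = MvPolynomial.coeff ν p)
    (x : MvPolynomial ι A ⊗[A] N) : cof μ (f.rTensor N x) = cof ν x := by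
  induction x using TensorProduct.induction_on with
  | zero => simp
  | tmul p n => simp [h]
  | add x y hx hy => simp [hx, hy]

theorem cof_rTensor_zero {κ : Type u} {f : MvPolynomial ι A →ₗ[A] MvPolynomial κ A}
    {μ : κ →₀ ℕ} (h : ∀ p, MvPolynomial.coeff μ (f p) = 0)
    (x : MvPolynomial ι A ⊗[A] N) : cof μ (f.rTensor N x) = 0 := by
  induction x using TensorProduct.induction_on with
  | zero => simp
  | tmul p n => simp [h]
  | add x y hx hy => simp [hx, hy]

/-- The value of a law at the generic combination of the vectors `v i`, `i ∈ J`. -/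
noncomputable def gen (F : M →ₚₗ[A] N) (v : ι → M) (J : Finset ι) : MvPolynomial ι A ⊗[A] N :=
  F.toFun' (MvPolynomial ι A) (∑ i ∈ J, MvPolynomial.X i ⊗ₜ[A] v i)

/-- The coefficient of a law along the family `v` at the exponent `ν`. -/
noncomputable def coef (F : M →ₚₗ[A] N) (v : ι → M) (ν : ι →₀ ℕ) : N :=
  cof ν (gen F v ν.support)

/-- The projection killing the variables outside `J`. -/
noncomputable def killHom (J : Finset ι) [DecidableEq ι] :
    MvPolynomial ι A →ₐ[A] MvPolynomial ι A :=
  MvPolynomial.aeval fun i => if i ∈ J then MvPolynomial.X i else 0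

theorem killHom_monomial (J : Finset ι) [DecidableEq ι] (μ : ι →₀ ℕ) (a : A) :
    killHom J (MvPolynomial.monomial μ a) =
      if μ.support ⊆ J then MvPolynomial.monomial μ a else 0 := by
  rw [killHom, MvPolynomial.aeval_monomial]
  split_ifs with h
  · rw [MvPolynomial.monomial_eq, MvPolynomial.algebraMap_eq]
    congr 1
    exact Finset.prod_congr rfl fun i hi => by simp [h hi]
  · obtain ⟨i, hi, hiJ⟩ := Finset.not_subset.mp h
    rw [Finsupp.prod, Finset.prod_eq_zero hi, mul_zero]
    simp [hiJ, zero_pow (Finsupp.mem_support_iff.mp hi)]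

theorem coeff_killHom (J : Finset ι) [DecidableEq ι] (ν : ι →₀ ℕ) (p : MvPolynomial ι A) :
    MvPolynomial.coeff ν (killHom J p) = if ν.support ⊆ J then MvPolynomial.coeff ν p else 0 := by
  classical
  induction p using MvPolynomial.induction_on' with
  | monomial μ a =>
    rw [killHom_monomial]
    by_cases hμ : μ = ν
    · subst hμ; split_ifs <;> simp
    · split_ifs <;> simp [MvPolynomial.coeff_monomial, hμ]
  | add p q hp hq =>
    rw [map_add, MvPolynomial.coeff_add, MvPolynomial.coeff_add, hp, hq]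
    split_ifs <;> simp

theorem killHom_gen [DecidableEq ι] (F : M →ₚₗ[A] N) (v : ι → M) (J K : Finset ι) :
    (killHom K).toLinearMap.rTensor N (gen F v J) = gen F v (J ∩ K) := by
  rw [gen, gen, PolynomialLaw.isCompat_apply']
  congr 1
  rw [map_sum, ← Finset.filter_mem_eq_inter, Finset.sum_filter]
  refine Finset.sum_congr rfl fun i _ => ?_
  split_ifs with h <;> simp [killHom, h]

theorem cof_gen (F : M →ₚₗ[A] N) (v : ι → M) {J : Finset ι} {ν : ι →₀ ℕ} (h : ν.support ⊆ J) :
    cof ν (gen F v J) = coef F v ν := by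
  classical
  rw [coef, ← Finset.inter_eq_right.mpr h, ← killHom_gen,
    cof_rTensor (ν := ν) fun p => ?_]
  rw [AlgHom.toLinearMap_apply, coeff_killHom, if_pos (le_refl _)]

theorem cof_gen_eq_zero (F : M →ₚₗ[A] N) (v : ι → M) {J : Finset ι} {ν : ι →₀ ℕ}
    (h : ¬ ν.support ⊆ J) : cof ν (gen F v J) = 0 := by
  classical
  rw [← Finset.inter_self J, ← killHom_gen, cof_rTensor_zero fun p => ?_]
  rw [AlgHom.toLinearMap_apply, coeff_killHom, if_neg h]

theorem coef_eq_zero_of_apply_eq_zero (F : M →ₚₗ[A] N) (v : ι → M) {ν : ι →₀ ℕ} {i : ι}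
    (hi : i ∈ ν.support) (hv : v i = 0) : coef F v ν = 0 := by
  classical
  have h : gen F v ν.support = gen F v (ν.support.erase i) := by
    rw [gen, gen, Finset.sum_erase _ (by rw [hv, TensorProduct.tmul_zero])]
  rw [coef, h, cof_gen_eq_zero]
  exact fun hsub => (Finset.mem_erase.mp (hsub hi)).1 rfl

theorem coef_congr (F : M →ₚₗ[A] N) {v w : ι → M} {ν : ι →₀ ℕ}
    (h : ∀ i ∈ ν.support, v i = w i) : coef F v ν = coef F w ν := by
  rw [coef, coef, gen, gen, Finset.sum_congr rfl fun i hi => by rw [h i hi]]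

theorem coef_precomp (F : M →ₚₗ[A] N) (g : M' →ₗ[A] M) (v : ι → M') (ν : ι →₀ ℕ) :
    coef (PolLaw.precomp F g) v ν = coef F (fun i => g (v i)) ν := by
  rw [coef, coef, gen, gen]
  congr 1
  change F.toFun' _ (g.lTensor _ _) = _
  congr 1
  simp [map_sum]

theorem coef_postcomp (g : N →ₗ[A] N') (F : M →ₚₗ[A] N) (v : ι → M) (ν : ι →₀ ℕ) :
    coef (PolLaw.postcomp g F) v ν = g (coef F v ν) := by
  rw [coef, coef, ← cof_lTensor]
  rfl

theorem isHomog_precomp {F : M →ₚₗ[A] N} {d : ℕ} (hF : PolLaw.IsHomog F d) (g : M' →ₗ[A] M) :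
    PolLaw.IsHomog (PolLaw.precomp F g) d := by
  intro S _ _ s x
  change F.toFun' S (g.lTensor S (s • x)) = s ^ d • F.toFun' S (g.lTensor S x)
  rw [← hF]
  congr 1
  induction x using TensorProduct.induction_on with
  | zero => simp
  | tmul p n => simp [TensorProduct.smul_tmul']
  | add x y hx hy => simp [hx, hy]

theorem isHomog_postcomp {F : M →ₚₗ[A] N} {d : ℕ} (hF : PolLaw.IsHomog F d) (g : N →ₗ[A] N') :
    PolLaw.IsHomog (PolLaw.postcomp g F) d := by
  intro S _ _ s x
  change g.lTensor S (F.toFun' S (s • x)) = s ^ d • g.lTensor S (F.toFun' S x)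
  rw [hF]
  generalize F.toFun' S x = y
  induction y using TensorProduct.induction_on with
  | zero => simp
  | tmul p n => simp [TensorProduct.smul_tmul']
  | add x y hx hy => simp [hx, hy]

theorem coef_eq_zero_of_degree_ne {F : M →ₚₗ[A] N} {d : ℕ} (hF : PolLaw.IsHomog F d) (v : ι → M)
    {ν : ι →₀ ℕ} (hν : (ν.sum fun _ k => k) ≠ d) : coef F v ν = 0 := by
  classical
  let T : MvPolynomial (Option ι) A := MvPolynomial.X none
  let e : MvPolynomial ι A →ₐ[A] MvPolynomial (Option ι) A := MvPolynomial.rename some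
  let χ : MvPolynomial ι A →ₐ[A] MvPolynomial (Option ι) A :=
    MvPolynomial.aeval fun i => T * MvPolynomial.X (some i)
  have hχ : χ.toLinearMap.rTensor N (gen F v ν.support) =
      T ^ d • e.toLinearMap.rTensor N (gen F v ν.support) := by
    rw [gen, PolynomialLaw.isCompat_apply', PolynomialLaw.isCompat_apply', ← hF]
    congr 1
    simp [χ, e, map_sum, Finset.smul_sum, TensorProduct.smul_tmul']
  let m : Option ι →₀ ℕ := Finsupp.single none (ν.sum fun _ k => k) + ν.mapDomain some
  have h1 : cof m (χ.toLinearMap.rTensor N (gen F v ν.support)) = coef F v ν := by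
    refine cof_rTensor (fun p => ?_) _
    induction p using MvPolynomial.induction_on' with
    | monomial μ a =>
      have : χ (MvPolynomial.monomial μ a) = MvPolynomial.monomial
          (Finsupp.single none (μ.sum fun _ k => k) + μ.mapDomain some) a := by
        have hX : ∏ i ∈ μ.support, (MvPolynomial.X (some i) : MvPolynomial (Option ι) A) ^ μ i =
            MvPolynomial.monomial (μ.mapDomain some) 1 := by
          rw [← MvPolynomial.prod_X_pow_eq_monomial,
            Finsupp.mapDomain_support_of_injective (Option.some_injective ι),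
            Finset.prod_image fun a _ b _ h => Option.some_injective ι h]
          refine Finset.prod_congr rfl fun i _ => ?_
          rw [Finsupp.mapDomain_apply (Option.some_injective ι)]
        simp only [χ, MvPolynomial.aeval_monomial, mul_pow, MvPolynomial.algebraMap_eq, Finsupp.prod,
          Finset.prod_mul_distrib, Finset.prod_pow_eq_pow_sum, hX]
        rw [show T = MvPolynomial.X none from rfl, MvPolynomial.X_pow_eq_monomial,
          MvPolynomial.monomial_mul, MvPolynomial.C_mul_monomial, mul_one, mul_one]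
        rfl
      rw [AlgHom.toLinearMap_apply, this]
      by_cases hμ : μ = ν
      · subst hμ; simp [m]
      · rw [MvPolynomial.coeff_monomial, MvPolynomial.coeff_monomial, if_neg hμ, if_neg]
        intro h
        refine hμ (Finsupp.ext fun i => ?_)
        have := DFunLike.congr_fun h (some i)
        simpa [m, Finsupp.mapDomain_apply (Option.some_injective ι)] using this
    | add p q hp hq => simp_all
  rw [← h1, hχ]
  have key : ∀ x : MvPolynomial ι A ⊗[A] N, cof m (T ^ d • e.toLinearMap.rTensor N x) = 0 := by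
    intro x
    induction x using TensorProduct.induction_on with
    | zero => simp
    | tmul p n =>
      suffices h : MvPolynomial.coeff m (T ^ d * e p) = 0 by
        simp [TensorProduct.smul_tmul', h]
      rw [show T = MvPolynomial.X none from rfl, MvPolynomial.X_pow_eq_monomial,
        MvPolynomial.coeff_monomial_mul']
      split_ifs with h
      · rw [one_mul, MvPolynomial.coeff_rename_eq_zero]
        intro u hu
        exfalso
        have := DFunLike.congr_fun hu none
        have h' := h none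
        simp [m, Finsupp.mapDomain_notin_range] at this h'
        omega
      · rfl
    | add x y hx hy => simp [smul_add, hx, hy]
  exact key _

/-- Expansion of a homogeneous law at a finite combination. -/
theorem apply_sum {F : M →ₚₗ[A] N} {d : ℕ} (hF : PolLaw.IsHomog F d) [DecidableEq ι]
    (S : Type u) [CommSemiring S] [Algebra A S] (J : Finset ι) (s : ι → S) (v : ι → M) :
    F.toFun' S (∑ i ∈ J, s i ⊗ₜ[A] v i) =
      ∑ ν ∈ J.finsuppAntidiag d, (∏ i ∈ J, s i ^ ν i) ⊗ₜ[A] coef F v ν := by
  have hg : gen F v J =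
      ∑ ν ∈ J.finsuppAntidiag d, MvPolynomial.monomial ν (1 : A) ⊗ₜ[A] coef F v ν := by
    refine ext_cof fun μ => ?_
    simp only [map_sum, cof_tmul, MvPolynomial.coeff_monomial, ite_smul, one_smul, zero_smul,
      Finset.sum_ite_eq']
    split_ifs with hμ
    · exact cof_gen F v (Finset.mem_finsuppAntidiag.mp hμ).2
    · by_cases hsub : μ.support ⊆ J
      · rw [cof_gen F v hsub, coef_eq_zero_of_degree_ne hF]
        exact fun h => hμ (Finset.mem_finsuppAntidiag'.mpr ⟨h, hsub⟩)
      · exact cof_gen_eq_zero F v hsub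
  have h := congrArg ((MvPolynomial.aeval s).toLinearMap.rTensor N) hg
  rw [gen, PolynomialLaw.isCompat_apply'] at h
  simp only [map_sum, LinearMap.rTensor_tmul, AlgHom.toLinearMap_apply, MvPolynomial.aeval_X,
    MvPolynomial.aeval_monomial, map_one, one_mul] at h
  rw [h]
  refine Finset.sum_congr rfl fun ν hν => ?_
  rw [Finsupp.prod_of_support_subset ν (Finset.mem_finsuppAntidiag.mp hν).2 _ fun i _ => pow_zero _]

theorem exists_eq_sum_tmul {e : ι → M} (he : Submodule.span A (Set.range e) = ⊤)
    {S : Type u} [CommSemiring S] [Algebra A S] (z : S ⊗[A] M) :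
    ∃ s : ι →₀ S, z = ∑ i ∈ s.support, s i ⊗ₜ[A] e i := by
  classical
  let Φ : (ι →₀ S) →ₗ[A] S ⊗[A] M :=
    Finsupp.lsum A fun i => (TensorProduct.mk A S M).flip (e i)
  suffices h : z ∈ LinearMap.range Φ by
    obtain ⟨s, rfl⟩ := h
    exact ⟨s, by simp [Φ, Finsupp.sum]⟩
  induction z using TensorProduct.induction_on with
  | zero => exact zero_mem _
  | tmul a m =>
    have hle : Submodule.span A (Set.range e) ≤ (LinearMap.range Φ).comap (TensorProduct.mk A S M a) :=
      Submodule.span_le.mpr (by
        rintro _ ⟨i, rfl⟩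
        exact ⟨Finsupp.single i a, by simp [Φ]⟩)
    exact hle (by rw [he]; trivial)
  | add x y hx hy => exact add_mem hx hy

/-- Homogeneous laws are determined by their coefficients along a generating family. -/
theorem ext_of_coef {F G : M →ₚₗ[A] N} {d : ℕ} (hF : PolLaw.IsHomog F d)
    (hG : PolLaw.IsHomog G d) {e : ι → M} (he : Submodule.span A (Set.range e) = ⊤)
    (h : ∀ ν : ι →₀ ℕ, (ν.sum fun _ k => k) = d → coef F e ν = coef G e ν) : F = G := by
  classical
  refine PolynomialLaw.ext (funext fun S => funext fun _ => funext fun _ => funext fun z => ?_)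
  obtain ⟨s, rfl⟩ := exists_eq_sum_tmul he z
  rw [apply_sum hF, apply_sum hG]
  exact Finset.sum_congr rfl fun ν hν => by
    rw [h ν (Finset.mem_finsuppAntidiag'.mp hν).1]

/-- Coefficients along vectors in the span of a family lie in the span of its coefficients. -/
theorem coef_mem_span {F : M →ₚₗ[A] N} {d : ℕ} (hF : PolLaw.IsHomog F d) {κ : Type u}
    (v : κ → M) (w : ι → M) (hw : ∀ i, w i ∈ Submodule.span A (Set.range v)) (ν : ι →₀ ℕ) :
    coef F w ν ∈ Submodule.span A
      ((fun μ => coef F v μ) '' {μ : κ →₀ ℕ | (μ.sum fun _ k => k) = d}) := by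
  classical
  choose a ha using fun i => (Finsupp.mem_span_range_iff_exists_finsupp.mp (hw i))
  let J := ν.support.biUnion fun i => (a i).support
  have harg : (∑ i ∈ ν.support, (MvPolynomial.X i : MvPolynomial ι A) ⊗ₜ[A] w i) =
      ∑ j ∈ J, (∑ i ∈ ν.support, a i j • MvPolynomial.X i) ⊗ₜ[A] v j := by
    simp only [TensorProduct.sum_tmul, TensorProduct.smul_tmul]
    rw [Finset.sum_comm]
    refine Finset.sum_congr rfl fun i hi => ?_
    rw [← TensorProduct.tmul_sum, ← ha i]
    congr 1
    exact Finsupp.sum_of_support_subset _ (Finset.subset_biUnion_of_mem (fun i => (a i).support) hi)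
      _ fun j _ => zero_smul A _
  rw [coef, gen, harg, apply_sum hF, map_sum]
  refine Submodule.sum_mem _ fun μ hμ => ?_
  rw [cof_tmul]
  exact Submodule.smul_mem _ _
    (Submodule.subset_span ⟨μ, (Finset.mem_finsuppAntidiag'.mp hμ).1, rfl⟩)

/-- Invariance of a law under the kernel of a linear map, from its coefficients. -/
theorem apply_eq_of_lTensor_eq {F : M →ₚₗ[A] N} {d : ℕ} (hF : PolLaw.IsHomog F d) (π : M →ₗ[A] M')
    (hπ : Function.Surjective π)
    (hbad : ∀ (ι : Type u) (v : ι → M) (ν : ι →₀ ℕ), (∃ i ∈ ν.support, π (v i) = 0) →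
      coef F v ν = 0)
    (S : Type u) [CommSemiring S] [Algebra A S] (x y : S ⊗[A] M)
    (h : π.lTensor S x = π.lTensor S y) : F.toFun' S x = F.toFun' S y := by
  classical
  letI : AddCommGroup S := Module.addCommMonoidToAddCommGroup A
  have hex : Function.Exact ((LinearMap.ker π).subtype.lTensor S) (π.lTensor S) :=
    lTensor_exact S (LinearMap.exact_subtype_ker_map π) hπ
  obtain ⟨w, hw⟩ := (hex (x - y)).1 (by rw [map_sub, h, sub_self])
  obtain ⟨n, s, b, rfl⟩ := TensorProduct.exists_sum_tmul_eq y
  obtain ⟨m, t, k, rfl⟩ := TensorProduct.exists_sum_tmul_eq w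
  let v : ULift.{u} (Fin n ⊕ Fin m) → M := fun i => Sum.elim b (fun j => (k j : M)) i.down
  let σ : ULift.{u} (Fin n ⊕ Fin m) → S := fun i => Sum.elim s t i.down
  let σ' : ULift.{u} (Fin n ⊕ Fin m) → S := fun i => Sum.elim s (fun _ => 0) i.down
  have hx : x = ∑ i, σ i ⊗ₜ[A] v i := by
    rw [← Equiv.sum_comp Equiv.ulift.symm, Fintype.sum_sum_type]
    rw [map_sum] at hw
    simp only [LinearMap.lTensor_tmul, Submodule.subtype_apply] at hw
    rw [eq_sub_iff_add_eq] at hw
    simp only [σ, v, Equiv.ulift_symm_apply, Sum.elim_inl, Sum.elim_inr]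
    rw [← hw, add_comm]
  have hy : ∑ i, s i ⊗ₜ[A] b i = ∑ i, σ' i ⊗ₜ[A] v i := by
    rw [← Equiv.sum_comp Equiv.ulift.symm (fun i => σ' i ⊗ₜ[A] v i), Fintype.sum_sum_type]
    simp [σ', v]
  rw [hx, hy, apply_sum hF, apply_sum hF]
  refine Finset.sum_congr rfl fun ν hν => ?_
  by_cases hb : ∃ i ∈ ν.support, π (v i) = 0
  · rw [hbad _ v ν hb]; simp
  · congr 1
    refine Finset.prod_congr rfl fun i _ => ?_
    rcases hi : i.down with j | j
    · simp [σ, σ', hi]
    · have : ν i = 0 := by
        by_contra hne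
        exact hb ⟨i, Finsupp.mem_support_iff.mpr hne, by
          simp [v, hi, LinearMap.mem_ker.mp (k j).2]⟩
      simp [this]

/-- The law on a quotient induced by a law vanishing on the kernel. -/
noncomputable def descend (F : M →ₚₗ[A] N) (π : M →ₗ[A] M') (hπ : Function.Surjective π)
    (h : ∀ (S : Type u) [CommSemiring S] [Algebra A S] (x y : S ⊗[A] M),
      π.lTensor S x = π.lTensor S y → F.toFun' S x = F.toFun' S y) : M' →ₚₗ[A] N where
  toFun' S _ _ x := F.toFun' S (Function.surjInv (LinearMap.lTensor_surjective S hπ) x)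
  isCompat' {S} _ _ {S'} _ _ φ := by
    funext x
    simp only [Function.comp_apply]
    rw [PolynomialLaw.isCompat_apply']
    apply h
    rw [← LinearMap.comp_apply, LinearMap.lTensor_comp_rTensor,
      ← LinearMap.rTensor_comp_lTensor, LinearMap.comp_apply,
      Function.surjInv_eq (LinearMap.lTensor_surjective S hπ),
      Function.surjInv_eq (LinearMap.lTensor_surjective S' hπ)]

theorem descend_apply (F : M →ₚₗ[A] N) (π : M →ₗ[A] M') (hπ : Function.Surjective π)
    (h : ∀ (S : Type u) [CommSemiring S] [Algebra A S] (x y : S ⊗[A] M),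
      π.lTensor S x = π.lTensor S y → F.toFun' S x = F.toFun' S y)
    (S : Type u) [CommSemiring S] [Algebra A S] (x : S ⊗[A] M) :
    (descend F π hπ h).toFun' S (π.lTensor S x) = F.toFun' S x :=
  h S _ _ (Function.surjInv_eq _ _)

theorem precomp_descend (F : M →ₚₗ[A] N) (π : M →ₗ[A] M') (hπ : Function.Surjective π)
    (h : ∀ (S : Type u) [CommSemiring S] [Algebra A S] (x y : S ⊗[A] M),
      π.lTensor S x = π.lTensor S y → F.toFun' S x = F.toFun' S y) :
    PolLaw.precomp (descend F π hπ h) π = F :=
  PolynomialLaw.ext (funext fun S => funext fun _ => funext fun _ => funext fun x =>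
    descend_apply F π hπ h S x)

/-- Precomposition with a surjection is injective on laws. -/
theorem precomp_injective {F G : M' →ₚₗ[A] N} (π : M →ₗ[A] M') (hπ : Function.Surjective π)
    (h : PolLaw.precomp F π = PolLaw.precomp G π) : F = G := by
  refine PolynomialLaw.ext (funext fun S => funext fun _ => funext fun _ => funext fun z => ?_)
  obtain ⟨x, rfl⟩ := LinearMap.lTensor_surjective S hπ z
  exact congr_fun (congrArg (fun H : M →ₚₗ[A] N => H.toFun' S) h) x

theorem precomp_precomp {M'' : Type u} [AddCommGroup M''] [Module A M''] (F : M →ₚₗ[A] N)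
    (g : M' →ₗ[A] M) (g' : M'' →ₗ[A] M') :
    PolLaw.precomp (PolLaw.precomp F g) g' = PolLaw.precomp F (g ∘ₗ g') :=
  PolynomialLaw.ext (funext fun S => funext fun _ => funext fun _ => funext fun x =>
    congrArg (F.toFun' S) (LinearMap.lTensor_comp_apply S g g' x).symm)

theorem postcomp_postcomp {N'' : Type u} [AddCommGroup N''] [Module A N''] (g : N →ₗ[A] N')
    (g' : N' →ₗ[A] N'') (F : M →ₚₗ[A] N) :
    PolLaw.postcomp g' (PolLaw.postcomp g F) = PolLaw.postcomp (g' ∘ₗ g) F :=
  PolynomialLaw.ext (funext fun S => funext fun _ => funext fun _ => funext fun x =>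
    (LinearMap.lTensor_comp_apply S g' g (F.toFun' S x)).symm)

end Groth.L22.Gamma
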