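import Groth.Agent.L22.Gamma.Kernel
import Mathlib.LinearAlgebra.Basis.VectorSpace
import Mathlib.RingTheory.LocalRing.ResidueField.Ideal
import Mathlib.RingTheory.TensorProduct.Maps
import Mathlib.RingTheory.Spectrum.Prime.Topology

/-!
Points of symmetric tensors over points of divided powers.
-/

universe u

open scoped TensorProduct

namespace Groth.L22.Gamma

variable {A B C : Type u} [CommRing A] [CommRing B] [Algebra A B] [CommRing C] [Algebra A C]
  {d : ℕ}

theorem exists_rel {γ : PolLaw.MulLaw A B C d} {φ : C →ₐ[A] SymTen.TS A B d}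
    (hφ : PolLaw.postcomp ((SymTen.TS A B d).val.comp φ).toLinearMap γ.law =
      (SymTen.tpowLaw A B d).law)
    (p : Ideal A) [p.IsPrime] (y : SymTen.TS A B d) :
    ∃ a : A, a ∉ p ∧ ∃ c : C, ∀ Q : Ideal (⨂[A] _ : Fin d, B), Q.IsPrime →
      Q.comap (algebraMap A _) = p →
      (SymTen.TS A B d).val (a • y - φ c) ∈ Q := by
  classical
  let k := p.ResidueField
  let V := k ⊗[A] B
  let m : B →ₗ[A] V := TensorProduct.mk A k B 1
  let Φ : (⨂[A] _ : Fin d, B) →ₗ[A] TP k V d :=
    PiTensorProduct.lift (((PiTensorProduct.tprod k).restrictScalars A).compLinearMap fun _ => m)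
  have hΦ : ∀ v, Φ (PiTensorProduct.tprod A v) = PiTensorProduct.tprod k fun j => m (v j) :=
    fun v => by simp [Φ]
  -- symmetric tensors go to symmetric tensors
  have hsym : Φ ((SymTen.TS A B d).val y) ∈ symT k V d := by
    intro σ
    have : ∀ t : ⨂[A] _ : Fin d, B, PiTensorProduct.reindex k (fun _ : Fin d => V) σ (Φ t) =
        Φ (PiTensorProduct.reindex A (fun _ : Fin d => B) σ t) := by
      intro t
      induction t using PiTensorProduct.induction_on with
      | smul_tprod r v =>
        have hlin : ∀ x : TP k V d, PiTensorProduct.reindex k (fun _ : Fin d => V) σ (r • x) =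
            r • PiTensorProduct.reindex k (fun _ : Fin d => V) σ x := fun x => by
          rw [← algebraMap_smul k r x, LinearEquiv.map_smul, algebraMap_smul]
        rw [Φ.map_smul, hlin, LinearEquiv.map_smul, Φ.map_smul, hΦ,
          PiTensorProduct.reindex_tprod, PiTensorProduct.reindex_tprod, hΦ]
      | add x y hx hy => simp only [map_add, hx, hy]
    rw [this]
    exact congrArg Φ (y.2 σ)
  -- a basis made of images of elements of `B`
  have hs : ⊤ ≤ Submodule.span k (Set.range m) := by
    rintro z -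
    induction z using TensorProduct.induction_on with
    | zero => exact zero_mem _
    | tmul r b =>
      have : r ⊗ₜ[A] b = r • m b := by
        change _ = r • ((1 : k) ⊗ₜ[A] b)
        rw [TensorProduct.smul_tmul', smul_eq_mul, mul_one]
      rw [this]
      exact Submodule.smul_mem _ _ (Submodule.subset_span ⟨b, rfl⟩)
    | add a b ha hb => exact add_mem ha hb
  let e := Module.Basis.ofSpan hs
  choose b hb using fun i => Module.Basis.ofSpan_subset hs ⟨i, rfl⟩
  have hclear : ∀ r : k, ∃ a : A, a ∉ p ∧ ∃ a' : A, a • r = algebraMap A k a' := by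
    intro r
    obtain ⟨⟨x, s, hs⟩, h⟩ := IsLocalization.surj (nonZeroDivisors (A ⧸ p)) r
    obtain ⟨x, rfl⟩ := Ideal.Quotient.mk_surjective x
    obtain ⟨s, rfl⟩ := Ideal.Quotient.mk_surjective s
    refine ⟨s, fun hmem => nonZeroDivisors.ne_zero hs (Ideal.Quotient.eq_zero_iff_mem.mpr hmem),
      x, ?_⟩
    rw [Algebra.smul_def, mul_comm]
    exact h
  have key : ∀ t ∈ Submodule.span k (Set.range (sym k d e)),
      ∃ a : A, a ∉ p ∧ ∃ c : C, a • t = Φ ((SymTen.TS A B d).val (φ c)) := by
    intro t ht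
    induction ht using Submodule.span_induction with
    | mem t ht =>
      obtain ⟨ν, rfl⟩ := ht
      refine ⟨1, p.primeCompl.one_mem, coef γ.law b ν, ?_⟩
      have : (SymTen.TS A B d).val (φ (coef γ.law b ν)) = sym A d b ν := by
        rw [← coef_tpowLaw, ← hφ, coef_postcomp]
        rfl
      rw [one_smul, this]
      simp only [sym, map_sum, hΦ, hb]
      rfl
    | zero => exact ⟨1, p.primeCompl.one_mem, 0, by simp⟩
    | add t t' _ _ ht ht' =>
      obtain ⟨a, ha, c, hc⟩ := ht
      obtain ⟨a', ha', c', hc'⟩ := ht'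
      refine ⟨a' * a, p.primeCompl.mul_mem ha' ha, a' • c + a • c', ?_⟩
      simp only [map_add, map_smul, smul_add, mul_smul, hc]
      rw [smul_comm a' a t', hc']
    | smul r t _ ht =>
      obtain ⟨a, ha, c, hc⟩ := ht
      obtain ⟨s, hs, x, hx⟩ := hclear r
      refine ⟨a * s, p.primeCompl.mul_mem ha hs, x • c, ?_⟩
      rw [map_smul, map_smul, map_smul, ← hc, mul_smul, ← smul_assoc s r, hx, algebraMap_smul,
        smul_comm]
  obtain ⟨a, ha, c, hac⟩ := key _ (symT_le_span e hsym)
  refine ⟨a, ha, c, fun Q hQ hQp => ?_⟩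
  let L := Q.ResidueField
  let ι : k →+* L := Ideal.ResidueField.map p Q (algebraMap A _) hQp.symm
  letI : Algebra k L := ι.toAlgebra
  haveI : IsScalarTower A k L := IsScalarTower.of_algebraMap_eq fun r => by
    rw [RingHom.algebraMap_toAlgebra, Ideal.ResidueField.map_algebraMap]
    exact IsScalarTower.algebraMap_apply A (⨂[A] _ : Fin d, B) L r
  let χ : (⨂[A] _ : Fin d, B) →ₐ[A] L := IsScalarTower.toAlgHom A _ L
  let f : Fin d → (V →ₗ[k] L) := fun j =>
    (χ.comp (PiTensorProduct.singleAlgHom (A := fun _ : Fin d => B) j)).toLinearMap.liftBaseChange k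
  let Ψ : TP k V d →ₗ[k] L :=
    PiTensorProduct.lift ((MultilinearMap.mkPiAlgebra k (Fin d) L).compLinearMap f)
  have hΨ : ∀ t, Ψ (Φ t) = χ t := by
    intro t
    induction t using PiTensorProduct.induction_on with
    | smul_tprod r v =>
      have hlin : ∀ x : TP k V d, Ψ (r • x) = r • Ψ x := fun x => by
        rw [← algebraMap_smul k r x, Ψ.map_smul, algebraMap_smul]
      rw [Φ.map_smul, hlin, map_smul χ, hΦ]
      congr 1
      have hv : PiTensorProduct.tprod A v =
          ∏ j, PiTensorProduct.singleAlgHom (R := A) (A := fun _ : Fin d => B) j (v j) := by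
        simp only [PiTensorProduct.singleAlgHom_apply, MonoidHom.mulSingle_apply]
        rw [← PiTensorProduct.tprod_prod]
        exact congrArg _ (Finset.univ_prod_mulSingle v).symm
      rw [hv, map_prod]
      simp [Ψ, f, m]
      refine Finset.prod_congr rfl fun i _ => ?_
      rw [TensorProduct.mk_apply, LinearMap.liftBaseChange_tmul, one_smul]
      rfl
    | add x y hx hy => simp only [map_add, hx, hy]
  have hzero : χ ((SymTen.TS A B d).val (a • y - φ c)) = 0 := by
    rw [← hΨ, map_sub, map_sub, map_smul, map_smul, hac, sub_self, map_zero]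
  exact Ideal.algebraMap_residueField_eq_zero.mp hzero

theorem perm_one (z : ⨂[A] _ : Fin d, B) : SymTen.perm A B d 1 z = z := by
  induction z using PiTensorProduct.induction_on with
  | smul_tprod r v => rw [map_smul, SymTen.perm_tprod]; rfl
  | add x y hx hy => simp only [map_add, hx, hy]

theorem isIntegral_val : (SymTen.TS A B d).val.toRingHom.IsIntegral := by
  classical
  intro z
  let p : Polynomial (⨂[A] _ : Fin d, B) :=
    ∏ σ : Equiv.Perm (Fin d), (Polynomial.X - Polynomial.C (SymTen.perm A B d σ z))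
  have hp : ∀ τ : Equiv.Perm (Fin d), p.map (SymTen.perm A B d τ).toRingHom = p := by
    intro τ
    simp only [p, Polynomial.map_prod, Polynomial.map_sub, Polynomial.map_X, Polynomial.map_C]
    refine Fintype.prod_equiv (Equiv.mulLeft τ) _ _ fun σ => ?_
    congr 2
    change SymTen.perm A B d τ (SymTen.perm A B d σ z) = SymTen.perm A B d (τ * σ) z
    induction z using PiTensorProduct.induction_on with
    | smul_tprod r v =>
      simp only [map_smul, SymTen.perm_tprod]
      congr 2
    | add x y hx hy => simp only [map_add, hx, hy]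
  have hlift : p ∈ Polynomial.lifts (SymTen.TS A B d).val.toRingHom := by
    rw [Polynomial.lifts_iff_coeff_lifts]
    intro n
    refine ⟨⟨p.coeff n, fun τ => ?_⟩, rfl⟩
    rw [← SymTen.perm_apply]
    conv_rhs => rw [← hp τ, Polynomial.coeff_map]
    rfl
  have hmonic : p.Monic := Polynomial.monic_prod_of_monic _ _ fun σ _ => Polynomial.monic_X_sub_C _
  obtain ⟨q, hq, -, hqm⟩ := Polynomial.lifts_and_natDegree_eq_and_monic hlift hmonic
  refine ⟨q, hqm, ?_⟩
  rw [Polynomial.eval₂_eq_eval_map, hq]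
  simp only [p, Polynomial.eval_prod]
  refine Finset.prod_eq_zero (Finset.mem_univ 1) ?_
  have : SymTen.perm A B d 1 z = z := perm_one z
  simp [this]

theorem exists_rel_prime {γ : PolLaw.MulLaw A B C d} {φ : C →ₐ[A] SymTen.TS A B d}
    (hφ : PolLaw.postcomp ((SymTen.TS A B d).val.comp φ).toLinearMap γ.law =
      (SymTen.tpowLaw A B d).law)
    (p : Ideal A) [p.IsPrime] (y : SymTen.TS A B d) :
    ∃ a : A, a ∉ p ∧ ∃ c : C, ∀ q : Ideal (SymTen.TS A B d), q.IsPrime →
      q.comap (algebraMap A _) = p → a • y - φ c ∈ q := by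
  obtain ⟨a, ha, c, h⟩ := exists_rel hφ p y
  refine ⟨a, ha, c, fun q hq hqp => ?_⟩
  obtain ⟨Q, hQ⟩ := (isIntegral_val (A := A) (B := B) (d := d)).comap_surjective
    Subtype.val_injective ⟨q, hq⟩
  have hQ' : Q.asIdeal.comap (SymTen.TS A B d).val.toRingHom = q :=
    congrArg PrimeSpectrum.asIdeal hQ
  rw [← hQ']
  refine h Q.asIdeal Q.2 ?_
  rw [← hqp, ← hQ', Ideal.comap_comap]
  rfl

theorem comap_injective {γ : PolLaw.MulLaw A B C d} {φ : C →ₐ[A] SymTen.TS A B d}
    (hφ : PolLaw.postcomp ((SymTen.TS A B d).val.comp φ).toLinearMap γ.law =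
      (SymTen.tpowLaw A B d).law) :
    Function.Injective (PrimeSpectrum.comap φ.toRingHom) := by
  have key : ∀ q₁ q₂ : PrimeSpectrum (SymTen.TS A B d),
      PrimeSpectrum.comap φ.toRingHom q₁ = PrimeSpectrum.comap φ.toRingHom q₂ →
        q₁.asIdeal ≤ q₂.asIdeal := by
    intro q₁ q₂ h
    have hC : ∀ c, φ c ∈ q₁.asIdeal ↔ φ c ∈ q₂.asIdeal := fun c =>
      SetLike.ext_iff.mp (congrArg PrimeSpectrum.asIdeal h) c
    let p := q₁.asIdeal.comap (algebraMap A (SymTen.TS A B d))
    have hp : q₂.asIdeal.comap (algebraMap A (SymTen.TS A B d)) = p := by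
      ext r
      simp only [p, Ideal.mem_comap, ← φ.commutes r]
      exact (hC _).symm
    intro y hy
    obtain ⟨a, ha, c, hac⟩ := exists_rel_prime hφ p y
    have hc₁ : φ c ∈ q₁.asIdeal := by
      have := sub_mem (Submodule.smul_of_tower_mem q₁.asIdeal a hy) (hac _ q₁.2 rfl)
      rwa [sub_sub_cancel] at this
    have := add_mem (hac _ q₂.2 hp) ((hC c).mp hc₁)
    rw [sub_add_cancel, Algebra.smul_def] at this
    refine (q₂.2.mem_or_mem this).resolve_left fun h' => ha ?_
    rw [← hp]
    exact h'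
  exact fun q₁ q₂ h => PrimeSpectrum.ext (le_antisymm (key _ _ h) (key _ _ h.symm))

theorem residueField_map_surjective {γ : PolLaw.MulLaw A B C d} {φ : C →ₐ[A] SymTen.TS A B d}
    (hφ : PolLaw.postcomp ((SymTen.TS A B d).val.comp φ).toLinearMap γ.law =
      (SymTen.tpowLaw A B d).law)
    (p : Ideal C) [p.IsPrime] (q : Ideal (SymTen.TS A B d)) [q.IsPrime]
    (h : p = q.comap φ.toRingHom) :
    Function.Surjective (Ideal.ResidueField.map p q φ.toRingHom h) := by
  set f := Ideal.ResidueField.map p q φ.toRingHom h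
  let p₀ := q.comap (algebraMap A (SymTen.TS A B d))
  have hy : ∀ y : SymTen.TS A B d, algebraMap _ q.ResidueField y ∈ f.fieldRange := by
    intro y
    obtain ⟨a, ha, c, hac⟩ := exists_rel_prime hφ p₀ y
    have hne : algebraMap _ q.ResidueField (algebraMap A (SymTen.TS A B d) a) ≠ 0 :=
      fun h0 => ha (Ideal.mem_comap.mpr (Ideal.algebraMap_residueField_eq_zero.mp h0))
    have he := Ideal.algebraMap_residueField_eq_zero.mpr (hac q inferInstance rfl)
    rw [map_sub, sub_eq_zero, Algebra.smul_def, map_mul] at he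
    rw [← mul_inv_cancel_left₀ hne (algebraMap _ q.ResidueField y), mul_comm _⁻¹, ← mul_assoc, he]
    refine mul_mem ⟨algebraMap C _ c, Ideal.ResidueField.map_algebraMap _ _ _ h c⟩
      (inv_mem ⟨algebraMap C _ (algebraMap A C a), ?_⟩)
    rw [Ideal.ResidueField.map_algebraMap]
    exact congrArg _ (φ.commutes a)
  intro x
  obtain ⟨u, v, -, rfl⟩ := IsFractionRing.div_surjective ((SymTen.TS A B d) ⧸ q) x
  obtain ⟨u, rfl⟩ := Ideal.Quotient.mk_surjective u
  obtain ⟨v, rfl⟩ := Ideal.Quotient.mk_surjective v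
  exact div_mem (hy u) (hy v)

theorem isIntegral_phi {γ : PolLaw.MulLaw A B C d} (hγ : PolLaw.IsGammaD γ)
    {φ : C →ₐ[A] SymTen.TS A B d}
    (hφ : PolLaw.postcomp ((SymTen.TS A B d).val.comp φ).toLinearMap γ.law =
      (SymTen.tpowLaw A B d).law) :
    φ.toRingHom.IsIntegral := by
  intro y
  obtain ⟨c, hc⟩ := (pow_factorial_ker_image hγ hφ).2 y
  refine ⟨Polynomial.X ^ d.factorial - Polynomial.C c,
    Polynomial.monic_X_pow_sub_C _ (Nat.factorial_ne_zero d), ?_⟩
  rw [Polynomial.eval₂_sub, Polynomial.eval₂_X_pow, Polynomial.eval₂_C, sub_eq_zero]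
  exact hc.symm

theorem comap_surjective {γ : PolLaw.MulLaw A B C d} (hγ : PolLaw.IsGammaD γ)
    {φ : C →ₐ[A] SymTen.TS A B d}
    (hφ : PolLaw.postcomp ((SymTen.TS A B d).val.comp φ).toLinearMap γ.law =
      (SymTen.tpowLaw A B d).law) :
    Function.Surjective (PrimeSpectrum.comap φ.toRingHom) := by
  rintro ⟨p, hp⟩
  letI := φ.toRingHom.toAlgebra
  haveI : Algebra.IsIntegral C (SymTen.TS A B d) := ⟨isIntegral_phi hγ hφ⟩
  obtain ⟨Q, -, hQ, hQp⟩ := Ideal.exists_ideal_over_prime_of_isIntegral p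
    (⊥ : Ideal (SymTen.TS A B d)) (fun x hx => hp.mem_of_pow_mem d.factorial (by
      rw [(pow_factorial_ker_image hγ hφ).1 x (Ideal.mem_bot.mp hx : φ x = 0)]
      exact zero_mem p))
  exact ⟨⟨Q, hQ⟩, PrimeSpectrum.ext hQp⟩

end Groth.L22.Gamma
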