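import Groth.Agent.L22.Gamma.Residue
import Groth.Agent.L20.UnivHomeo
import Mathlib.AlgebraicGeometry.ResidueField

/-!
The comparison map from symmetric tensors to divided powers on spectra.
-/

universe u

open AlgebraicGeometry CategoryTheory
open scoped TensorProduct

namespace Groth.L22.Gamma

theorem residueFieldMap_surjective_spec {R S : CommRingCat.{u}} (f : R ⟶ S) (x : ↥(Spec S))
    (p : Ideal R) [p.IsPrime] (h : p = x.asIdeal.comap f.hom)
    (hs : Function.Surjective (Ideal.ResidueField.map p x.asIdeal f.hom h)) :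
    Function.Surjective ((Spec.map f).residueFieldMap x).hom := by
  set g := ((Spec.map f).residueFieldMap x).hom
  let i := (Scheme.Spec.residueFieldIso S x).inv.hom
  have hev : ∀ s : S, i (algebraMap S x.asIdeal.ResidueField s) =
      (Spec S).Γevaluation x ((Scheme.ΓSpecIso S).inv s) := fun s =>
    DFunLike.congr_fun (congrArg CommRingCat.Hom.hom (Scheme.Spec.algebraMap_residueFieldIso_inv S x)) s
  have hmem : ∀ r : R, i (algebraMap S x.asIdeal.ResidueField (f.hom r)) ∈ g.fieldRange := by
    intro r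
    refine ⟨(Spec R).Γevaluation (Spec.map f x) ((Scheme.ΓSpecIso R).inv r), ?_⟩
    rw [hev]
    refine (Scheme.Γevaluation_naturality_apply (Spec.map f) x _).trans ?_
    congr 1
    exact DFunLike.congr_fun (congrArg CommRingCat.Hom.hom
      (Scheme.ΓSpecIso_inv_naturality f).symm) r
  intro z
  obtain ⟨w, hw⟩ := hs ((Scheme.Spec.residueFieldIso S x).hom.hom z)
  obtain ⟨a, b, -, rfl⟩ := IsFractionRing.div_surjective (R ⧸ p) w
  obtain ⟨a, rfl⟩ := Ideal.Quotient.mk_surjective a
  obtain ⟨b, rfl⟩ := Ideal.Quotient.mk_surjective b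
  rw [Ideal.algebraMap_quotient_residueField_mk, Ideal.algebraMap_quotient_residueField_mk,
    map_div₀, Ideal.ResidueField.map_algebraMap, Ideal.ResidueField.map_algebraMap] at hw
  have hz : i ((Scheme.Spec.residueFieldIso S x).hom.hom z) = z :=
    DFunLike.congr_fun (congrArg CommRingCat.Hom.hom (Scheme.Spec.residueFieldIso S x).hom_inv_id) z
  change z ∈ g.fieldRange
  rw [← hz, ← hw, map_div₀]
  exact div_mem (hmem a) (hmem b)

variable {A B C : Type u} [CommRing A] [CommRing B] [Algebra A B] [CommRing C] [Algebra A C]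
  {d : ℕ}

theorem isUnivHomeo_and_surjective {γ : PolLaw.MulLaw A B C d} (hγ : PolLaw.IsGammaD γ)
    {φ : C →ₐ[A] SymTen.TS A B d}
    (hφ : PolLaw.postcomp ((SymTen.TS A B d).val.comp φ).toLinearMap γ.law =
      (SymTen.tpowLaw A B d).law) :
    FlatMor.IsUnivHomeo (Spec.map (CommRingCat.ofHom φ.toRingHom)) ∧
      ∀ x : ↥(Spec (CommRingCat.of (SymTen.TS A B d))),
        Function.Surjective
          ((Spec.map (CommRingCat.ofHom φ.toRingHom)).residueFieldMap x).hom := by
  have hres : ∀ x : ↥(Spec (CommRingCat.of (SymTen.TS A B d))), Function.Surjective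
      ((Spec.map (CommRingCat.ofHom φ.toRingHom)).residueFieldMap x).hom := fun x =>
    residueFieldMap_surjective_spec _ x (x.asIdeal.comap φ.toRingHom) rfl
      (residueField_map_surjective hφ _ x.asIdeal rfl)
  refine ⟨?_, hres⟩
  rw [Groth.L20.isUnivHomeo_iff]
  have hint : IsIntegralHom (Spec.map (CommRingCat.ofHom φ.toRingHom)) :=
    (IsIntegralHom.SpecMap_iff (φ := CommRingCat.ofHom φ.toRingHom)).mpr (isIntegral_phi hγ hφ)
  refine ⟨inferInstance, ?_, ⟨comap_surjective hγ hφ⟩⟩
  have h := (tfae_universallyInjective (Spec.map (CommRingCat.ofHom φ.toRingHom))).out 0 2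
  rw [h]
  refine ⟨comap_injective hφ, fun x => ?_⟩
  letI := ((Spec.map (CommRingCat.ofHom φ.toRingHom)).residueFieldMap x).hom.toAlgebra
  change IsPurelyInseparable _ _
  refine (isPurelyInseparable_iff_pow_mem _ (ringExpChar ((Spec (CommRingCat.of C)).residueField
    (Spec.map (CommRingCat.ofHom φ.toRingHom) x)))).mpr fun z => ⟨0, ?_⟩
  obtain ⟨w, hw⟩ := hres x z
  exact ⟨w, by rw [pow_zero, pow_one]; exact hw⟩

end Groth.L22.Gamma
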