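import Groth.Agent.L22.Gamma.KerBasic
import Groth.Agent.L22.SplitRing
import Mathlib.LinearAlgebra.Vandermonde
import Mathlib.LinearAlgebra.Matrix.NonsingularInverse
import Mathlib.FieldTheory.Separable
import Mathlib.RingTheory.Flat.FaithfullyFlat.Algebra
import Mathlib.RingTheory.AdjoinRoot
import Mathlib.RingTheory.Adjoin.FGBaseChange
import Mathlib.RingTheory.IntegralClosure.IsIntegralClosure.Basic

/-!
Kernels of laws and separable extensions; finitely generated approximations of the kernel.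
-/

universe u

open scoped TensorProduct Polynomial

set_option maxSynthPendingDepth 3

namespace Groth.L22.Gamma

variable {A B : Type u} [CommRing A] [CommRing B] [Algebra A B] {d : ℕ}
  (F : PolLaw.MulLaw A B A d)

theorem mem_ker_of_mem_kerBC_faithfullyFlat (C : Type u) [CommRing C] [Algebra A C]
    [Module.FaithfullyFlat A C] {b : B} (h : (1 : C) ⊗ₜ[A] b ∈ PolLaw.kerBC F.law C) :
    b ∈ PolLaw.ker F.law := by
  refine mem_ker_of_kerBC_self F (mem_kerBC_of_mv F fun n x w => ?_)
  let R := MvPolynomial (Fin n) A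
  let ι : R →ₐ[A] C ⊗[A] R := Algebra.TensorProduct.includeRight
  refine Module.FaithfullyFlat.tensorProduct_mk_injective (A := A) (B := C) R ?_
  change ι _ = ι _
  rw [← nm_map, ← nm_map, nm_inj, map_add, map_mul]
  have e : Algebra.TensorProduct.map ι (AlgHom.id A B) (img A R ((1 : A) ⊗ₜ[A] b)) =
      img C (C ⊗[A] R) ((1 : C) ⊗ₜ[A] b) := by
    simp [ι, Algebra.TensorProduct.one_def]
  rw [e]
  exact h (C ⊗[A] R) _ _

theorem exists_basis_sum {R : Type u} [CommRing R] [Algebra A R] {ι : Type*} [Fintype ι]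
    (e : Module.Basis ι A R) (y : R ⊗[A] B) : ∃ b : ι → B, y = ∑ k, e k ⊗ₜ[A] b k := by
  induction y using TensorProduct.induction_on with
  | zero => exact ⟨0, by simp⟩
  | tmul a c =>
    refine ⟨fun k => e.repr a k • c, ?_⟩
    conv_lhs => rw [← e.sum_repr a, TensorProduct.sum_tmul]
    exact Finset.sum_congr rfl fun k _ => TensorProduct.smul_tmul _ _ _
  | add z z' hz hz' =>
    obtain ⟨b, rfl⟩ := hz
    obtain ⟨b', rfl⟩ := hz'
    exact ⟨b + b', by simp [TensorProduct.tmul_add, Finset.sum_add_distrib]⟩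

theorem map_ker_eq_kerBC_adjoinRoot (g : A[X]) (hg : g.Monic) (hsep : g.Separable) :
    (PolLaw.ker F.law).map (Algebra.TensorProduct.includeRight : B →ₐ[A] AdjoinRoot g ⊗[A] B) =
      PolLaw.kerBC F.law (AdjoinRoot g) := by
  classical
  refine le_antisymm (map_ker_le_kerBC F) fun y hy => ?_
  rcases subsingleton_or_nontrivial A with hA | hA
  · haveI : Subsingleton (AdjoinRoot g ⊗[A] B) := Module.subsingleton A _
    rw [Subsingleton.elim y 0]
    exact zero_mem _
  obtain ⟨C, _, _, _, _, hinj, s, hs⟩ :=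
    Groth.L22.SplitRing.exists_split_aux g.natDegree A g hg rfl
  haveI : Nontrivial C := hinj.nontrivial
  let pb := AdjoinRoot.powerBasis' hg
  obtain ⟨b, rfl⟩ := exists_basis_sum pb.basis y
  have hdim : s.toList.length = pb.dim := by
    rw [Multiset.length_toList, AdjoinRoot.powerBasis'_dim]
    have := congrArg Polynomial.natDegree hs
    rw [hg.natDegree_map, Polynomial.natDegree_multiset_prod_X_sub_C_eq_card] at this
    exact this.symm
  let α : Fin pb.dim → C := fun i => s.toList.get (Fin.cast hdim.symm i)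
  have hprod : g.map (algebraMap A C) = ∏ i, (Polynomial.X - Polynomial.C (α i)) := by
    rw [hs, ← Multiset.coe_toList s, Multiset.map_coe, Multiset.prod_coe]
    rw [← Fin.prod_univ_getElem]
    refine Fintype.prod_equiv (finCongr (by rw [List.length_map, hdim])) _ _ fun i => ?_
    simp [α]
  have hroot : ∀ i, Polynomial.eval₂ (algebraMap A C) (α i) g = 0 := by
    intro i
    rw [← Polynomial.eval_map, hprod, Polynomial.eval_prod]
    exact Finset.prod_eq_zero (Finset.mem_univ i) (by simp)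
  have hunit : ∀ i j, i ≠ j → IsUnit (α i - α j) := by
    intro i j hij
    obtain ⟨u, v, huv⟩ := (Polynomial.separable_def' _).mp (hsep.map (f := algebraMap A C))
    have h1 := congrArg (Polynomial.eval (α i)) huv
    rw [Polynomial.eval_add, Polynomial.eval_mul, Polynomial.eval_mul, Polynomial.eval_one,
      Polynomial.eval_map, hroot, mul_zero, zero_add, hprod,
      ← Finset.mul_prod_erase Finset.univ _ (Finset.mem_univ i), Polynomial.derivative_mul] at h1
    simp only [Polynomial.derivative_sub, Polynomial.derivative_X, Polynomial.derivative_C,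
      sub_zero, one_mul, Polynomial.eval_add, Polynomial.eval_mul, Polynomial.eval_sub,
      Polynomial.eval_X, Polynomial.eval_C, sub_self, zero_mul, add_zero,
      Polynomial.eval_prod] at h1
    exact isUnit_of_dvd_one (h1 ▸ dvd_mul_of_dvd_right
      (Finset.dvd_prod_of_mem (fun j => α i - α j) (Finset.mem_erase.mpr ⟨Ne.symm hij, Finset.mem_univ j⟩)) _)
  let M : Matrix (Fin pb.dim) (Fin pb.dim) C := Matrix.vandermonde α
  have hM : IsUnit M.det := by
    rw [Matrix.det_vandermonde]
    exact IsUnit.prod_iff.mpr fun i _ => IsUnit.prod_iff.mpr fun j hj =>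
      hunit j i (ne_of_gt (Finset.mem_Ioi.mp hj))
  have himg : ∀ j, ∑ k : Fin pb.dim, (α j ^ (k : ℕ)) ⊗ₜ[A] b k ∈ PolLaw.kerBC F.law C := by
    intro j
    let φ : AdjoinRoot g →ₐ[A] C := AdjoinRoot.liftAlgHom g (Algebra.ofId A C) (α j) (hroot j)
    have h := map_mem_kerBC F φ hy
    rw [map_sum] at h
    convert h using 1
    refine Finset.sum_congr rfl fun k _ => ?_
    rw [Algebra.TensorProduct.map_tmul, pb.basis_eq_pow, map_pow]
    congr 2
    exact (AdjoinRoot.liftAlgHom_root ..).symm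
  refine Ideal.sum_mem _ fun k _ => ?_
  rw [← mul_one (pb.basis k), ← one_mul (b k), ← Algebra.TensorProduct.tmul_mul_tmul]
  refine Ideal.mul_mem_left _ _ (Ideal.mem_map_of_mem _ (mem_ker_of_mem_kerBC_faithfullyFlat F C ?_))
  have hk : (1 : C) ⊗ₜ[A] b k = ∑ j, (M⁻¹ k j ⊗ₜ[A] (1 : B)) * ∑ l : Fin pb.dim, (α j ^ (l : ℕ)) ⊗ₜ[A] b l := by
    simp only [Finset.mul_sum, Algebra.TensorProduct.tmul_mul_tmul, one_mul]
    rw [Finset.sum_comm]
    simp only [← TensorProduct.sum_tmul]
    have hkl : ∀ l : Fin pb.dim, ∑ j, M⁻¹ k j * α j ^ (l : ℕ) = if k = l then 1 else 0 := by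
      intro l
      have := congr_fun (congr_fun (Matrix.nonsing_inv_mul M hM) k) l
      rwa [Matrix.mul_apply, Matrix.one_apply] at this
    simp only [hkl]
    rw [Finset.sum_eq_single k]
    · rw [if_pos rfl]
    · intro l _ hl; rw [if_neg (Ne.symm hl), TensorProduct.zero_tmul]
    · simp
  rw [hk]
  exact Ideal.sum_mem _ fun j _ => Ideal.mul_mem_left _ _ (himg j)

theorem exists_fg_le_ker [Algebra.FiniteType A B] :
    ∃ J : Ideal B, J.FG ∧ J ≤ PolLaw.ker F.law ∧ J.radical = (PolLaw.ker F.law).radical := by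
  classical
  obtain ⟨s, hs⟩ := (inferInstance : Algebra.FiniteType A B).1
  let cf : B → B := fun x => Polynomial.aeval x (cpoly F ((1 : A) ⊗ₜ[A] x))
  let J₁ : Ideal B := Ideal.span (s.image cf : Set B)
  have hJ₁ : J₁ ≤ PolLaw.ker F.law := by
    rw [Ideal.span_le]
    intro z hz
    obtain ⟨x, -, rfl⟩ := Finset.mem_image.mp (Finset.mem_coe.mp hz)
    exact aeval_cpoly_mem_ker F x
  let π : B →ₐ[A] B ⧸ J₁ := Ideal.Quotient.mkₐ A J₁
  have hπ : Function.Surjective π := Ideal.Quotient.mk_surjective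
  haveI : Module.Finite A (B ⧸ J₁) := by
    have htop : Algebra.adjoin A (π '' (s : Set B)) = ⊤ := by
      rw [← AlgHom.map_adjoin, hs, Algebra.map_top]
      exact (AlgHom.range_eq_top _).mpr hπ
    constructor
    rw [← Algebra.top_toSubmodule, ← htop]
    refine fg_adjoin_of_finite (s.finite_toSet.image _) ?_
    rintro _ ⟨x, hx, rfl⟩
    refine ⟨Polynomial.C ((-1 : A) ^ d) * cpoly F ((1 : A) ⊗ₜ[A] x), ?_, ?_⟩
    · refine Polynomial.monic_of_natDegree_le_of_coeff_eq_one d ?_ ?_
      · exact (Polynomial.natDegree_C_mul_le _ _).trans (cpoly_natDegree_le F _)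
      · rw [Polynomial.coeff_C_mul, cpoly_coeff_top, ← mul_pow, neg_one_mul, neg_neg, one_pow]
    · rw [← Polynomial.aeval_def, map_mul]
      refine mul_eq_zero_of_right _ ?_
      rw [Polynomial.aeval_algHom_apply]
      exact Ideal.Quotient.eq_zero_iff_mem.mpr
        (Ideal.subset_span (Finset.mem_coe.mpr (Finset.mem_image_of_mem cf hx)))
  obtain ⟨m, c, hc⟩ := Module.Finite.exists_fin (R := A) (M := B ⧸ J₁)
  choose b hb using fun i => hπ (c i)
  let Y : MvPolynomial (Fin m) A ⊗[A] B := ∑ i, MvPolynomial.X i ⊗ₜ[A] b i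
  have hY := aeval_cpoly_mem_map_ker F Y
  obtain ⟨T, hT, hYT⟩ := Submodule.mem_span_finite_of_mem_span hY
  rw [Set.subset_def] at hT
  choose k hk using fun t : T => hT t.1 t.2
  let J : Ideal B := J₁ ⊔ Ideal.span (Set.range k)
  have hJ : J ≤ PolLaw.ker F.law := sup_le hJ₁ (Ideal.span_le.mpr (by
    rintro _ ⟨t, rfl⟩; exact (hk t).1))
  refine ⟨J, Submodule.FG.sup ⟨_, rfl⟩ (Submodule.fg_span (Set.finite_range k)), hJ,
    le_antisymm (Ideal.radical_mono hJ) ((Ideal.radical_le_radical_iff).mpr fun x hx => ?_)⟩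
  obtain ⟨a, ha⟩ := (Submodule.mem_span_range_iff_exists_fun A).mp
    (hc ▸ Submodule.mem_top : π x ∈ Submodule.span A (Set.range c))
  let x' := ∑ i, a i • b i
  have hxx' : x - x' ∈ J₁ := by
    rw [← Ideal.Quotient.eq_zero_iff_mem]
    change π (x - x') = 0
    simp [x', hb, ha]
  have hx' : x' ∈ PolLaw.ker F.law := by
    rw [show x' = x - (x - x') by ring]
    exact sub_mem hx (hJ₁ hxx')
  let g : MvPolynomial (Fin m) A →ₐ[A] A := MvPolynomial.aeval a
  let ev : MvPolynomial (Fin m) A ⊗[A] B →ₐ[A] B :=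
    (Algebra.TensorProduct.lid A B).toAlgHom.comp (Algebra.TensorProduct.map g (AlgHom.id A B))
  have hev : ev (Polynomial.aeval Y (cpoly F Y)) ∈ J := by
    have : Ideal.span (T : Set (MvPolynomial (Fin m) A ⊗[A] B)) ≤ J.comap ev := by
      rw [Ideal.span_le]
      intro t ht
      obtain ⟨-, h2⟩ := hk ⟨t, ht⟩
      rw [SetLike.mem_coe, Ideal.mem_comap, show t = _ from h2.symm]
      simpa [ev, g] using
        (show k ⟨t, ht⟩ ∈ J from Ideal.mem_sup_right (Ideal.subset_span ⟨_, rfl⟩))
    exact this hYT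
  have hg : Algebra.TensorProduct.map g (AlgHom.id A B) Y = (1 : A) ⊗ₜ[A] x' := by
    simp [Y, g, x', map_sum, TensorProduct.tmul_sum, TensorProduct.tmul_smul,
      TensorProduct.smul_tmul']
  have hpow : x' ^ d ∈ J := by
    have hcp : (cpoly F Y).map g.toRingHom = (-Polynomial.X) ^ d := by
      rw [← cpoly_map, hg, cpoly_eq_of_mem_ker F hx']
    have e : ev (Polynomial.aeval Y (cpoly F Y)) =
        Polynomial.aeval x' ((cpoly F Y).map g.toRingHom) := by
      change ev.toRingHom _ = _
      rw [Polynomial.map_aeval_eq_aeval_map (ψ := ev.toRingHom) (φ := g.toRingHom) ?_]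
      · congr 2
        simp [ev, hg]
      · refine MvPolynomial.ringHom_ext (fun r => ?_) fun q => ?_ <;>
          simp [ev, g, Algebra.algebraMap_eq_smul_one, Algebra.TensorProduct.one_def,
            TensorProduct.smul_tmul']
    rw [e, hcp, map_pow, map_neg, Polynomial.aeval_X, neg_pow] at hev
    have h2 := J.mul_mem_left ((-1) ^ d) hev
    rwa [← mul_assoc, ← mul_pow, neg_one_mul, neg_neg, one_pow, one_mul] at h2
  rw [show x = x' + (x - x') by ring]
  exact add_mem ⟨d, hpow⟩ (Ideal.le_radical (Ideal.mem_sup_left hxx'))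

end Groth.L22.Gamma
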