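import Groth.Agent.L22.Gamma.Idem

/-!
Splitting a multiplicative law on a product.
-/

universe u

open scoped TensorProduct Polynomial

set_option maxSynthPendingDepth 3

namespace Groth.L22.Gamma

variable {A : Type u} [CommRing A] {B B₁ : Type u} [CommRing B] [Algebra A B] [CommRing B₁]
  [Algebra A B₁] {d : ℕ}

theorem lTensor_mul_of_mul {ι : B₁ →ₗ[A] B} (hι : ∀ a b, ι (a * b) = ι a * ι b) (S : Type u)
    [CommSemiring S] [Algebra A S] (x y : S ⊗[A] B₁) :
    ι.lTensor S (x * y) = ι.lTensor S x * ι.lTensor S y := by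
  induction x using TensorProduct.induction_on with
  | zero => simp
  | tmul a b =>
    induction y using TensorProduct.induction_on with
    | zero => simp
    | tmul a' b' => simp [hι]
    | add y y' hy hy' => simp only [mul_add, map_add, hy, hy']
  | add x x' hx hx' => simp only [add_mul, map_add, hx, hx']

theorem lTensor_mul_unit {ι : B₁ →ₗ[A] B} (hι : ∀ a b, ι (a * b) = ι a * ι b) (S : Type u)
    [CommSemiring S] [Algebra A S] (x : S ⊗[A] B₁) (s : S) :
    ι.lTensor S x * (s ⊗ₜ[A] ι 1) = s • ι.lTensor S x ∧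
      ι.lTensor S x * (s ⊗ₜ[A] (1 - ι 1)) = 0 := by
  induction x using TensorProduct.induction_on with
  | zero => simp
  | tmul a b =>
    rw [LinearMap.lTensor_tmul, Algebra.TensorProduct.tmul_mul_tmul,
      Algebra.TensorProduct.tmul_mul_tmul, mul_sub, mul_one, ← hι, mul_one, sub_self,
      TensorProduct.tmul_zero, TensorProduct.smul_tmul', smul_eq_mul, mul_comm s a]
    exact ⟨rfl, rfl⟩
  | add x x' hx hx' =>
    exact ⟨by simp only [map_add, add_mul, hx.1, hx'.1, smul_add],
      by simp only [map_add, add_mul, hx.2, hx'.2, add_zero]⟩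

/-- A law restricted to a factor, the argument being completed by one on the other factor. -/
theorem exists_restrict [ConnectedSpace (PrimeSpectrum A)] (F : PolLaw.MulLaw A B A d)
    {ι : B₁ →ₗ[A] B} (hι : ∀ a b, ι (a * b) = ι a * ι b) (he : IsIdempotentElem (ι 1)) :
    ∃ F₁ : PolLaw.MulLaw A B₁ A (weight F he),
      ∀ (S : Type u) [CommSemiring S] [Algebra A S] (x : S ⊗[A] B₁),
        F₁.law.toFun' S x = F.law.toFun' S (ι.lTensor S x + 1 ⊗ₜ[A] (1 - ι 1)) := by
  let L : B₁ →ₚₗ[A] A :=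
    { toFun' := fun S _ _ x => F.law.toFun' S (ι.lTensor S x + 1 ⊗ₜ[A] (1 - ι 1))
      isCompat' := fun {S} _ _ {S'} _ _ φ => by
        funext x
        simp only [Function.comp_apply]
        rw [PolynomialLaw.isCompat_apply', map_add, LinearMap.rTensor_tmul, AlgHom.toLinearMap_apply,
          map_one]
        congr 2
        rw [← LinearMap.comp_apply, LinearMap.rTensor_comp_lTensor, ← LinearMap.lTensor_comp_rTensor,
          LinearMap.comp_apply] }
  refine ⟨⟨L, fun S _ _ s x => ?_, fun S _ _ => ⟨?_, fun x y => ?_⟩⟩, fun S _ _ x => rfl⟩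
  · have hs : F.law.toFun' S ((1 : S) ⊗ₜ[A] (1 - ι 1) + s ⊗ₜ[A] ι 1) =
        s ^ weight F he • 1 := by
      rw [toFun'_eq_nm_tmul, weight_spec, Algebra.TensorProduct.one_def, TensorProduct.smul_tmul',
        smul_eq_mul, mul_one]
    show F.law.toFun' S _ = s ^ weight F he • F.law.toFun' S _
    rw [← mul_one (F.law.toFun' S (ι.lTensor S x + _)), ← mul_smul_comm, ← hs, ← (F.mult S).2]
    congr 1
    rw [add_mul, mul_add, mul_add, (lTensor_mul_unit hι S x s).1, (lTensor_mul_unit hι S x 1).2,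
      Algebra.TensorProduct.tmul_mul_tmul, Algebra.TensorProduct.tmul_mul_tmul, one_mul, one_mul,
      he.one_sub.eq, he.one_sub_mul_self, TensorProduct.tmul_zero, add_zero, zero_add]
    congr 1
    induction x using TensorProduct.induction_on with
    | zero => simp
    | tmul a b => rw [TensorProduct.smul_tmul', LinearMap.lTensor_tmul, LinearMap.lTensor_tmul,
        TensorProduct.smul_tmul']
    | add a b ha hb => simp only [smul_add, map_add, ha, hb]
  · show F.law.toFun' S _ = 1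
    rw [Algebra.TensorProduct.one_def, LinearMap.lTensor_tmul, ← TensorProduct.tmul_add,
      add_sub_cancel, ← Algebra.TensorProduct.one_def]
    exact (F.mult S).1
  · show F.law.toFun' S _ = F.law.toFun' S _ * F.law.toFun' S _
    rw [← (F.mult S).2]
    congr 1
    rw [add_mul, mul_add, mul_add, (lTensor_mul_unit hι S x 1).2, mul_comm (1 ⊗ₜ[A] (1 - ι 1)),
      (lTensor_mul_unit hι S y 1).2, ← lTensor_mul_of_mul hι, Algebra.TensorProduct.tmul_mul_tmul,
      one_mul, he.one_sub.eq, add_zero, zero_add]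

theorem exists_prod_eq_mul {A : Type u} [CommRing A] [ConnectedSpace (PrimeSpectrum A)]
    {B₁ : Type u} [CommRing B₁] [Algebra A B₁] {B₂ : Type u} [CommRing B₂] [Algebra A B₂]
    {d : ℕ} (F : PolLaw.MulLaw A (B₁ × B₂) A d) :
    ∃ d₁ d₂ : ℕ, d₁ + d₂ = d ∧
      (∃ (F₁ : PolLaw.MulLaw A B₁ A d₁) (F₂ : PolLaw.MulLaw A B₂ A d₂),
        ∀ (S : Type u) [CommSemiring S] [Algebra A S] (x : S ⊗[A] (B₁ × B₂)),
          F.law.toFun' S x = F₁.law.toFun' S (LinearMap.lTensor S (LinearMap.fst A B₁ B₂) x) *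
            F₂.law.toFun' S (LinearMap.lTensor S (LinearMap.snd A B₁ B₂) x)) ∧
      ∀ (e₁ e₂ : ℕ) (G₁ : PolLaw.MulLaw A B₁ A e₁) (G₂ : PolLaw.MulLaw A B₂ A e₂),
        (∀ (S : Type u) [CommSemiring S] [Algebra A S] (x : S ⊗[A] (B₁ × B₂)),
          F.law.toFun' S x = G₁.law.toFun' S (LinearMap.lTensor S (LinearMap.fst A B₁ B₂) x) *
            G₂.law.toFun' S (LinearMap.lTensor S (LinearMap.snd A B₁ B₂) x)) → e₁ = d₁ ∧ e₂ = d₂ := by
  haveI : Nontrivial A := PrimeSpectrum.nonempty_iff_nontrivial.mp inferInstance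
  let i₁ := LinearMap.inl A B₁ B₂
  let i₂ := LinearMap.inr A B₁ B₂
  have h1 : ∀ a b, i₁ (a * b) = i₁ a * i₁ b := fun a b => by ext <;> simp [i₁]
  have h2 : ∀ a b, i₂ (a * b) = i₂ a * i₂ b := fun a b => by ext <;> simp [i₂]
  have he : IsIdempotentElem (i₁ 1) := by rw [IsIdempotentElem, ← h1, mul_one]
  have hf : IsIdempotentElem (i₂ 1) := by rw [IsIdempotentElem, ← h2, mul_one]
  have e1 : 1 - i₁ 1 = i₂ 1 := by ext <;> simp [i₁, i₂]
  have e2 : 1 - i₂ 1 = i₁ 1 := by ext <;> simp [i₁, i₂]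
  obtain ⟨F₁, hF₁⟩ := exists_restrict F h1 he
  obtain ⟨F₂, hF₂⟩ := exists_restrict F h2 hf
  have hd : weight F he + weight F hf = d := by
    have := weight_add F he hf (by ext <;> simp [i₁, i₂])
    simp only [← e1, add_sub_cancel] at this
    rw [weight_one] at this
    simpa [e1] using this.symm
  refine ⟨_, _, hd, ⟨F₁, F₂, fun S _ _ x => ?_⟩, fun n₁ n₂ G₁ G₂ hG => ?_⟩
  · rw [hF₁, hF₂, ← (F.mult S).2]
    congr 1
    rw [e1, e2]
    have hx : ∀ (x₁ : S ⊗[A] B₁) (x₂ : S ⊗[A] B₂),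
        (i₁.lTensor S x₁ + 1 ⊗ₜ[A] i₂ 1) * (i₂.lTensor S x₂ + 1 ⊗ₜ[A] i₁ 1) =
          i₁.lTensor S x₁ + i₂.lTensor S x₂ := by
      intro x₁ x₂
      rw [add_mul, mul_add, mul_add, (lTensor_mul_unit h1 S x₁ 1).1, one_smul,
        mul_comm (1 ⊗ₜ[A] i₂ 1) (i₂.lTensor S x₂), (lTensor_mul_unit h2 S x₂ 1).1, one_smul,
        Algebra.TensorProduct.tmul_mul_tmul, ← e1, he.one_sub_mul_self, TensorProduct.tmul_zero,
        add_zero]
      have h12 : i₁.lTensor S x₁ * i₂.lTensor S x₂ = 0 := by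
        rw [← one_smul S (i₁.lTensor S x₁), ← (lTensor_mul_unit h1 S x₁ 1).1,
          ← one_smul S (i₂.lTensor S x₂), ← (lTensor_mul_unit h2 S x₂ 1).1,
          mul_mul_mul_comm, Algebra.TensorProduct.tmul_mul_tmul, ← e1, he.mul_one_sub_self,
          TensorProduct.tmul_zero, mul_zero]
      rw [h12, zero_add]
    rw [hx]
    clear hF₁ hF₂
    induction x using TensorProduct.induction_on with
    | zero => simp
    | tmul a b =>
      simp only [LinearMap.lTensor_tmul, ← TensorProduct.tmul_add]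
      congr 1
      ext <;> simp [i₁, i₂]
    | add a b ha hb => simp only [map_add]; rw [add_add_add_comm, ← ha, ← hb]
  · have hval : ∀ {C : Type u} [CommRing C] [Algebra A C] {n : ℕ} (G : PolLaw.MulLaw A C A n),
        G.law.toFun' A[X] ((Polynomial.X : A[X]) ⊗ₜ[A] 1) = (Polynomial.X ^ n : A[X]) ⊗ₜ[A] 1 := by
      intro C _ _ n G
      rw [toFun'_eq_nm_tmul, nm_algebraMap]
    constructor
    · refine (weight_eq_of F he ?_).symm
      rw [e1, nm, hG]
      simp only [map_add, LinearMap.lTensor_tmul, i₁, i₂, LinearMap.inl_apply, LinearMap.inr_apply,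
        LinearMap.fst_apply, LinearMap.snd_apply, TensorProduct.tmul_zero, add_zero, zero_add]
      rw [hval, ← Algebra.TensorProduct.one_def, (G₂.mult _).1, mul_one,
        Algebra.TensorProduct.rid_tmul, one_smul]
    · refine (weight_eq_of F hf ?_).symm
      rw [e2, nm, hG]
      simp only [map_add, LinearMap.lTensor_tmul, i₁, i₂, LinearMap.inl_apply, LinearMap.inr_apply,
        LinearMap.fst_apply, LinearMap.snd_apply, TensorProduct.tmul_zero, add_zero, zero_add]
      rw [hval, ← Algebra.TensorProduct.one_def, (G₁.mult _).1, one_mul,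
        Algebra.TensorProduct.rid_tmul, one_smul]

end Groth.L22.Gamma
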