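import Groth.Agent.L22.Gamma.Poly
import Groth.Prelude.Def_PolLaw2
import Mathlib.Algebra.TrivSqZeroExt.Basic

/-!
The tensor-power law of a module and symmetrised tensors.
-/

universe u

open scoped TensorProduct

namespace Groth.L22.Gamma

/-- The `d`-fold tensor power. -/
abbrev TP (A : Type u) [CommRing A] (M : Type u) [AddCommGroup M] [Module A M] (d : ℕ) : Type u :=
  ⨂[A] _ : Fin d, M

variable {A : Type u} [CommRing A] {M M' : Type u} [AddCommGroup M] [Module A M]
  [AddCommGroup M'] [Module A M'] {d : ℕ}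

/-- Functoriality of the tensor power in linear maps. -/
noncomputable def tmapL (d : ℕ) (g : M →ₗ[A] M') : TP A M d →ₗ[A] TP A M' d :=
  PiTensorProduct.map fun _ => g

@[simp] theorem tmapL_tprod (g : M →ₗ[A] M') (v : Fin d → M) :
    tmapL d g (PiTensorProduct.tprod A v) = PiTensorProduct.tprod A fun k => g (v k) :=
  PiTensorProduct.map_tprod _ _

theorem tmapL_comp {M'' : Type u} [AddCommGroup M''] [Module A M''] (g : M →ₗ[A] M')
    (g' : M' →ₗ[A] M'') : tmapL d (g' ∘ₗ g) = tmapL d g' ∘ₗ tmapL d g :=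
  PiTensorProduct.map_comp _ _

theorem tmapL_reindex (g : M →ₗ[A] M') (σ : Equiv.Perm (Fin d)) (t : TP A M d) :
    tmapL d g (PiTensorProduct.reindex A (fun _ : Fin d => M) σ t) =
      PiTensorProduct.reindex A (fun _ : Fin d => M') σ (tmapL d g t) := by
  induction t using PiTensorProduct.induction_on with
  | smul_tprod r v => simp [PiTensorProduct.reindex_tprod]
  | add x y hx hy => simp [hx, hy]

theorem tmapL_surjective {g : M →ₗ[A] M'} (hg : Function.Surjective g) :
    Function.Surjective (tmapL d g) := by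
  intro t
  induction t using PiTensorProduct.induction_on with
  | smul_tprod r v =>
    exact ⟨r • PiTensorProduct.tprod A fun k => Function.surjInv hg (v k), by
      simp [Function.surjInv_eq hg]⟩
  | add x y hx hy =>
    obtain ⟨a, rfl⟩ := hx
    obtain ⟨b, rfl⟩ := hy
    exact ⟨a + b, map_add _ _ _⟩

/-- The kernel of a tensor power of a surjection is spanned by the pure tensors with a factor in
the kernel. -/
theorem mem_span_of_tmapL_eq_zero {g : M →ₗ[A] M'} (hg : Function.Surjective g) {t : TP A M d}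
    (ht : tmapL d g t = 0) : t ∈ Submodule.span A
      (PiTensorProduct.tprod A '' {v : Fin d → M | ∃ k, g (v k) = 0}) := by
  classical
  set J := Submodule.span A (PiTensorProduct.tprod A '' {v : Fin d → M | ∃ k, g (v k) = 0})
  let s := Function.surjInv hg
  have hs : ∀ x, g (s x) = x := Function.surjInv_eq hg
  have hmem : ∀ (v : Fin d → M) (k), g (v k) = 0 → PiTensorProduct.tprod A v ∈ J :=
    fun v k hk => Submodule.subset_span ⟨v, ⟨k, hk⟩, rfl⟩
  have hupd : ∀ [DecidableEq (Fin d)] (v : Fin d → M) (k) (a b : M), g a = g b →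
      J.mkQ (PiTensorProduct.tprod A (Function.update v k a)) =
        J.mkQ (PiTensorProduct.tprod A (Function.update v k b)) := by
    intro _ v k a b hab
    rw [Submodule.mkQ_apply, Submodule.mkQ_apply, Submodule.Quotient.eq,
      ← MultilinearMap.map_update_sub]
    exact hmem _ k (by simp [hab])
  have hcomp : ∀ [DecidableEq (Fin d)] (v : Fin d → M') (k) (a : M'),
      (fun j => s (Function.update v k a j)) = Function.update (fun j => s (v j)) k (s a) := by
    intro _ v k a
    funext j
    rcases eq_or_ne j k with rfl | hj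
    · simp
    · simp [hj]
  let L : MultilinearMap A (fun _ : Fin d => M') (TP A M d ⧸ J) :=
    { toFun := fun v => J.mkQ (PiTensorProduct.tprod A fun k => s (v k))
      map_update_add' := fun v k a b => by
        simp only [hcomp]
        rw [← map_add, ← MultilinearMap.map_update_add]
        exact hupd _ k _ _ (by simp [hs])
      map_update_smul' := fun v k c a => by
        simp only [hcomp]
        rw [← map_smul, ← MultilinearMap.map_update_smul]
        exact hupd _ k _ _ (by simp [hs]) }
  have key : PiTensorProduct.lift L ∘ₗ tmapL d g = J.mkQ := by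
    refine PiTensorProduct.ext (MultilinearMap.ext fun v => ?_)
    simp only [LinearMap.compMultilinearMap_apply, LinearMap.comp_apply, tmapL_tprod,
      PiTensorProduct.lift.tprod]
    change J.mkQ _ = J.mkQ _
    suffices ∀ D : Finset (Fin d),
        J.mkQ (PiTensorProduct.tprod A (D.piecewise (fun k => s (g (v k))) v)) =
          J.mkQ (PiTensorProduct.tprod A v) by
      simpa using this Finset.univ
    intro D
    induction D using Finset.induction_on with
    | empty => simp
    | insert k D hk ih =>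
      have h0 : D.piecewise (fun j => s (g (v j))) v k = v k := by simp [hk]
      rw [Finset.piecewise_insert, hupd _ k _ (v k) (hs _)]
      conv_lhs => rw [← h0, Function.update_eq_self]
      exact ih
  have := DFunLike.congr_fun key t
  rw [LinearMap.comp_apply, ht, map_zero] at this
  rwa [eq_comm, Submodule.mkQ_apply, Submodule.Quotient.mk_eq_zero] at this

/-! ### Counting -/

variable {ι : Type*}

/-- The multiplicities of a function on `Fin d`. -/
noncomputable def cnt (c : Fin d → ι) : ι →₀ ℕ := ∑ k, Finsupp.single (c k) 1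

theorem cnt_apply [DecidableEq ι] (c : Fin d → ι) (i : ι) :
    cnt c i = (Finset.univ.filter fun k => c k = i).card := by
  rw [cnt, Finsupp.finsetSum_apply, Finset.card_filter]
  exact Finset.sum_congr rfl fun k _ => by rw [Finsupp.single_apply]

theorem sum_cnt (c : Fin d → ι) : ((cnt c).sum fun _ k => k) = d := by
  rw [cnt, ← Finsupp.sum_finsetSum_index (h_zero := fun _ => rfl) (h_add := fun _ _ _ => rfl)]
  simp only [Finsupp.sum_single_index]
  simp

theorem mem_support_cnt {c : Fin d → ι} {i : ι} : i ∈ (cnt c).support ↔ ∃ k, c k = i := by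
  classical
  rw [Finsupp.mem_support_iff, cnt_apply, ← Nat.pos_iff_ne_zero, Finset.card_pos]
  constructor
  · rintro ⟨k, hk⟩; exact ⟨k, (Finset.mem_filter.mp hk).2⟩
  · rintro ⟨k, hk⟩; exact ⟨k, Finset.mem_filter.mpr ⟨Finset.mem_univ k, hk⟩⟩

theorem apply_mem_support_cnt (c : Fin d → ι) (k : Fin d) : c k ∈ (cnt c).support :=
  mem_support_cnt.mpr ⟨k, rfl⟩

theorem cnt_comp_perm (c : Fin d → ι) (σ : Equiv.Perm (Fin d)) : cnt (c ∘ σ) = cnt c := by
  simpa [cnt] using Equiv.sum_comp σ fun k => Finsupp.single (c k) 1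

theorem exists_perm_of_cnt_eq {c c' : Fin d → ι} (h : cnt c = cnt c') :
    ∃ σ : Equiv.Perm (Fin d), c' = c ∘ σ := by
  classical
  have hc : ∀ i, Fintype.card {k // c' k = i} = Fintype.card {k // c k = i} := fun i => by
    rw [Fintype.card_subtype, Fintype.card_subtype]
    have := DFunLike.congr_fun h i
    rw [cnt_apply, cnt_apply] at this
    convert this.symm
  refine ⟨Equiv.ofFiberEquiv (f := c') (g := c) fun i => Fintype.equivOfCardEq (hc i),
    funext fun k => ?_⟩
  exact (Equiv.ofFiberEquiv_map _ k).symm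

theorem exists_cnt_eq (ν : ι →₀ ℕ) (h : (ν.sum fun _ k => k) = d) :
    ∃ c : Fin d → ι, cnt c = ν := by
  classical
  have hcard : Fintype.card (Σ i : ν.support, Fin (ν i)) = d := by
    rw [Fintype.card_sigma, ← h, Finsupp.sum, ← Finset.sum_coe_sort ν.support fun i => ν i]
    simp
  let e := Fintype.equivFinOfCardEq hcard
  refine ⟨fun k => ((e.symm k).1 : ι), Finsupp.ext fun i => ?_⟩
  rw [cnt, Finsupp.finsetSum_apply, Equiv.sum_comp e.symm
    (fun p => (Finsupp.single (p.1 : ι) 1 : ι →₀ ℕ) i), Fintype.sum_sigma]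
  simp only [Finsupp.single_apply, Finset.sum_const, Finset.card_univ, Fintype.card_fin,
    smul_eq_mul, mul_ite, mul_one, mul_zero]
  rw [Finset.sum_coe_sort ν.support fun j => if j = i then ν j else 0]
  simp +contextual

theorem prod_cnt [DecidableEq ι] {S : Type*} [CommMonoid S] (c : Fin d → ι) {J : Finset ι}
    (hc : ∀ k, c k ∈ J) (s : ι → S) : ∏ k, s (c k) = ∏ i ∈ J, s i ^ cnt c i := by
  rw [← Finset.prod_fiberwise_of_maps_to (t := J) (g := c) fun k _ => hc k]
  refine Finset.prod_congr rfl fun i _ => ?_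
  rw [cnt_apply, ← Finset.prod_const]
  exact Finset.prod_congr rfl fun k hk => by rw [(Finset.mem_filter.mp hk).2]

theorem prod_X_eq_monomial {ι : Type u} (c : Fin d → ι) :
    ∏ k, (MvPolynomial.X (c k) : MvPolynomial ι A) = MvPolynomial.monomial (cnt c) 1 := by
  rw [cnt, MvPolynomial.monomial_sum_one]
  rfl

open scoped Classical in
/-- The functions with given multiplicities. -/
noncomputable def symIdx (d : ℕ) (ν : ι →₀ ℕ) : Finset (Fin d → ι) :=
  (Fintype.piFinset fun _ => ν.support).filter fun c => cnt c = ν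

@[simp] theorem mem_symIdx {ν : ι →₀ ℕ} {c : Fin d → ι} : c ∈ symIdx d ν ↔ cnt c = ν := by
  classical
  simp only [symIdx, Finset.mem_filter, Fintype.mem_piFinset, and_iff_right_iff_imp]
  rintro rfl k
  exact apply_mem_support_cnt c k

variable (A) in
/-- The orbit sum of the pure tensors with given multiplicities. -/
noncomputable def sym (d : ℕ) (v : ι → M) (ν : ι →₀ ℕ) : TP A M d :=
  ∑ c ∈ symIdx d ν, PiTensorProduct.tprod A fun k => v (c k)

theorem tmapL_sym (g : M →ₗ[A] M') (v : ι → M) (ν : ι →₀ ℕ) :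
    tmapL d g (sym A d v ν) = sym A d (fun i => g (v i)) ν := by
  simp [sym]

variable (A M d) in
/-- The symmetric tensors of a module. -/
noncomputable def symT : Submodule A (TP A M d) where
  carrier := {t | ∀ σ : Equiv.Perm (Fin d), PiTensorProduct.reindex A (fun _ : Fin d => M) σ t = t}
  add_mem' {x y} hx hy σ := by rw [map_add, hx σ, hy σ]
  zero_mem' σ := map_zero _
  smul_mem' a x hx σ := by rw [map_smul, hx σ]

theorem sym_mem (v : ι → M) (ν : ι →₀ ℕ) : sym A d v ν ∈ symT A M d := by
  classical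
  intro σ
  simp only [sym, map_sum, PiTensorProduct.reindex_tprod]
  refine Finset.sum_nbij' (fun c => c ∘ σ.symm) (fun c => c ∘ σ) ?_ ?_ ?_ ?_ ?_
  · exact fun c hc => by simpa [cnt_comp_perm] using hc
  · exact fun c hc => by simpa [cnt_comp_perm] using hc
  · exact fun c _ => funext fun k => by simp
  · exact fun c _ => funext fun k => by simp
  · exact fun c _ => rfl

theorem tmapL_mem (g : M →ₗ[A] M') {t : TP A M d} (ht : t ∈ symT A M d) :
    tmapL d g t ∈ symT A M' d := fun σ => by rw [← tmapL_reindex, ht σ]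

/-! ### The tensor-power law -/

theorem prod_tmul {S R : Type u} [CommSemiring S] [Algebra A S] [CommRing R] [Algebra A R]
    {κ : Type*} (D : Finset κ) (s : κ → S) (r : κ → R) :
    ∏ k ∈ D, (s k ⊗ₜ[A] r k) = (∏ k ∈ D, s k) ⊗ₜ[A] (∏ k ∈ D, r k) := by
  classical
  induction D using Finset.induction_on with
  | empty => simp [Algebra.TensorProduct.one_def]
  | insert k D hk ih =>
    rw [Finset.prod_insert hk, Finset.prod_insert hk, Finset.prod_insert hk, ih,
      Algebra.TensorProduct.tmul_mul_tmul]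

theorem tpowLaw_sum {B : Type u} [CommRing B] [Algebra A B] {S : Type u} [CommSemiring S]
    [Algebra A S] (J : Finset ι) (s : ι → S) (b : ι → B) :
    (SymTen.tpowLaw A B d).law.toFun' S (∑ i ∈ J, s i ⊗ₜ[A] b i) =
      ∑ c ∈ Fintype.piFinset fun _ => J,
        (∏ k, s (c k)) ⊗ₜ[A] PiTensorProduct.tprod A fun k => b (c k) := by
  classical
  rw [SymTen.tpowLaw, PolLaw.MulLaw.prodMap_toFun']
  simp only [map_sum, Algebra.TensorProduct.map_tmul, AlgHom.id_apply]
  rw [Finset.prod_univ_sum]
  refine Finset.sum_congr rfl fun c _ => ?_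
  rw [prod_tmul]
  congr 1
  simp only [PiTensorProduct.singleAlgHom_apply, MonoidHom.mulSingle_apply]
  rw [← PiTensorProduct.tprod_prod]
  exact congrArg _ (Finset.univ_prod_mulSingle fun k => b (c k))

theorem exists_tlaw (A M : Type u) [CommRing A] [AddCommGroup M] [Module A M] (d : ℕ) :
    ∃ F : M →ₚₗ[A] TP A M d, PolLaw.IsHomog F d ∧
      ∀ (S : Type u) [CommSemiring S] [Algebra A S] (ι : Type u) (J : Finset ι) (s : ι → S)
        (v : ι → M), F.toFun' S (∑ i ∈ J, s i ⊗ₜ[A] v i) =
          ∑ c ∈ Fintype.piFinset fun _ => J,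
            (∏ k, s (c k)) ⊗ₜ[A] PiTensorProduct.tprod A fun k => v (c k) := by
  letI : Module Aᵐᵒᵖ M := Module.compHom M ((RingHom.id A).fromOpposite mul_comm)
  haveI : IsCentralScalar A M := ⟨fun _ _ => rfl⟩
  let i : M →ₗ[A] TrivSqZeroExt A M := TrivSqZeroExt.inrHom A M
  let r : TrivSqZeroExt A M →ₗ[A] M := TrivSqZeroExt.sndHom A M
  refine ⟨PolLaw.postcomp (tmapL d r) (PolLaw.precomp (SymTen.tpowLaw A _ d).law i),
    isHomog_postcomp (isHomog_precomp (SymTen.tpowLaw A _ d).homog i) _, fun S _ _ ι J s v => ?_⟩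
  change (tmapL d r).lTensor S
    ((SymTen.tpowLaw A _ d).law.toFun' S (i.lTensor S (∑ j ∈ J, s j ⊗ₜ[A] v j))) = _
  simp only [map_sum, LinearMap.lTensor_tmul, tpowLaw_sum, tmapL_tprod]
  rfl

variable (A M d) in
/-- The law `x ↦ x ⊗ ⋯ ⊗ x` of a module. -/
noncomputable def tlaw : M →ₚₗ[A] TP A M d := (exists_tlaw A M d).choose

theorem isHomog_tlaw : PolLaw.IsHomog (tlaw A M d) d := (exists_tlaw A M d).choose_spec.1

theorem coef_eq_sym {N : Type u} [AddCommGroup N] [Module A N] {κ : Type u}
    (F : N →ₚₗ[A] TP A M d) (w : κ → N) (v : κ → M)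
    (hF : ∀ J : Finset κ, F.toFun' (MvPolynomial κ A) (∑ i ∈ J, MvPolynomial.X i ⊗ₜ[A] w i) =
      ∑ c ∈ Fintype.piFinset fun _ => J,
        (∏ k, MvPolynomial.X (c k)) ⊗ₜ[A] PiTensorProduct.tprod A fun k => v (c k))
    (ν : κ →₀ ℕ) : coef F w ν = sym A d v ν := by
  classical
  rw [coef, gen, hF, map_sum, sym, symIdx, Finset.sum_filter]
  refine Finset.sum_congr rfl fun c _ => ?_
  rw [prod_X_eq_monomial, cof_tmul, MvPolynomial.coeff_monomial]
  split_ifs <;> simp

@[simp] theorem coef_tlaw {κ : Type u} (v : κ → M) (ν : κ →₀ ℕ) :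
    coef (tlaw A M d) v ν = sym A d v ν :=
  coef_eq_sym _ v v (fun J => (exists_tlaw A M d).choose_spec.2 _ κ J _ v) ν

theorem coef_tpowLaw {B : Type u} [CommRing B] [Algebra A B] {κ : Type u} (v : κ → B)
    (ν : κ →₀ ℕ) : coef (SymTen.tpowLaw A B d).law v ν = sym A d v ν :=
  coef_eq_sym _ v v (fun J => tpowLaw_sum J _ v) ν

end Groth.L22.Gamma
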