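import Groth.Agent.L22.Gamma.Norm
import Mathlib.RingTheory.Flat.EquationalCriterion
import Mathlib.LinearAlgebra.Basis.Prod

/-!
The symmetric tensors as a divided power algebra: flat and invertible-factorial cases.
-/

universe u

open scoped TensorProduct
open Module

namespace Groth.L22.Gamma

variable {A : Type u} [CommRing A]

theorem exists_finset_mem_span {M M' : Type u} [AddCommGroup M] [Module A M] [AddCommGroup M']
    [Module A M'] {d : ℕ} {π : M →ₗ[A] M'} {t : TP A M d}
    (ht : t ∈ Submodule.span A (PiTensorProduct.tprod A '' {v : Fin d → M | ∃ k, π (v k) = 0})) :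
    ∃ K : Finset M, (∀ x ∈ K, π x = 0) ∧
      ∀ {N : Type u} [AddCommGroup N] [Module A N] (g : M →ₗ[A] N), (∀ x ∈ K, g x = 0) →
        tmapL d g t = 0 := by
  classical
  induction ht using Submodule.span_induction with
  | mem t ht =>
    obtain ⟨v, ⟨k, hk⟩, rfl⟩ := ht
    refine ⟨{v k}, by simpa using hk, fun g hg => ?_⟩
    rw [tmapL_tprod]
    exact MultilinearMap.map_coord_zero _ k (hg _ (Finset.mem_singleton_self _))
  | zero => exact ⟨∅, by simp, fun g _ => map_zero _⟩
  | add a b _ _ ha hb =>
    obtain ⟨K₁, h₁, h₁'⟩ := ha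
    obtain ⟨K₂, h₂, h₂'⟩ := hb
    refine ⟨K₁ ∪ K₂, fun x hx => (Finset.mem_union.mp hx).elim (h₁ x) (h₂ x), fun g hg => ?_⟩
    rw [map_add, h₁' g fun x hx => hg x (Finset.mem_union_left _ hx),
      h₂' g fun x hx => hg x (Finset.mem_union_right _ hx), add_zero]
  | smul a b _ hb =>
    obtain ⟨K, h, h'⟩ := hb
    exact ⟨K, h, fun g hg => by rw [map_smul, h' g hg, smul_zero]⟩

/-- A finite family of tensors killed by a surjection onto a flat module is killed by a map to a
free module through which the surjection factors. -/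
theorem exists_free_killing {P B : Type u} [AddCommGroup P] [Module A P] [AddCommGroup B]
    [Module A B] [Module.Flat A B] {d : ℕ} {ι : Type u} (e : Basis ι A P) {π : P →ₗ[A] B}
    (hπ : Function.Surjective π) {κ : Type*} [Fintype κ] (t : κ → TP A P d)
    (ht : ∀ k, tmapL d π (t k) = 0) :
    ∃ (ι' : Type u) (F' : Type u) (_ : AddCommGroup F') (_ : Module A F') (_ : Basis ι' A F')
      (g : P →ₗ[A] F') (π' : F' →ₗ[A] B), π' ∘ₗ g = π ∧ ∀ k, tmapL d g (t k) = 0 := by
  classical
  choose K hK hK' using fun k => exists_finset_mem_span (mem_span_of_tmapL_eq_zero hπ (ht k))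
  let Kall : Finset P := Finset.univ.biUnion K
  let T : Finset ι := Kall.biUnion fun x => (e.repr x).support
  let incl : (↥T →₀ A) →ₗ[A] P := Finsupp.linearCombination A fun i => e i.1
  let f : (↥Kall →₀ A) →ₗ[A] (↥T →₀ A) :=
    Finsupp.linearCombination A fun x => Finsupp.comapDomain Subtype.val (e.repr x.1)
      Subtype.val_injective.injOn
  have hincl : ∀ x : ↥Kall, incl (Finsupp.comapDomain Subtype.val (e.repr x.1)
      Subtype.val_injective.injOn) = x.1 := by
    intro x
    have hsub : (e.repr x.1).support ⊆ T :=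
      Finset.subset_biUnion_of_mem (fun y => (e.repr y).support) x.2
    conv_rhs => rw [← e.linearCombination_repr x.1, Finsupp.linearCombination_apply,
      Finsupp.sum_of_support_subset _ hsub (fun i a => a • e i) fun i _ => zero_smul A _]
    rw [Finsupp.linearCombination_apply, Finsupp.sum_of_support_subset _ (Finset.subset_univ _)
      (fun (i : ↥T) a => a • e i.1) fun i _ => zero_smul A _, ← Finset.sum_coe_sort T]
    simp
  have hzero : (π ∘ₗ incl) ∘ₗ f = 0 := by
    refine Finsupp.lhom_ext fun x a => ?_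
    obtain ⟨k, -, hk⟩ := Finset.mem_biUnion.mp x.2
    simp [f, hincl, hK k _ hk]
  obtain ⟨n, a, y, hya, haf⟩ := Module.Flat.exists_factorization_of_comp_eq_zero_of_free hzero
  let g₀ : ι → (Fin n →₀ A) × (ι →₀ A) := fun i =>
    if h : i ∈ T then (a (Finsupp.single ⟨i, h⟩ 1), 0) else (0, Finsupp.single i 1)
  let g := e.constr A g₀
  let π' : (Fin n →₀ A) × (ι →₀ A) →ₗ[A] B :=
    y.coprod (Finsupp.linearCombination A fun i => π (e i))
  refine ⟨Fin n ⊕ ι, (Fin n →₀ A) × (ι →₀ A), inferInstance, inferInstance,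
    Finsupp.basisSingleOne.prod Finsupp.basisSingleOne, g, π', e.ext fun i => ?_, fun k => ?_⟩
  · simp only [LinearMap.comp_apply, g, Basis.constr_basis, g₀]
    split_ifs with h
    · have := DFunLike.congr_fun hya (Finsupp.single ⟨i, h⟩ 1)
      simp only [LinearMap.comp_apply] at this
      simp [π', ← this, incl]
    · simp [π']
  · refine hK' k g fun x hx => ?_
    have hx' : x ∈ Kall := Finset.mem_biUnion.mpr ⟨k, Finset.mem_univ k, hx⟩
    have hcomp : g ∘ₗ incl = (LinearMap.inl A _ _) ∘ₗ a := by
      refine Finsupp.lhom_ext fun i r => ?_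
      have : a (Finsupp.single i r) = r • a (Finsupp.single i 1) := by
        rw [← map_smul, Finsupp.smul_single_one]
      simp [incl, g, g₀, i.2, this]
    rw [← show incl _ = x from hincl ⟨x, hx'⟩, ← LinearMap.comp_apply, hcomp, LinearMap.comp_apply]
    have := DFunLike.congr_fun haf (Finsupp.single ⟨x, hx'⟩ 1)
    simp only [LinearMap.comp_apply, f, Finsupp.linearCombination_single, one_smul] at this
    rw [this]
    simp

variable {P B : Type u} [CommRing P] [Algebra A P] [CommRing B] [Algebra A B] {d : ℕ} {ι : Type u}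

theorem TSmap_val (π : P →ₐ[A] B) (z : SymTen.TS A P d) :
    (SymTen.TS A B d).val (SymTen.TSmap A d π z) =
      tmapL d π.toLinearMap ((SymTen.TS A P d).val z) := tmap_eq_tmapL π _

theorem surjective_TSmap_of_flat [Module.Flat A B] (e : Basis ι A P) {π : P →ₐ[A] B}
    (hπ : Function.Surjective π) : Function.Surjective (SymTen.TSmap A d π) := by
  classical
  intro y
  obtain ⟨z, hz⟩ := tmapL_surjective (d := d) (g := π.toLinearMap) hπ ((SymTen.TS A B d).val y)
  obtain ⟨ι', F', _, _, e', g, π', hg, hker⟩ := exists_free_killing e (π := π.toLinearMap) hπ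
    (fun σ : Equiv.Perm (Fin d) => PiTensorProduct.reindex A (fun _ : Fin d => P) σ z - z)
    (fun σ => by rw [map_sub, tmapL_reindex, hz, sub_eq_zero]; exact y.2 σ)
  have hmem : tmapL d g z ∈ symT A F' d := fun σ => by
    rw [← tmapL_reindex, ← sub_eq_zero, ← map_sub]; exact hker σ
  choose w hw using fun i => hπ (π' (e' i))
  have key : Submodule.span A (Set.range (sym A d e')) ≤
      ((symT A P d).map (tmapL d π.toLinearMap)).comap (tmapL d π') := by
    rw [Submodule.span_le]
    rintro _ ⟨ν, rfl⟩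
    refine ⟨sym A d w ν, sym_mem _ _, ?_⟩
    simp [tmapL_sym, hw]
  obtain ⟨u, hu, hu'⟩ := key (symT_le_span e' hmem)
  refine ⟨⟨u, mem_TS_iff.mpr hu⟩, Subtype.val_injective ?_⟩
  change (SymTen.TS A B d).val (SymTen.TSmap A d π ⟨u, _⟩) = (SymTen.TS A B d).val y
  rw [TSmap_val, ← hz]
  refine hu'.trans ?_
  rw [← LinearMap.comp_apply, ← tmapL_comp, hg]

theorem theta_eq_zero_of_flat [Module.Flat A B] (e : Basis ι A P) {π : P →ₐ[A] B}
    (hπ : Function.Surjective π) {N : Type u} [AddCommGroup N] [Module A N] {F : B →ₚₗ[A] N}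
    (hF : PolLaw.IsHomog F d) {z : TP A P d} (hz : z ∈ symT A P d)
    (hz0 : tmapL d π.toLinearMap z = 0) :
    theta d e (PolLaw.precomp F π.toLinearMap) z = 0 := by
  obtain ⟨ι', F', _, _, e', g, π', hg, hker⟩ := exists_free_killing e (π := π.toLinearMap) hπ
    (fun _ : Fin 1 => z) (fun _ => hz0)
  rw [← hg, ← precomp_precomp, ← theta_tmapL e' e (isHomog_precomp hF π') g hz, hker 0, map_zero]

theorem surjective_TSmap_of_isUnit (hd : IsUnit ((d.factorial : ℕ) : A)) {π : P →ₐ[A] B}
    (hπ : Function.Surjective π) : Function.Surjective (SymTen.TSmap A d π) := by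
  intro y
  obtain ⟨w, hw⟩ := tmap_surjective (d := d) hπ ((SymTen.TS A B d).val y)
  obtain ⟨u, hu⟩ := hd
  refine ⟨(↑u⁻¹ : A) • ⟨symmetrise A P d w, mem_TS_iff.mpr (symmetrise_mem w)⟩,
    Subtype.val_injective ?_⟩
  change SymTen.tmap A d π ((↑u⁻¹ : A) • symmetrise A P d w) = (SymTen.TS A B d).val y
  rw [map_smul, tmap_symmetrise, hw, symmetrise_self, ← Nat.cast_smul_eq_nsmul A, ← hu, smul_smul,
    Units.inv_mul, one_smul]

theorem theta_eq_zero_of_isUnit (hd : IsUnit ((d.factorial : ℕ) : A)) (e : Basis ι A P)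
    {π : P →ₐ[A] B} (hπ : Function.Surjective π) {C : Type u} [CommRing C] [Algebra A C]
    (F : PolLaw.MulLaw A B C d) {z : SymTen.TS A P d}
    (hz0 : tmapL d π.toLinearMap ((SymTen.TS A P d).val z) = 0) :
    thetaHom e (F.precomp π) z = 0 := by
  have h := theta_symmetrise_eq_zero e π hπ F hz0
  rw [symmetrise_self, map_nsmul, ← thetaHom_apply, ← Nat.cast_smul_eq_nsmul A,
    hd.smul_eq_zero] at h
  exact h

/-- `TS` is the divided power algebra when the presentation maps onto it and the laws factor. -/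
theorem exists_isGammaD (e : Basis ι A P) {π : P →ₐ[A] B} (hπ : Function.Surjective π)
    (hsurj : Function.Surjective (SymTen.TSmap A d π))
    (hker : ∀ (C : Type u) [CommRing C] [Algebra A C] (F : PolLaw.MulLaw A B C d)
      (z : SymTen.TS A P d), SymTen.TSmap A d π z = 0 → thetaHom e (F.precomp π) z = 0) :
    ∃ τ : PolLaw.MulLaw A B (SymTen.TS A B d) d,
      PolLaw.postcomp (SymTen.TS A B d).val.toLinearMap τ.law = (SymTen.tpowLaw A B d).law ∧
      PolLaw.IsGammaD τ := by
  have hcoef : ∀ (κ : Type u) (v : κ → P) (ν : κ →₀ ℕ), (SymTen.TS A B d).val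
      (coef ((tauFree d e).postcomp (SymTen.TSmap A d π)).law v ν) =
        sym A d (fun i => π (v i)) ν := by
    intro κ v ν
    change (SymTen.TS A B d).val (coef (PolLaw.postcomp _ (tauFree d e).law) v ν) = _
    rw [coef_postcomp, AlgHom.toLinearMap_apply, TSmap_val, coef_tauFree, tmapL_sym]
    rfl
  obtain ⟨τ, hτ⟩ := exists_descend ((tauFree d e).postcomp (SymTen.TSmap A d π)) π hπ
    (fun κ v ν ⟨i, hi, hv⟩ => Subtype.val_injective (by
      change (SymTen.TS A B d).val _ = (SymTen.TS A B d).val 0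
      rw [hcoef, map_zero, ← coef_tpowLaw]
      exact coef_eq_zero_of_apply_eq_zero _ _ hi hv))
  refine ⟨τ, ?_, fun C _ _ F => ?_⟩
  · apply precomp_injective π.toLinearMap hπ
    refine ext_of_coef (isHomog_precomp (isHomog_postcomp τ.homog _) _)
      (isHomog_precomp (SymTen.tpowLaw A B d).homog _) e.span_eq fun ν _ => ?_
    change coef (PolLaw.postcomp (SymTen.TS A B d).val.toLinearMap (τ.precomp π).law) e ν = _
    rw [hτ, coef_postcomp, coef_precomp, coef_tpowLaw]
    exact hcoef _ e ν
  · obtain ⟨θ, hθ⟩ : ∃ θ, θ = thetaHom e (F.precomp π) := ⟨_, rfl⟩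
    let f : SymTen.TS A B d →ₐ[A] C :=
      (Ideal.Quotient.liftₐ (RingHom.ker (SymTen.TSmap A d π)) θ
        (fun z hz => hθ ▸ hker C F z hz)).comp
        (Ideal.quotientKerAlgEquivOfSurjective hsurj).symm.toAlgHom
    have hf : ∀ z, f (SymTen.TSmap A d π z) = θ z := by
      intro z
      have : (Ideal.quotientKerAlgEquivOfSurjective hsurj).symm (SymTen.TSmap A d π z) =
          Ideal.Quotient.mk _ z := by
        rw [AlgEquiv.symm_apply_eq]; rfl
      simp [f, this]
    refine ⟨f, ?_, fun f' hf' => ?_⟩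
    · apply precomp_injective π.toLinearMap hπ
      change PolLaw.postcomp f.toLinearMap (τ.precomp π).law = _
      rw [hτ]
      change PolLaw.postcomp _ (PolLaw.postcomp _ _) = _
      rw [postcomp_postcomp, show f.toLinearMap ∘ₗ (SymTen.TSmap A d π).toLinearMap = θ.toLinearMap
        from LinearMap.ext hf, hθ, postcomp_thetaHom]
      rfl
    · have h' : f'.comp (SymTen.TSmap A d π) = θ := by
        rw [hθ]
        refine eq_thetaHom e (F.precomp π) _ ?_
        change PolLaw.postcomp (f'.toLinearMap ∘ₗ (SymTen.TSmap A d π).toLinearMap) _ = _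
        rw [← postcomp_postcomp]
        change PolLaw.postcomp f'.toLinearMap ((tauFree d e).postcomp (SymTen.TSmap A d π)).law = _
        rw [← hτ]
        change PolLaw.precomp (PolLaw.postcomp f'.toLinearMap τ.law) π.toLinearMap = _
        rw [hf']
        rfl
      refine AlgHom.ext fun y => ?_
      obtain ⟨z, rfl⟩ := hsurj y
      rw [hf, ← h']
      rfl

theorem exists_isGammaD_of_flat_or_isUnit {A B : Type u} [CommRing A] [CommRing B] [Algebra A B]
    (d : ℕ) (h : Module.Flat A B ∨ IsUnit ((d.factorial : ℕ) : A)) :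
    ∃ τ : PolLaw.MulLaw A B (SymTen.TS A B d) d,
      PolLaw.postcomp (SymTen.TS A B d).val.toLinearMap τ.law = (SymTen.tpowLaw A B d).law ∧
      PolLaw.IsGammaD τ := by
  have hπ : Function.Surjective (presHom A B) := presHom_surjective
  rcases h with h | h
  · refine exists_isGammaD (monBasis A B) hπ (surjective_TSmap_of_flat (monBasis A B) hπ)
      fun C _ _ F z hz => ?_
    exact theta_eq_zero_of_flat (monBasis A B) hπ F.homog (mem_TS_iff.mp z.2)
      (by change tmapL d _ ((SymTen.TS A _ d).val z) = 0; rw [← TSmap_val, hz, map_zero])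
  · exact exists_isGammaD (monBasis A B) hπ (surjective_TSmap_of_isUnit h hπ)
      fun C _ _ F z hz => theta_eq_zero_of_isUnit h (monBasis A B) hπ F
        (by rw [← TSmap_val, hz, map_zero])

/-- The symmetric tensors of a flat algebra are flat. -/
theorem flat_TS_of_flat {A B : Type u} [CommRing A] [CommRing B] [Algebra A B] [Module.Flat A B]
    (d : ℕ) : Module.Flat A (SymTen.TS A B d) := by
  classical
  let e := monBasis A B
  let π := presHom A B
  have hπ : Function.Surjective π := presHom_surjective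
  refine Module.Flat.of_forall_isTrivialRelation fun {l} {a} {x} hrel => ?_
  choose z hz using fun i => surjective_TSmap_of_flat (d := d) e hπ (x i)
  let t : TP A (MvPolynomial B A) d := ∑ i, a i • (SymTen.TS A _ d).val (z i)
  have ht : tmapL d π.toLinearMap t = 0 := by
    have := congrArg (SymTen.TS A B d).val hrel
    simpa [t, map_sum, ← hz, TSmap_val] using this
  obtain ⟨ι', F', _, _, e', g, π', hg, hker⟩ := exists_free_killing e (π := π.toLinearMap) hπ
    (fun _ : Fin 1 => t) (fun _ => ht)
  let z' : Fin l → symT A F' d := fun i =>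
    ⟨tmapL d g ((SymTen.TS A _ d).val (z i)), tmapL_mem g (mem_TS_iff.mp (z i).2)⟩
  haveI : Module.Free A (TP A F' d) := Module.Free.of_basis (tbasis d e')
  haveI : Module.Flat A (symT A F' d) := Module.Flat.of_retract (symT A F' d).subtype
    ((symLift d e' (sym A d e')).codRestrict (symT A F' d) fun t =>
      symLift_mem e' _ _ (fun ν => sym_mem _ ν) t)
    (LinearMap.ext fun y => Subtype.ext (symLift_self e' y.2))
  have hrel' : ∑ i, a i • z' i = 0 := by
    apply Subtype.val_injective
    simpa [z', t, map_sum] using hker 0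
  obtain ⟨k, c, y, hy, hc⟩ := Module.Flat.iff_forall_isTrivialRelation.mp inferInstance hrel'
  refine ⟨k, c, fun j => ⟨tmapL d π' (y j), mem_TS_iff.mpr (tmapL_mem π' (y j).2)⟩,
    fun i => Subtype.val_injective ?_, hc⟩
  have := congrArg (fun w : symT A F' d => tmapL d π' (w : TP A F' d)) (hy i)
  simp only [z', ← LinearMap.comp_apply, ← tmapL_comp, hg] at this
  change (SymTen.TS A B d).val (x i) = (SymTen.TS A B d).val _
  rw [← hz i, TSmap_val, this]
  simp [map_sum]

end Groth.L22.Gamma
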