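import Groth.Agent.L22.Gamma.Alg
import Mathlib.Algebra.Polynomial.AlgebraMap

/-!
Values of multiplicative laws with values in the base ring, and characteristic polynomials.
-/

universe u

open scoped TensorProduct Polynomial

namespace Groth.L22.Gamma

variable {A B : Type u} [CommRing A] [CommRing B] [Algebra A B] {d : ℕ}

variable (F : PolLaw.MulLaw A B A d)

/-- The value of a law with values in the base, as an element of the test algebra. -/
noncomputable def nm (R : Type u) [CommSemiring R] [Algebra A R] (x : R ⊗[A] B) : R :=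
  Algebra.TensorProduct.rid A A R (F.law.toFun' R x)

section Basic

variable {R R' : Type u} [CommSemiring R] [Algebra A R] [CommSemiring R'] [Algebra A R']

theorem toFun'_eq_nm_tmul (x : R ⊗[A] B) : F.law.toFun' R x = nm F R x ⊗ₜ[A] 1 := by
  exact ((Algebra.TensorProduct.rid A A R).symm_apply_apply _).symm

theorem nm_inj {x y : R ⊗[A] B} : nm F R x = nm F R y ↔ F.law.toFun' R x = F.law.toFun' R y :=
  (Algebra.TensorProduct.rid A A R).injective.eq_iff

theorem nm_one : nm F R 1 = 1 := by
  rw [nm, (F.mult R).1, map_one]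

theorem nm_mul (x y : R ⊗[A] B) : nm F R (x * y) = nm F R x * nm F R y := by
  rw [nm, (F.mult R).2, map_mul]; rfl

theorem nm_pow (x : R ⊗[A] B) (n : ℕ) : nm F R (x ^ n) = nm F R x ^ n := by
  induction n with
  | zero => rw [pow_zero, pow_zero, nm_one]
  | succ n ih => rw [pow_succ, nm_mul, ih, pow_succ]

theorem nm_smul (r : R) (x : R ⊗[A] B) : nm F R (r • x) = r ^ d * nm F R x := by
  rw [nm, nm, F.homog]
  generalize F.law.toFun' R x = z
  induction z using TensorProduct.induction_on with
  | zero => simp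
  | tmul a c => simp [TensorProduct.smul_tmul']
  | add a b ha hb => simp only [smul_add, map_add, ha, hb, mul_add]

theorem map_nm (φ : R →ₐ[A] R') (x : R ⊗[A] B) :
    φ (nm F R x) = nm F R' (φ.toLinearMap.rTensor B x) := by
  rw [nm, nm, ← PolynomialLaw.isCompat_apply']
  generalize F.law.toFun' R x = z
  induction z using TensorProduct.induction_on with
  | zero => simp
  | tmul a c => simp [map_smul]
  | add a b ha hb => simp only [map_add, ha, hb]

theorem nm_map (φ : R →ₐ[A] R') (x : R ⊗[A] B) :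
    nm F R' (Algebra.TensorProduct.map φ (AlgHom.id A B) x) = φ (nm F R x) := by
  rw [map_nm]
  congr 1

theorem nm_algebraMap (r : R) : nm F R (r ⊗ₜ[A] 1) = r ^ d := by
  rw [show r ⊗ₜ[A] (1 : B) = r • (1 : R ⊗[A] B) by
    rw [Algebra.TensorProduct.one_def, TensorProduct.smul_tmul', smul_eq_mul, mul_one],
    nm_smul, nm_one, mul_one]

theorem nm_precomp {B' : Type u} [CommRing B'] [Algebra A B'] (φ : B' →ₐ[A] B) (x : R ⊗[A] B') :
    nm (F.precomp φ) R x = nm F R (Algebra.TensorProduct.map (AlgHom.id A R) φ x) := by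
  rw [nm, nm]
  congr 1

end Basic

variable (A' : Type u) [CommRing A'] [Algebra A A']

/-- The element of `R ⊗ B` induced by an element of `A' ⊗ B`. -/
noncomputable abbrev img (R : Type u) [CommSemiring R] [Algebra A R] [Algebra A' R]
    [IsScalarTower A A' R] : A' ⊗[A] B →ₐ[A] R ⊗[A] B :=
  Algebra.TensorProduct.map (IsScalarTower.toAlgHom A A' R) (AlgHom.id A B)

variable {A'}

/-- The characteristic polynomial of an element with respect to a law. -/
noncomputable def cpoly (y : A' ⊗[A] B) : A'[X] :=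
  nm F A'[X] (img A' A'[X] y - Polynomial.X ⊗ₜ[A] (1 : B))

theorem cpoly_map {A'' : Type u} [CommRing A''] [Algebra A A''] (g : A' →ₐ[A] A'')
    (y : A' ⊗[A] B) :
    cpoly F (Algebra.TensorProduct.map g (AlgHom.id A B) y) = (cpoly F y).map g.toRingHom := by
  have h : (cpoly F y).map g.toRingHom = Polynomial.mapAlgHom g (cpoly F y) := rfl
  rw [h, cpoly, cpoly, ← nm_map F (Polynomial.mapAlgHom g), map_sub, Algebra.TensorProduct.map_tmul,
    map_one]
  congr 2
  · rw [← AlgHom.comp_apply, ← AlgHom.comp_apply, ← Algebra.TensorProduct.map_comp,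
      ← Algebra.TensorProduct.map_comp]
    congr 2
    ext r
    simp
  · simp

theorem cpoly_precomp {B' : Type u} [CommRing B'] [Algebra A B'] (φ : B' →ₐ[A] B)
    (y : A' ⊗[A] B') :
    cpoly (F.precomp φ) y = cpoly F (Algebra.TensorProduct.map (AlgHom.id A A') φ y) := by
  rw [cpoly, cpoly, nm_precomp, map_sub, Algebra.TensorProduct.map_tmul, map_one]
  congr 2
  rw [← AlgHom.comp_apply, ← AlgHom.comp_apply, ← Algebra.TensorProduct.map_comp,
    ← Algebra.TensorProduct.map_comp]
  congr 2

theorem natDegree_cpoly_le_and_coeff (y : A' ⊗[A] B) :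
    (cpoly F y).natDegree ≤ d ∧ (cpoly F y).coeff d = (-1) ^ d := by
  classical
  obtain ⟨n, a, b, rfl⟩ := TensorProduct.exists_sum_tmul_eq y
  let v : ULift.{u} (Option (Fin n)) → B := fun i => i.down.elim 1 b
  let s : (Fin n → A') → ULift.{u} (Option (Fin n)) → A'[X] := fun a i =>
    i.down.elim (-Polynomial.X) fun j => Polynomial.C (a j)
  have key : ∀ a : Fin n → A', cpoly F (∑ j, a j ⊗ₜ[A] b j) =
      ∑ ν ∈ Finset.univ.finsuppAntidiag d, (coef F.law v ν) • ∏ i, s a i ^ ν i := by
    intro a
    have hz : img A' A'[X] (∑ j, a j ⊗ₜ[A] b j) - Polynomial.X ⊗ₜ[A] (1 : B) =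
        ∑ i, s a i ⊗ₜ[A] v i := by
      rw [← Equiv.sum_comp Equiv.ulift.symm, Fintype.sum_option, sub_eq_neg_add,
        ← TensorProduct.neg_tmul, map_sum]
      rfl
    rw [cpoly, hz, nm, apply_sum F.homog, map_sum]
    exact Finset.sum_congr rfl fun ν _ => rfl
  have hbound : ∀ (a : Fin n → A') (ν : ULift.{u} (Option (Fin n)) →₀ ℕ),
      (coef F.law v ν) • ∏ i, s a i ^ ν i =
        Polynomial.C (coef F.law v ν • ((-1) ^ ν ⟨none⟩ * ∏ j, a j ^ ν ⟨some j⟩)) *
          Polynomial.X ^ ν ⟨none⟩ := by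
    intro a ν
    rw [← Equiv.prod_comp Equiv.ulift.symm, Fintype.prod_option]
    simp only [s, Equiv.ulift_symm_apply, Option.elim_none, Option.elim_some, ← map_pow, ← map_prod]
    rw [neg_pow, ← Polynomial.smul_C, map_mul, Algebra.smul_def, Algebra.smul_def]
    simp only [map_pow, map_neg, map_one]
    ring
  have hle : ∀ ν ∈ (Finset.univ : Finset (ULift.{u} (Option (Fin n)))).finsuppAntidiag d,
      ν ⟨none⟩ ≤ d := by
    intro ν hν
    rw [Finset.mem_finsuppAntidiag] at hν
    rw [← hν.1]
    exact Finset.single_le_sum (fun i _ => Nat.zero_le _) (Finset.mem_univ _)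
  refine ⟨?_, ?_⟩
  · rw [key]
    refine Polynomial.natDegree_sum_le_of_forall_le _ _ fun ν hν => ?_
    rw [hbound]
    exact (Polynomial.natDegree_C_mul_X_pow_le _ _).trans (hle ν hν)
  · have h0 : (cpoly F (∑ j, a j ⊗ₜ[A] b j)).coeff d =
        (cpoly F (∑ j, (0 : Fin n → A') j ⊗ₜ[A] b j)).coeff d := by
      rw [key, key, Polynomial.finset_sum_coeff, Polynomial.finset_sum_coeff]
      refine Finset.sum_congr rfl fun ν hν => ?_
      simp only [hbound, Polynomial.coeff_C_mul_X_pow]
      split_ifs with h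
      · congr 2
        refine Finset.prod_congr rfl fun j _ => ?_
        have : ν ⟨some j⟩ = 0 := by
          rw [Finset.mem_finsuppAntidiag] at hν
          have h2 := Finset.add_sum_erase Finset.univ ν (Finset.mem_univ (⟨none⟩ : ULift _))
          rw [hν.1, ← h] at h2
          have h3 := Finset.single_le_sum (f := fun i => ν i) (fun i _ => Nat.zero_le _)
            (show (⟨some j⟩ : ULift (Option (Fin n))) ∈ Finset.univ.erase ⟨none⟩ by simp)
          omega
        simp [this]
      · rfl
    rw [h0, cpoly]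
    simp only [Pi.zero_apply, TensorProduct.zero_tmul, Finset.sum_const_zero, map_zero, zero_sub,
      ← TensorProduct.neg_tmul, nm_algebraMap]
    rw [neg_pow, ← map_one (Polynomial.C : A' →+* A'[X]), ← map_neg, ← map_pow,
      Polynomial.coeff_C_mul_X_pow, if_pos rfl]

theorem cpoly_natDegree_le (y : A' ⊗[A] B) : (cpoly F y).natDegree ≤ d :=
  (natDegree_cpoly_le_and_coeff F y).1

theorem cpoly_coeff_top (y : A' ⊗[A] B) : (cpoly F y).coeff d = (-1) ^ d :=
  (natDegree_cpoly_le_and_coeff F y).2

theorem cpoly_eq_of_mem {y : A' ⊗[A] B} (hy : y ∈ PolLaw.kerBC F.law A') :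
    cpoly F y = (-Polynomial.X) ^ d := by
  rw [← nm_algebraMap F (-Polynomial.X : A'[X]), cpoly, nm_inj, sub_eq_neg_add,
    ← TensorProduct.neg_tmul]
  simpa using hy A'[X] ((-Polynomial.X) ⊗ₜ[A] (1 : B)) 1

end Groth.L22.Gamma
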